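import Cfsg.Agent.H695.OneZero.DetMain_mg_m3
import Cfsg.Agent.H730.OZ.Known_m3
import Cfsg.Agent.H769.OZ.SpIso
import Cfsg.Agent.Nodes.WittInst
import Cfsg.Agent.H769.OZ.Levi
import Cfsg.Agent.H985.VZ.Defs
import Mathlib
import Cfsg.Agent.Nodes.TypeD
import Cfsg.Agent.Tits.Core
import Cfsg.Agent.H965.XZ.Walk
import Cfsg.Agent.H985.VZ.Cells_m3
import Cfsg.Agent.H554.RGNo
import Cfsg.Agent.H477.HC.Arith_m3
import Cfsg.Agent.H953.Sympl
import Cfsg.Agent.LieClassical.SympPerfect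
import Cfsg.Agent.LieClassical.SpFourTwo
import Cfsg.Agent.H849.OZ.Bad_m3
import Cfsg.Agent.S0244
import Cfsg.Agent.H530.OZ.Geo
import Cfsg.Agent.H93.CJ.OOdd
import Cfsg.Agent.H530.OZ.RowF_m3
import Cfsg.Agent.H160.QSemi
import Cfsg.Agent.H150.OrthRel
import Cfsg.Agent.S0286
import Cfsg.Agent.Nodes.RGDClass
import Cfsg.Agent.LieClassical.OrthThreeOmega
import Cfsg.Agent.H899.O7.Spec
import Cfsg.Agent.H730.OZ.Asm
import Cfsg.Agent.H62.FrameSL
import Cfsg.Agent.Nodes.WittAll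
import Cfsg.Agent.TitsThree.KInstSp
import Cfsg.Agent.H985.VZ.GTwo_m3
import Cfsg.Agent.ClassicalGeometry.SympInvolutions
import Cfsg.Prelude.Def_Classical
import Cfsg.Agent.S0245
import Cfsg.Agent.H376.SpEmb
import Cfsg.Agent.H277.ClsPsp
import Cfsg.Agent.LieClassical.FieldTransfer
import Cfsg.Agent.H121.OZ.JTwoCls_m3
import Cfsg.Agent.Lib.FinFast
import Cfsg.Agent.H727.PslSq
import Cfsg.Agent.S2300
import Cfsg.Agent.WeakTI.PslTwo
import Cfsg.Agent.H679.OneNonlin
import Cfsg.Agent.ClassicalGeometry.PSL2Basic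
import Cfsg.Agent.LieClassical.OrthFourMinus
import Cfsg.Agent.H115.PelQuot
import Cfsg.Agent.FastGrp
import Cfsg.Agent.Prune
set_option linter.all false

section
prune_inst 0x7f9ca9f8a8a801dedfff7e3fa698cdfc10800fffa6dff94bffe0619f0b9f030009c1f38509e010fc0ed6401410287803f97eeeffe06bd87ffffd1ff41ffbee0fa5e7b508119488340f300ffe03f0778e6f3fffffffffffffffffffffffffffbeffbdfbfeffff

-- part: H695/OneZero/RankOne
section
prune_inst 0x4010000
set_option linter.all false
open scoped Cfsg.Agent.FastGrp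

/-!
# The congruence from an element whose centralizer is of rank one

`RankOneAt.dvd` : `G` finite with a configuration `RankOneAt G p r q` (`H695.OneZero.RankOneDef`), `χ` an
irreducible character with exactly one class of zeros, `∑ χ = e p^m χ(1)` over the `p`-elements:
`r` divides `e p^m - #{p-elements}` or `e p^m + q`.
-/

set_option autoImplicit false
set_option linter.unusedSectionVars false

namespace Cfsg.Agent.H695.OneZero

open Cfsg Cfsg.Agent.Characters Finset Cfsg.Agent.Blocks.Basic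

universe u

section Const

variable {G : Type u} [Group G] [Fintype G] {r : ℕ} [Fact r.Prime]

/-- All constituents of `k ↦ χ (y k)` on `K` are conjugate under the normalizer of `R`. -/
theorem constituents (R : Sylow r G) {y : G}
    (hab : (R : Subgroup G) ≤ Subgroup.centralizer ((R : Subgroup G) : Set G))
    (hy : y ∈ R)
    (hC : Subgroup.centralizer ({y} : Set G) = Subgroup.centralizer ((R : Subgroup G) : Set G))
    (K : Subgroup G) [Fintype K] (hKC : K ≤ Subgroup.centralizer ((R : Subgroup G) : Set G))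
    (hKr : ¬ r ∣ Nat.card K)
    (hKN : ∀ n ∈ Subgroup.normalizer ((R : Subgroup G) : Set G), ∀ k ∈ K, n * k * n⁻¹ ∈ K)
    (χ : IrrCharacter G) {φ φ' : IrrCharacter K}
    (h : classInner (fun k : K => (χ : G → ℂ) (y * k)) φ.1 ≠ 0)
    (h' : classInner (fun k : K => (χ : G → ℂ) (y * k)) φ'.1 ≠ 0) :
    ∃ m, ∃ hm : m ∈ Subgroup.normalizer ((R : Subgroup G) : Set G), ∀ k : K,
      φ'.1 k = φ.1 ⟨m * (k : G) * m⁻¹, hKN m hm k k.2⟩ := by
  classical
  obtain ⟨M, hM⟩ := Cfsg.Agent.Blocks.ExistsModular.exists_isPModular (Fact.out : r.Prime)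
  have : M.IsPrime := hM.2.1.isPrime
  have hKL : K ≤ Subgroup.centralizer ({y} : Set G) := by rw [hC]; exact hKC
  have habL : (R : Subgroup G) ≤ Subgroup.centralizer ({y} : Set G) := by rw [hC]; exact hab
  have hfin := Core.finite_irr (G := Subgroup.centralizer ({y} : Set G))
  have : Fintype (IrrCharacter (Subgroup.centralizer ({y} : Set G))) := Fintype.ofFinite _
  have hyk : ∃ k : ℕ, orderOf y = r ^ k := by
    obtain ⟨k, hk⟩ := IsPGroup.iff_orderOf.mp R.isPGroup' ⟨y, hy⟩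
    exact ⟨k, by rw [← hk, Subgroup.orderOf_mk]⟩
  have hB : IsPBlock M (blockOf M χ.1) := ⟨χ, rfl⟩
  obtain ⟨S, hS⟩ : ∃ S : Finset (IrrCharacter (Subgroup.centralizer ({y} : Set G))),
      ∀ ψ, ψ ∈ S ↔ IsInducedBlock M (Subgroup.centralizer ({y} : Set G)) (blockOf M ψ.1)
        (blockOf M χ.1) :=
    ⟨Finset.univ.filter fun ψ => IsInducedBlock M (Subgroup.centralizer ({y} : Set G))
      (blockOf M ψ.1) (blockOf M χ.1), fun ψ => by simp⟩
  obtain ⟨a, hval⟩ : ∃ a : IrrCharacter (Subgroup.centralizer ({y} : Set G)) → ℂ,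
      ∀ k : K, (χ : G → ℂ) (y * k) = ∑ ψ ∈ S, a ψ * ψ.1 ⟨(k : G), hKL k.2⟩ := by
    refine ⟨fun ψ => classInner (lf y χ) ψ.1, fun k => ?_⟩
    refine apply_eq_sum_induced hM hyk hB (mem_blockOf_self χ) S hS ⟨k, hKL k.2⟩ ?_
    intro h
    apply hKr
    refine dvd_trans h ?_
    rw [Subgroup.orderOf_mk, Subgroup.orderOf_coe]
    exact orderOf_dvd_natCard k
  let e : K.subgroupOf (Subgroup.centralizer ({y} : Set G)) ≃* K := Subgroup.subgroupOfEquivOfLe hKL
  have hft : Fintype (K.subgroupOf (Subgroup.centralizer ({y} : Set G))) :=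
    Fintype.ofEquiv K e.symm.toEquiv
  -- a member of `S` with the constituent
  have hex : ∀ φ : IrrCharacter K, classInner (fun k : K => (χ : G → ℂ) (y * k)) φ.1 ≠ 0 →
      ∃ ψ ∈ S, classInner (fun k : K.subgroupOf (Subgroup.centralizer ({y} : Set G)) => ψ.1 k)
        (φ.1 ∘ e) ≠ 0 := by
    intro φ hφ
    by_contra hne
    push Not at hne
    apply hφ
    have h1 : classInner (fun k : K => (χ : G → ℂ) (y * k)) φ.1 =
        ∑ ψ ∈ S, a ψ * classInner (fun k : K => ψ.1 ⟨(k : G), hKL k.2⟩) φ.1 := by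
      unfold classInner
      have h5 : ∀ k : K, (χ : G → ℂ) (y * k) * (starRingEnd ℂ) (φ.1 k) =
          ∑ ψ ∈ S, a ψ * ψ.1 ⟨(k : G), hKL k.2⟩ * (starRingEnd ℂ) (φ.1 k) := fun k => by
        rw [hval k, Finset.sum_mul]
      rw [Finset.sum_congr rfl fun k _ => h5 k, Finset.sum_comm, Finset.mul_sum]
      refine Finset.sum_congr rfl fun ψ _ => ?_
      rw [Finset.mul_sum, Finset.mul_sum, Finset.mul_sum]
      refine Finset.sum_congr rfl fun k _ => ?_
      ring
    rw [h1]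
    refine Finset.sum_eq_zero fun ψ hψ => ?_
    have h2 := Clifford.classInner_comp_mulEquiv e (fun k : K => ψ.1 ⟨(k : G), hKL k.2⟩) φ.1
    have h3 := hne ψ hψ
    rw [← h2]
    rw [show ((fun k : K => ψ.1 ⟨(k : G), hKL k.2⟩) ∘ e) =
      (fun k : K.subgroupOf (Subgroup.centralizer ({y} : Set G)) => ψ.1 k) from rfl, h3, mul_zero]
  obtain ⟨ψ₀, hψ₀, h1⟩ := hex φ h
  obtain ⟨ψ, hψ, h2⟩ := hex φ' h'
  obtain ⟨m, hm, hmk⟩ := constituents_conj R hM _ hC habL K hKL hKr hKN hB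
      ((hS ψ₀).1 hψ₀) ((hS ψ).1 hψ)
      (φ₀ := ⟨φ.1 ∘ e, Core.isIrr_comp e.toMonoidHom e.surjective φ.2⟩)
      (φ := ⟨φ'.1 ∘ e, Core.isIrr_comp e.toMonoidHom e.surjective φ'.2⟩) h1 h2
  refine ⟨m, hm, fun k => ?_⟩
  have h3 := hmk (e.symm k) (hKL (hKN m hm k k.2)) (Subgroup.mem_subgroupOf.2 (hKN m hm k k.2))
  have h4 : φ'.1 (e (e.symm k)) = φ'.1 k := by rw [MulEquiv.apply_symm_apply]
  rw [← h4]
  exact h3

end Const

variable {G : Type u} [Group G] {p r q : ℕ} {y : G} {R K U TK TC : Subgroup G} {n0 : G}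

namespace RankOne

variable (h : RankOne p r q y R K U TK TC n0)

include h

theorem conj_mem {c : G} (hc : Commute c y) : ∃ k' ∈ K, ∃ t ∈ TC, c = k' * t ∧
    ∀ k ∈ K, c * k * c⁻¹ = k' * (t * k * t⁻¹) * k'⁻¹ := by
  obtain ⟨k', hk', t, ht, rfl⟩ := h.CK c hc
  exact ⟨k', hk', t, ht, rfl, fun k _ => by group⟩

theorem norm_mem {n : G} (hn : n ∈ Subgroup.normalizer (R : Set G)) {k : G} (hk : k ∈ K) :
    n * k * n⁻¹ ∈ K := by
  obtain ⟨c, hc, h1⟩ := h.NK n hn
  obtain ⟨k', hk', t, ht, -, h2⟩ := h.conj_mem hc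
  rw [h1 k hk, h2 k hk]
  exact mul_mem (mul_mem hk' (h.Kn t ht k hk)) (inv_mem hk')

theorem ab : R ≤ Subgroup.centralizer (R : Set G) := by
  intro a ha
  rw [Subgroup.mem_centralizer_iff]
  intro b hb
  have := h.cyc
  have h1 : (⟨b, hb⟩ : R) * ⟨a, ha⟩ = ⟨a, ha⟩ * ⟨b, hb⟩ := by
    have := h.cyc.commutative
    exact Std.Commutative.comm _ _
  exact congrArg Subtype.val h1

theorem centralizer_eq :
    Subgroup.centralizer ({y} : Set G) = Subgroup.centralizer (R : Set G) := by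
  apply le_antisymm
  · intro g hg
    rw [Subgroup.mem_centralizer_singleton_iff] at hg
    rw [Subgroup.mem_centralizer_iff]
    intro x hx
    exact (h.cent g hg x hx).symm
  · apply Subgroup.centralizer_le
    rw [Set.singleton_subset_iff]
    exact h.mem

theorem K_le : K ≤ Subgroup.centralizer (R : Set G) := by
  rw [← h.centralizer_eq]
  intro k hk
  rw [Subgroup.mem_centralizer_singleton_iff]
  exact h.KC k hk


omit h in
theorem pelt {p : ℕ} (hp : p.Prime) {U : Subgroup G} (hU : IsPGroup p U) {x : G} (hx : x ∈ U) :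
    ∃ k, orderOf x = p ^ k := by
  obtain ⟨k, hk⟩ := hU ⟨x, hx⟩
  have h3 : orderOf x ∣ p ^ k := orderOf_dvd_of_pow_eq_one (by
    have := congrArg Subtype.val hk
    simpa using this)
  obtain ⟨j, -, hj⟩ := (Nat.dvd_prime_pow hp).1 h3
  exact ⟨j, hj⟩

variable [Finite G]

theorem U_inf (hp : p.Prime) {x : G} (hx : x ∈ U) (hx' : x ∈ TC) : x = 1 := by
  obtain ⟨k, hk⟩ := pelt hp h.pU hx
  have h2 : orderOf x ∣ Nat.card TC := by
    have := orderOf_dvd_natCard (⟨x, hx'⟩ : TC)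
    rwa [Subgroup.orderOf_mk] at this
  rw [← orderOf_eq_one_iff]
  refine Nat.Coprime.eq_one_of_dvd ?_ h2
  rw [hk]
  exact Nat.Coprime.pow_left _ ((Nat.Prime.coprime_iff_not_dvd hp).2 h.TCp)

theorem n0T' {t : G} (ht : t ∈ TK) : n0⁻¹ * t * n0 ∈ TK := by
  let f : TK → TK := fun t => ⟨n0 * t * n0⁻¹, h.n0T t t.2⟩
  have hf : Function.Injective f := by
    intro a b hab
    have h1 : n0 * (a : G) * n0⁻¹ = n0 * b * n0⁻¹ := congrArg Subtype.val hab
    exact Subtype.ext (mul_left_cancel (mul_right_cancel h1))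
  obtain ⟨s, hs⟩ := (Finite.injective_iff_surjective.1 hf) ⟨t, ht⟩
  have h1 : n0 * (s : G) * n0⁻¹ = t := congrArg Subtype.val hs
  have h2 : n0⁻¹ * t * n0 = s := by rw [← h1]; group
  rw [h2]
  exact s.2

/-- The group `K` is of rank one. -/
theorem rk1 (hp : p.Prime) (hq : 1 < q) :
    Rk1 (U.subgroupOf K) (TK.subgroupOf K) (⟨n0, h.n0K⟩ : K) where
  TU := by
    intro t ht u hu
    rw [Subgroup.mem_subgroupOf] at ht hu ⊢
    exact h.TCU t (h.TKC ht) u hu
  comm := by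
    intro s hs t ht
    rw [Subgroup.mem_subgroupOf] at hs ht
    exact Subtype.ext (h.TCT s (h.TKC hs) t ht)
  bru := by
    intro k
    rcases h.bru k k.2 with ⟨u, hu, t, ht, he⟩ | ⟨u, hu, t, ht, v, hv, he⟩
    · exact Or.inl ⟨⟨u, h.UK hu⟩, hu, ⟨t, h.TKK ht⟩, ht, Subtype.ext he⟩
    · exact Or.inr ⟨⟨u, h.UK hu⟩, hu, ⟨t, h.TKK ht⟩, ht, ⟨v, h.UK hv⟩, hv, Subtype.ext he⟩
  disj := by
    intro u hu v hv t ht he
    exact Subtype.ext (h.disj u hu v hv t ht (congrArg Subtype.val he))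
  n0T := by
    intro t ht
    exact h.n0T' ht
  UT := by
    intro u hu hu'
    exact Subtype.ext (h.U_inf hp hu (h.TKC hu'))
  U1 := by
    have h1 : 1 < Nat.card U := by rw [h.cardU]; exact hq
    have h2 : Nontrivial U := Finite.one_lt_card_iff_nontrivial.1 h1
    obtain ⟨x, hx⟩ := exists_ne (1 : U)
    exact ⟨⟨x, h.UK x.2⟩, x.2, fun he => hx (Subtype.ext
      (show (x : G) = 1 from congrArg Subtype.val he))⟩

/-- The `p`-elements commuting with `y` are in `K`. -/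
theorem mem_K (hp : p.Prime) {v : G} (hv : Commute v y) {k : ℕ} (hk : orderOf v = p ^ k) :
    v ∈ K := by
  -- `v ^ n ∈ K (t ^ n)` for `v = k' t`
  obtain ⟨k', hk', t, ht, rfl⟩ := h.CK v hv
  have h1 : ∀ n : ℕ, ∃ x ∈ K, (k' * t) ^ n = x * t ^ n := by
    intro n
    induction n with
    | zero => exact ⟨1, one_mem _, by simp⟩
    | succ n ih =>
      obtain ⟨x, hx, he⟩ := ih
      refine ⟨x * (t ^ n * k' * (t ^ n)⁻¹), mul_mem hx (h.Kn _ (pow_mem ht n) k' hk'), ?_⟩
      rw [pow_succ, he, pow_succ]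
      group
  obtain ⟨x, hx, he⟩ := h1 (Nat.card TC)
  have h2 : t ^ Nat.card TC = 1 :=
    congrArg Subtype.val (pow_card_eq_one' (x := (⟨t, ht⟩ : TC)))
  rw [h2, mul_one] at he
  have hcop : Nat.Coprime (orderOf (k' * t)) (Nat.card TC) := by
    rw [hk]
    exact Nat.Coprime.pow_left _ ((Nat.Prime.coprime_iff_not_dvd hp).2 h.TCp)
  obtain ⟨m, hm1, hm2⟩ := Nat.chineseRemainder hcop 1 0
  obtain ⟨c, hc⟩ := (Nat.modEq_zero_iff_dvd).1 hm2
  have h3 : (k' * t) ^ m = k' * t := by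
    conv_rhs => rw [← pow_one (k' * t)]
    exact pow_eq_pow_iff_modEq.2 hm1
  rw [← h3, hc, pow_mul, he]
  exact pow_mem hx _

/-- **The dichotomy.** -/
theorem const_or (hp : p.Prime) (hr : r.Prime) (hq : 1 < q) (χ : IrrCharacter G)
    (h0 : ∀ k ∈ K, (χ : G → ℂ) (y * k) ≠ 0) :
    (∀ u ∈ U, (χ : G → ℂ) (y * u) = (χ : G → ℂ) y) ∨ ∑ᶠ u : U, (χ : G → ℂ) (y * u) = 0 := by
  classical
  have := Fintype.ofFinite G
  have : Fact r.Prime := ⟨hr⟩
  obtain ⟨R', hR'⟩ : ∃ R' : Sylow r G, (R' : Subgroup G) = R :=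
    ⟨IsPGroup.toSylow h.pgr h.ind, rfl⟩
  have hfK : Fintype K := Fintype.ofFinite _
  have hmain := (h.rk1 hp hq).main (fun k : K => (χ : G → ℂ) (y * k)) (by
      intro g k
      show (χ : G → ℂ) (y * ((k : G) * (g : G) * (k : G)⁻¹)) = (χ : G → ℂ) (y * (g : G))
      have h1 : y * ((k : G) * (g : G) * (k : G)⁻¹) = (k : G) * (y * (g : G)) * (k : G)⁻¹ := by
        have h2 : (k : G) * y = y * (k : G) := h.KC k k.2
        rw [← mul_assoc, ← mul_assoc, ← mul_assoc, h2]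
      rw [h1]
      exact irr_conj χ.2 _ _) (fun k => h0 k k.2) (by
      intro φ φ' h1 h2
      obtain ⟨m, hm, h3⟩ := constituents R' (y := y) (by rw [hR']; exact h.ab)
        (show y ∈ (R' : Subgroup G) by rw [hR']; exact h.mem) (by rw [hR']; exact h.centralizer_eq) K
        (by rw [hR']; exact h.K_le) h.Kr (by rw [hR']; exact fun n hn k hk => h.norm_mem hn hk) χ h1 h2
      rw [hR'] at hm
      obtain ⟨c, hc, h4⟩ := h.NK m hm
      obtain ⟨k', hk', t, ht, -, h5⟩ := h.conj_mem hc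
      let α : K ≃* K :=
        { toFun := fun k => ⟨t * k * t⁻¹, h.Kn t ht k k.2⟩
          invFun := fun k => ⟨t⁻¹ * k * t⁻¹⁻¹, h.Kn _ (inv_mem ht) k k.2⟩
          left_inv := fun k => Subtype.ext (by
            show t⁻¹ * (t * (k : G) * t⁻¹) * t⁻¹⁻¹ = k
            group)
          right_inv := fun k => Subtype.ext (by
            show t * (t⁻¹ * (k : G) * t⁻¹⁻¹) * t⁻¹ = k
            group)
          map_mul' := fun a b => Subtype.ext (by
            show t * ((a : G) * b) * t⁻¹ = t * a * t⁻¹ * (t * b * t⁻¹)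
            group) }
      refine ⟨α, ?_, ?_, ?_, ?_⟩
      · intro u hu
        exact h.TCU t ht u hu
      · intro s hs
        apply Subtype.ext
        show t * (s : G) * t⁻¹ = s
        rw [(h.TCT t ht s hs).eq, mul_inv_cancel_right]
      · intro k
        show (χ : G → ℂ) (y * (t * (k : G) * t⁻¹)) = (χ : G → ℂ) (y * (k : G))
        have h6 : y * (t * (k : G) * t⁻¹) = t * (y * (k : G)) * t⁻¹ := by
          have h7 : t * y = y * t := h.TCy t ht
          rw [← mul_assoc, ← mul_assoc, ← mul_assoc, h7]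
        rw [h6]
        exact irr_conj χ.2 _ _
      · intro k
        rw [h3 k]
        have h6 : ∀ hm' : m * (k : G) * m⁻¹ ∈ K,
            (⟨m * (k : G) * m⁻¹, hm'⟩ : K) = ⟨k', hk'⟩ * α k * ⟨k', hk'⟩⁻¹ := by
          intro hm'
          apply Subtype.ext
          show m * (k : G) * m⁻¹ = k' * (t * k * t⁻¹) * k'⁻¹
          rw [h4 k k.2, h5 k k.2]
        rw [h6]
        exact irr_conj φ.2 _ _)
  rcases hmain with h1 | h1
  · left
    intro u hu
    have h2 := h1 ⟨u, h.UK hu⟩ hu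
    simp only [Subgroup.coe_one, mul_one] at h2
    exact h2
  · right
    rw [finsum_eq_sum_of_fintype, ← h1]
    exact Fintype.sum_equiv (Subgroup.subgroupOfEquivOfLe h.UK).symm.toEquiv _ _ fun u => rfl

end RankOne

open H732.VZ (av av_coe av_mul_sub_mem int_mem_iff One) in
open CharactersDeep in
/-- The congruence for a general value of the sum over the centralizer. -/
theorem congr_gen {G : Type u} [Group G] [Fintype G] {r : ℕ} (hr : r.Prime) {z : G}
    (hz : orderOf z = r) (s : G → ℤ)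
    (hs : ∀ g x : G, s (g * x * g⁻¹) = s x) (hsr : ∀ x, s x ≠ 0 → ¬ r ∣ orderOf x)
    (χ : IrrCharacter G) {lam lam' : ℤ}
    (hlam : ∑ g, (s g : ℂ) * (χ : G → ℂ) g = lam * (χ : G → ℂ) 1) [DecidablePred (Commute z)]
    (hK : ∑ g ∈ univ.filter (Commute z), (s g : ℂ) * (χ : G → ℂ) (z * g) = lam' * (χ : G → ℂ) z)
    (hdeg : ¬ r ∣ charDegree (χ : G → ℂ)) : (r : ℤ) ∣ lam - lam' := by
  classical
  have : Fact r.Prime := ⟨hr⟩
  obtain ⟨M, hM', hrM⟩ := BrauerLocal.exists_maximal r hr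
  have hM : M.IsPrime := hM'.isPrime
  have hP : IsPGroup r (Subgroup.zpowers z) := IsPGroup.of_card (n := 1) (by
    rw [Nat.card_zpowers, hz, pow_one])
  obtain ⟨a, ha⟩ := Cfsg.Agent.Blocks.OrbitSum.sum_eq_sum_centralizer_add_smul (p := r)
    (Subgroup.zpowers z) hP (fun g => (s g : AlgInt) * av χ g) (fun u _ x => by
      rw [hs u x]
      congr 1
      exact Subtype.ext (Core.isIrr_isClassFunction χ.2 x u))
  have hfil : univ.filter (· ∈ Subgroup.centralizer ((Subgroup.zpowers z : Subgroup G) : Set G))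
      = univ.filter (Commute z) := by
    ext x
    simp only [mem_filter, mem_univ, true_and]
    rw [Subgroup.zpowers_eq_closure, Subgroup.centralizer_closure,
      Subgroup.mem_centralizer_singleton_iff]
    exact ⟨fun h => h.symm, fun h => h.symm⟩
  rw [hfil] at ha
  have h0 : ∑ g, (s g : AlgInt) * av χ g = (lam : AlgInt) * av χ 1 := by
    apply Subtype.ext
    push_cast
    exact hlam
  have h0' : ∑ g ∈ univ.filter (Commute z), (s g : AlgInt) * av χ (z * g) =
      (lam' : AlgInt) * av χ z := by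
    apply Subtype.ext
    push_cast
    exact hK
  -- `χ z ≡ χ 1`
  have hz1 : av χ z - av χ 1 ∈ M := by
    have := av_mul_sub_mem hr hM hrM χ hz (Commute.one_right z) (by
      rw [orderOf_one]
      exact fun h => hr.one_lt.ne' (Nat.dvd_one.1 h))
    rwa [mul_one] at this
  -- termwise congruence
  have hterm : ∀ g ∈ univ.filter (Commute z),
      (s g : AlgInt) * av χ g - (s g : AlgInt) * av χ (z * g) ∈ M := by
    intro g hg
    have hg' : Commute z g := (mem_filter.1 hg).2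
    by_cases h : s g = 0
    · simp [h]
    have h1 := av_mul_sub_mem hr hM hrM χ hz hg' (hsr g h)
    have h3 : av χ g - av χ (z * g) ∈ M := by
      have := M.neg_mem h1
      rwa [neg_sub] at this
    rw [← mul_sub]
    exact M.mul_mem_left _ h3
  have hsum : (∑ g ∈ univ.filter (Commute z), (s g : AlgInt) * av χ g)
      - (lam' : AlgInt) * av χ z ∈ M := by
    rw [← h0', ← Finset.sum_sub_distrib]
    exact M.sum_mem hterm
  have hfin : ((lam : AlgInt) - lam') * av χ 1 ∈ M := by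
    rw [sub_mul, ← h0, ha]
    have : (∑ g ∈ univ.filter (Commute z), (s g : AlgInt) * av χ g) + r • a
        - (lam' : AlgInt) * av χ 1
        = ((∑ g ∈ univ.filter (Commute z), (s g : AlgInt) * av χ g)
          - (lam' : AlgInt) * av χ z) + (r : AlgInt) * a + lam' * (av χ z - av χ 1) := by
      rw [nsmul_eq_mul]; ring
    rw [this]
    exact M.add_mem (M.add_mem hsum (M.mul_mem_right _ hrM)) (M.mul_mem_left _ hz1)
  have hdegM : av χ 1 ∉ M := by
    have h1 : av χ 1 = ((charDegree (χ : G → ℂ) : ℤ) : AlgInt) := by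
      apply Subtype.ext
      push_cast
      exact (Cfsg.Agent.H686.CharKit.charDegree_irr χ).symm
    rw [h1, int_mem_iff hr hM hrM]
    intro h
    exact hdeg (by exact_mod_cast h)
  have hlast := (hM.mem_or_mem hfin).resolve_right hdegM
  have hcast : (lam : AlgInt) - lam' = ((lam - lam' : ℤ) : AlgInt) := by
    push_cast
    rfl
  rwa [hcast, int_mem_iff hr hM hrM] at hlast

namespace RankOne

variable (h : RankOne p r q y R K U TK TC n0) [Finite G]

include h

/-- The sum over the `p`-elements commuting with `y` in the second case. -/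
theorem sum_eq (hp : p.Prime) (hq : 1 < q) (χ : IrrCharacter G)
    (h0 : ∑ᶠ u : U, (χ : G → ℂ) (y * u) = 0) (S : Finset G)
    (hS : ∀ v, v ∈ S ↔ Commute y v ∧ ∃ k, orderOf v = p ^ k) :
    ∑ v ∈ S, (χ : G → ℂ) (y * v) = -(q : ℂ) * (χ : G → ℂ) y := by
  classical
  have := Fintype.ofFinite G
  have hfK : Fintype K := Fintype.ofFinite _
  have hfU : Fintype U := Fintype.ofFinite _
  have e1 : U.subgroupOf K ≃* U := Subgroup.subgroupOfEquivOfLe h.UK
  have hU' : IsPGroup p (U.subgroupOf K) := h.pU.of_equiv e1.symm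
  have e2 : TK.subgroupOf K ≃* TK := Subgroup.subgroupOfEquivOfLe h.TKK
  have hT' : ¬ p ∣ Nat.card (TK.subgroupOf K) := by
    rw [Nat.card_congr e2.toEquiv]
    exact fun hd => h.TCp (hd.trans (Subgroup.card_dvd_of_le h.TKC))
  have hcl : ∀ x v : K, (χ : G → ℂ) (y * ((x * v * x⁻¹ : K) : G)) = (χ : G → ℂ) (y * (v : G)) := by
    intro k g
    show (χ : G → ℂ) (y * ((k : G) * (g : G) * (k : G)⁻¹)) = (χ : G → ℂ) (y * (g : G))
    have h1 : y * ((k : G) * (g : G) * (k : G)⁻¹) = (k : G) * (y * (g : G)) * (k : G)⁻¹ := by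
      have h2 : (k : G) * y = y * (k : G) := h.KC k k.2
      rw [← mul_assoc, ← mul_assoc, ← mul_assoc, h2]
    rw [h1]
    exact irr_conj χ.2 _ _
  have hmain := (h.rk1 hp hq).sum_pel hp hU' hT' (fun k : K => (χ : G → ℂ) (y * k)) hcl
    (univ.filter fun v : K => ∃ k, orderOf v = p ^ k) (fun v => by simp)
  have h1 : ∑ u : U.subgroupOf K, (χ : G → ℂ) (y * ((u : K) : G)) = 0 := by
    rw [← h0, finsum_eq_sum_of_fintype]
    exact (Fintype.sum_equiv (Subgroup.subgroupOfEquivOfLe h.UK).symm.toEquiv _ _ fun u => rfl).symm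
  rw [h1, mul_zero, zero_sub, Nat.card_congr e1.toEquiv, h.cardU] at hmain
  simp only [Subgroup.coe_one, mul_one] at hmain
  rw [neg_mul, ← hmain]
  refine Finset.sum_bij' (fun v hv => (⟨v, ?_⟩ : K)) (fun v _ => (v : G)) ?_ ?_ ?_ ?_ ?_
  · obtain ⟨h2, k, hk⟩ := (hS v).1 hv
    exact h.mem_K hp h2.symm hk
  · intro v hv
    obtain ⟨h2, k, hk⟩ := (hS v).1 hv
    rw [mem_filter]
    exact ⟨mem_univ _, k, by rw [Subgroup.orderOf_mk, hk]⟩
  · intro v hv
    obtain ⟨k, hk⟩ := (mem_filter.1 hv).2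
    rw [hS]
    exact ⟨(h.KC v v.2).symm, k, by rw [Subgroup.orderOf_coe, hk]⟩
  · intro v _
    rfl
  · intro v _
    rfl
  · intro v _
    rfl

end RankOne

open H732.VZ (One not_dvd_of_sylow ne_zero_of_not_isConj oneZero_iff basic) in
open H730.OZ (pSet OneZero) in
open H631.Kaw (pel mem_pel) in
/-- **The congruence.** -/
theorem RankOneAt.dvd [Finite G] (h : RankOneAt G p r q) (hp : p.Prime) (hr : r.Prime)
    (hrp : r ≠ p) (hq : 1 < q) {χ : G → ℂ} (hχ : IsIrrCharacter G χ) (hO : OneZero χ) {m : ℕ} {e : ℤ}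
    (hs : ∑ᶠ u ∈ pSet p G, χ u = (e : ℂ) * (p : ℂ) ^ m * χ 1) :
    (r : ℤ) ∣ e * p ^ m - (pSet p G).ncard ∨ (r : ℤ) ∣ e * p ^ m + q := by
  classical
  have := Fintype.ofFinite G
  have : Fact r.Prime := ⟨hr⟩
  obtain ⟨y, R, K, U, TK, TC, n0, h⟩ := h
  obtain ⟨x, hx⟩ := (oneZero_iff hχ).1 hO
  obtain ⟨j, hj, hnc⟩ := h.ncj
  have hrd : ¬ r ∣ charDegree χ := by
    refine not_dvd_of_sylow (IsPGroup.toSylow h.pgr h.ind) h.cyc h.ord h.mem ?_
      (Or.inr ⟨j, hj, hnc⟩) ⟨χ, hχ⟩ x hx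
    exact h.centralizer_eq.le
  have h0 : ∀ k ∈ K, χ (y * k) ≠ 0 := by
    intro k hk
    refine ne_zero_of_not_isConj hx hr h.ord hj hnc (h.KC k hk).symm ?_
    intro hd
    have h1 := orderOf_dvd_natCard (⟨k, hk⟩ : K)
    rw [Subgroup.orderOf_mk] at h1
    exact h.Kr (hd.trans h1)
  rcases h.const_or hp hr hq ⟨χ, hχ⟩ h0 with h1 | h1
  · left
    refine (basic hp hr hrp h.ord ⟨χ, hχ⟩ hrd ?_ hs).1
    rintro v hv ⟨k, hk⟩
    -- `v` is conjugate in `K` to an element of `U`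
    have hvK := h.mem_K hp hv.symm hk
    have e1 : U.subgroupOf K ≃* U := Subgroup.subgroupOfEquivOfLe h.UK
    have hU' : IsPGroup p (U.subgroupOf K) := h.pU.of_equiv e1.symm
    have e2 : TK.subgroupOf K ≃* TK := Subgroup.subgroupOfEquivOfLe h.TKK
    have hT' : ¬ p ∣ Nat.card (TK.subgroupOf K) := by
      rw [Nat.card_congr e2.toEquiv]
      exact fun hd => h.TCp (hd.trans (Subgroup.card_dvd_of_le h.TKC))
    obtain ⟨c, hc⟩ := (h.rk1 hp hq).exists_conj_mem hp hU' hT' (v := ⟨v, hvK⟩) (k := k)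
      (by rw [Subgroup.orderOf_mk, hk])
    have h2 : χ (y * ((c⁻¹ * ⟨v, hvK⟩ * c : K) : G)) = χ y := h1 _ hc
    have h3 : y * ((c⁻¹ * ⟨v, hvK⟩ * c : K) : G) = (c : G)⁻¹ * (y * v) * (c : G)⁻¹⁻¹ := by
      show y * ((c : G)⁻¹ * v * c) = _
      have h4 : (c : G)⁻¹ * y = y * (c : G)⁻¹ := (h.KC _ (inv_mem c.2))
      rw [inv_inv, ← mul_assoc, ← mul_assoc, ← mul_assoc, h4]
    rw [h3] at h2
    show χ (y * v) = χ y
    rw [← h2]
    exact (irr_conj hχ _ _).symm
  · right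
    have hm : ∑ g ∈ pel G p, χ g = (e : ℂ) * (p : ℂ) ^ m * χ 1 := by
      rw [H732.VZ.sum_pel_eq, ← hs]
      rfl
    set s : G → ℤ := fun g => if g ∈ pel G p then 1 else 0 with hsdef
    have hs1 : ∀ g x : G, s (g * x * g⁻¹) = s x := by
      intro g y
      simp only [hsdef]
      have : g * y * g⁻¹ ∈ pel G p ↔ y ∈ pel G p := ⟨fun h => by
        have := H732.Kaw.conj_mem_pel g⁻¹ _ h
        have e : g⁻¹ * (g * y * g⁻¹) * g⁻¹⁻¹ = y := by group
        rwa [e] at this, H732.Kaw.conj_mem_pel g y⟩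
      simp only [this]
    have hs2 : ∀ g, s g ≠ 0 → g ∈ pel G p := by
      intro g hg
      by_contra hgp
      exact hg (by simp only [hsdef, if_neg hgp])
    have hs3 : ∀ g, s g ≠ 0 → ¬ r ∣ orderOf g := by
      intro g hg hd
      obtain ⟨k, hk⟩ := mem_pel.1 (hs2 g hg)
      rw [hk] at hd
      exact hrp ((Nat.prime_dvd_prime_iff_eq hr hp).1 (hr.dvd_of_dvd_pow hd))
    have hsum : ∑ g, (s g : ℂ) * χ g = ((e * p ^ m : ℤ) : ℂ) * χ 1 := by
      push_cast
      rw [← hm]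
      have : ∀ g : G, (s g : ℂ) * χ g = if g ∈ pel G p then χ g else 0 := by
        intro g
        simp only [hsdef]
        split_ifs <;> simp
      rw [Finset.sum_congr rfl fun g _ => this g, ← Finset.sum_filter]
      refine Finset.sum_congr ?_ fun _ _ => rfl
      ext g; simp
    have hcen : ∑ g ∈ univ.filter (Commute y), (s g : ℂ) * χ (y * g) = ((-(q : ℤ) : ℤ) : ℂ) * χ y := by
      push_cast
      have h2 := h.sum_eq hp hq ⟨χ, hχ⟩ h1 ((univ.filter (Commute y)).filter (· ∈ pel G p))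
        (fun v => by
          rw [mem_filter, mem_filter, mem_pel]
          exact ⟨fun h => ⟨h.1.2, h.2⟩, fun h => ⟨⟨mem_univ _, h.1⟩, h.2⟩⟩)
      refine Eq.trans ?_ h2
      rw [Finset.sum_filter (s := univ.filter (Commute y))]
      refine Finset.sum_congr rfl fun g _ => ?_
      simp only [hsdef]
      split_ifs <;> simp
    have := congr_gen hr h.ord s hs1 hs3 ⟨χ, hχ⟩ hsum hcen hrd
    rwa [sub_neg_eq_add] at this

end Cfsg.Agent.H695.OneZero
end

-- part: H158/OZ/Crit_mg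
section
prune_inst 0x6056014714c401000001c051470001e82b0000002004800008026070406488c4240000860082025101820040000000028001000200060000004000000000100000000040480088000a00000000080010000000000000000000000000000000000004010000
set_option linter.all false
open scoped Cfsg.Agent.FastGrp

-- part: H158/OZ/Tor
section
/-!
# S4842, `PΩ⁺_8(q)`: the root group datum with the small torus (helper158)

`WittInst.rgdD_model` has the torus `Tor (E Q)` = all diagonal elements of `E Q`. Here the torus is replaced by its subgroup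
of the diagonal elements `(c, c⁻¹)` with `∏ c_i` a square (it is the same group, but this needs the spinor norm):

* `MS Fr g π d` : `g` is monomial over the signed permutation `π` with scalars `c`, `c_x c_{-x} = 1`, `d ∏ c_i` a square;
* `TS Fr G0` : the small torus; `nsysS`, `rgd_sub`;
* `RS` : the root group datum of `POmega`.
-/

set_option autoImplicit false
set_option linter.unusedSectionVars false
set_option linter.unusedSimpArgs false

open Cfsg

namespace Cfsg.Agent.H158.OZ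

open CoxeterSystem Cfsg.Agent.ChevalleyStructure.CoxeterGeom Cfsg.Agent.Tits.Roots
open Cfsg.Agent.Nodes.Comb Cfsg.Agent.Nodes.Reps Cfsg.Agent.Nodes.WittRoot Cfsg.Agent.Nodes.BNOf
open Cfsg.Agent.Nodes.RGDLib Cfsg.Agent.Nodes.WittAll Cfsg.Agent.Nodes.WittU
open Cfsg.Agent.Nodes.TypeC (wt ng ng_ng)
open Cfsg.Agent.Nodes.TypeD
open Cfsg.Agent.Nodes.WittRGD (Tor)
open Cfsg.Agent.TitsThree Cfsg.Agent.TitsThree.Siegel Cfsg.Agent.TitsThree.WittFrame Cfsg.Agent.TitsThree.WittWeyl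

/-- a smaller torus -/
theorem rgd_sub {I W Y : Type*} [Fintype I] [DecidableEq I] [Group W] [Group Y] [Finite Y] {M : CoxeterMatrix I}
    {cs : CoxeterSystem M W} {A : I → I → ℤ} {h : IsCartan M A} {p : ℕ} {T : Subgroup Y} {n : I → Y}
    {X : (I → ℤ) → Subgroup Y} (R : RGD cs h p T n X) {T' : Subgroup Y} (hT : T' ≤ T) (hN : NSys M T' n)
    (h1 : ∀ i, ∀ u ∈ X (-sr i), u ≠ 1 → ∃ a ∈ X (sr i), ∃ t ∈ T', ∃ b ∈ X (sr i), u = a * t * n i * b) :
    RGD cs h p T' n X where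
  nsys := hN
  conj := R.conj
  tor x hx t ht := R.tor x hx t (hT ht)
  comm := R.comm
  rk1 := h1
  pgrp := R.pgrp
  notp := R.notp
  tcop := R.tcop.coprime_dvd_left (Subgroup.card_dvd_of_le hT)

section MS

variable {F : Type*} [Field F] {V : Type*} [AddCommGroup V] [Module F V] {H : HForm F V} {n : ℕ}
  (Fr : Frame H (Fin (n + 2))) (G0 : Subgroup (V ≃ₗ[F] V))

/-- monomial elements with a square class -/
def MS (g : V ≃ₗ[F] V) (π : Fin (n + 2) × Bool → Fin (n + 2) × Bool) (d : F) : Prop :=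
  ∃ c : Fin (n + 2) × Bool → F, (∀ x, c x * c (ng x) = 1) ∧ (∀ x, g (Fr.b x) = c x • Fr.b (π x)) ∧
    IsSquare (d * ∏ i, c (i, true))

/-- permutations of the pairs -/
structure Pm (ρ : Fin (n + 2) × Bool → Fin (n + 2) × Bool) : Prop where
  ng : ∀ x, ρ (ng x) = ng (ρ x)
  inj : ∀ i j, (ρ (i, true)).1 = (ρ (j, true)).1 → i = j

theorem Pm.id : Pm (fun x : Fin (n + 2) × Bool => x) := ⟨fun _ => rfl, fun _ _ h => h⟩

theorem Pm.fst {ρ : Fin (n + 2) × Bool → Fin (n + 2) × Bool} (h : Pm ρ) (x : Fin (n + 2) × Bool) :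
    (ρ x).1 = (ρ (x.1, true)).1 := by
  obtain ⟨i, s⟩ := x
  cases s
  · have := congrArg Prod.fst (h.ng (i, true))
    exact this
  · rfl

theorem Pm.comp {π ρ : Fin (n + 2) × Bool → Fin (n + 2) × Bool} (h : Pm π) (h' : Pm ρ) : Pm (fun x => π (ρ x)) := by
  refine ⟨fun x => by rw [h'.ng, h.ng], fun i j hij => h'.inj i j (h.inj _ _ ?_)⟩
  rw [← h.fst, ← h.fst]
  exact hij

theorem pm_sg (i : Fin (n + 2)) : Pm (sg i) :=
  ⟨sg_ng i, fun _ _ h => (sg_fst_eq i).1 h⟩

theorem prod_flip {ρ : Fin (n + 2) × Bool → Fin (n + 2) × Bool} (h : Pm ρ) {c : Fin (n + 2) × Bool → F}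
    (hc : ∀ x, c x * c (ng x) = 1) : ∃ e : F, ∏ i, c (ρ (i, true)) = (∏ i, c (i, true)) * (e * e) ∧ e ≠ 0 := by
  have hbij : Function.Bijective fun i : Fin (n + 2) => (ρ (i, true)).1 :=
    Finite.injective_iff_bijective.1 fun i j hij => h.inj i j hij
  refine ⟨∏ i, (if (ρ (i, true)).2 then 1 else c (ρ (i, true))), ?_, ?_⟩
  · rw [← hbij.prod_comp fun i => c (i, true), ← Finset.prod_mul_distrib, ← Finset.prod_mul_distrib]
    refine Finset.prod_congr rfl fun i _ => ?_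
    rcases hx : ρ (i, true) with ⟨j, s⟩
    cases s
    · simp only [Bool.false_eq_true, if_false]
      have h1 : c (j, false) * c (j, true) = 1 := hc (j, false)
      linear_combination (-c (j, false)) * h1
    · simp
  · rw [Finset.prod_ne_zero_iff]
    intro i _
    split_ifs
    · exact one_ne_zero
    · intro h0
      have := hc (ρ (i, true))
      rw [h0, zero_mul] at this
      exact zero_ne_one this

variable {Fr}

theorem MS.congr {g : V ≃ₗ[F] V} {π ρ : Fin (n + 2) × Bool → Fin (n + 2) × Bool} {d e : F} (h : MS Fr g π d)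
    (h' : ∀ x, π x = ρ x) (h'' : d = e) : MS Fr g ρ e := by
  obtain ⟨c, h1, h2, h3⟩ := h
  exact ⟨c, h1, fun x => by rw [← h']; exact h2 x, h'' ▸ h3⟩

theorem MS.one : MS Fr (1 : V ≃ₗ[F] V) (fun x => x) 1 :=
  ⟨fun _ => 1, fun _ => one_mul 1, fun x => by rw [one_smul]; rfl, by simp only [_root_.Finset.prod_const_one, _root_.mul_one, _root_.IsSquare.one]⟩

theorem MS.mul {g k : V ≃ₗ[F] V} {π ρ : Fin (n + 2) × Bool → Fin (n + 2) × Bool} {d e : F} (hg : MS Fr g π d)
    (hk : MS Fr k ρ e) (hρ : Pm ρ) : MS Fr (g * k) (fun x => π (ρ x)) (d * e) := by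
  obtain ⟨c, h1, h2, h3⟩ := hg
  obtain ⟨c', h1', h2', h3'⟩ := hk
  obtain ⟨r, hr, -⟩ := prod_flip hρ h1
  refine ⟨fun x => c' x * c (ρ x), fun x => ?_, fun x => ?_, ?_⟩
  · have e1 := h1' x
    have e2 := h1 (ρ x)
    rw [← hρ.ng] at e2
    show c' x * c (ρ x) * (c' (ng x) * c (ρ (ng x))) = 1
    linear_combination e1 * (c (ρ x) * c (ρ (ng x))) + e2
  · rw [mul_apply', h2', map_smul, h2, smul_smul]
  · rw [Finset.prod_mul_distrib, hr]
    have e1 : d * e * ((∏ i, c' (i, true)) * ((∏ i, c (i, true)) * (r * r))) =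
        (d * ∏ i, c (i, true)) * (e * ∏ i, c' (i, true)) * (r * r) := by ring
    rw [e1]
    exact (h3.mul h3').mul ⟨r, rfl⟩

theorem MS.inv {g : V ≃ₗ[F] V} {π ρ : Fin (n + 2) × Bool → Fin (n + 2) × Bool} {d : F} (hg : MS Fr g π d)
    (hρ : Pm ρ) (h : ∀ x, π (ρ x) = x) : MS Fr g⁻¹ ρ d := by
  obtain ⟨c, h1, h2, h3⟩ := hg
  obtain ⟨r, hr, hr0⟩ := prod_flip hρ h1
  have hc : ∀ x, c x ≠ 0 := fun x h0 => by
    have := h1 x
    rw [h0, zero_mul] at this
    exact zero_ne_one this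
  refine ⟨fun x => (c (ρ x))⁻¹, fun x => ?_, fun x => ?_, ?_⟩
  · show (c (ρ x))⁻¹ * (c (ρ (ng x)))⁻¹ = 1
    rw [hρ.ng, ← mul_inv, h1, inv_one]
  · have e := h2 (ρ x)
    rw [h] at e
    have h4 : g⁻¹ (g (Fr.b (ρ x))) = Fr.b (ρ x) := by
      rw [← mul_apply', inv_mul_cancel]; rfl
    rw [e, map_smul] at h4
    rw [← h4, smul_smul, inv_mul_cancel₀ (hc _), one_smul]
  · rw [Finset.prod_inv_distrib, hr]
    have hp : ∏ i, c (i, true) ≠ 0 := Finset.prod_ne_zero_iff.2 fun i _ => hc _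
    have e1 : d * ((∏ i, c (i, true)) * (r * r))⁻¹ =
        (d * ∏ i, c (i, true)) * ((∏ i, c (i, true))⁻¹ * r⁻¹ * ((∏ i, c (i, true))⁻¹ * r⁻¹)) := by
      field_simp
    rw [e1]
    exact h3.mul ⟨_, rfl⟩

theorem MS.pow {g : V ≃ₗ[F] V} {π : Fin (n + 2) × Bool → Fin (n + 2) × Bool} {d : F} (hg : MS Fr g π d) (hπ : Pm π)
    (m : ℕ) : MS Fr (g ^ m) (π^[m]) (d ^ m) ∧ Pm (π^[m]) := by
  induction m with
  | zero => exact ⟨MS.one.congr (fun _ => rfl) (pow_zero d).symm, Pm.id⟩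
  | succ m ih =>
    rw [pow_succ', Function.iterate_succ', pow_succ']
    exact ⟨hg.mul ih.1 ih.2, hπ.comp ih.2⟩

theorem MS.mono {g : V ≃ₗ[F] V} {π : Fin (n + 2) × Bool → Fin (n + 2) × Bool} {d : F} (hg : MS Fr g π d) :
    Mono Fr g π := by
  obtain ⟨c, h1, h2, -⟩ := hg
  refine fun x => ⟨c x, fun h0 => ?_, h2 x⟩
  have := h1 x
  rw [h0, zero_mul] at this
  exact zero_ne_one this

theorem ms_nX (hε : H.ε = 1) (hσ : ∀ t, H.σ t = t) (i : Fin (n + 2)) {t : F} (ht : t ≠ 0) :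
    MS Fr (nX Fr (i, true) (nx i) t) (sg i) (-1) := by
  have hxy : ((i, true) : Fin (n + 2) × Bool).1 ≠ (nx i).1 := ok_nx i
  have hη : ∀ x, Fr.η x = 1 := by
    intro x
    unfold Frame.η
    rw [hε]
    split_ifs <;> rfl
  set x : Fin (n + 2) × Bool := (i, true) with hx
  set y := nx i with hy
  refine ⟨fun z => if z = x then -t⁻¹ else if z = ng y then t else if z = ng x then -t else if z = y then t⁻¹ else 1,
    fun z => ?_, fun z => ?_, ?_⟩
  · have hne1 : ng z = x ↔ z = ng x := by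
      constructor
      · intro h; rw [← h, ng_ng]
      · intro h; rw [h, ng_ng]
    have hne2 : ng z = ng y ↔ z = y := by
      constructor
      · intro h; rw [← ng_ng z, h, ng_ng]
      · intro h; rw [h]
    have hne3 : ng z = ng x ↔ z = x := by
      constructor
      · intro h; rw [← ng_ng z, h, ng_ng]
      · intro h; rw [h]
    have hne4 : ng z = y ↔ z = ng y := by
      constructor
      · intro h; rw [← h, ng_ng]
      · intro h; rw [h, ng_ng]
    simp only [hne1, hne2, hne3, hne4]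
    have d1 : x ≠ ng y := fun h => hxy (by rw [h]; rfl)
    have d2 : x ≠ ng x := fun h => by
      have := congrArg Prod.snd h
      simp [ng] at this
    have d3 : x ≠ y := fun h => hxy (by rw [h])
    have d4 : ng y ≠ y := fun h => by
      have := congrArg Prod.snd h
      simp [ng] at this
    have d5 : ng x ≠ y := fun h => hxy (by rw [← h]; rfl)
    have d6 : ng y ≠ ng x := fun h => hxy (by
      have := congrArg Prod.fst h
      exact this.symm)
    by_cases e1 : z = x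
    · subst e1
      simp only [if_true, if_neg d2, if_neg d3]
      field_simp
    by_cases e2 : z = ng y
    · subst e2
      simp only [if_true, if_neg e1, if_neg d6, if_neg d4]
      exact mul_inv_cancel₀ ht
    by_cases e3 : z = ng x
    · subst e3
      simp only [if_true, if_neg e1, if_neg e2]
      field_simp
    by_cases e4 : z = y
    · subst e4
      simp only [if_true, if_neg e1, if_neg e2, if_neg e3]
      exact inv_mul_cancel₀ ht
    simp only [if_neg e1, if_neg e2, if_neg e3, if_neg e4, mul_one]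
  · rw [← Cfsg.Agent.Nodes.WittRGDD.sg_eq_rf]
    unfold Cfsg.Agent.Nodes.WittRGDD.rf
    simp only []
    by_cases h1 : z = x
    · rw [if_pos h1, if_pos h1, h1]
      exact (nX_apply_self Fr hxy ht).trans (neg_smul _ _).symm
    by_cases h2 : z = ng y
    · rw [if_neg h1, if_pos h2, if_neg h1, if_pos h2, h2]
      exact nX_apply_neg Fr hxy ht
    by_cases h4 : z = ng x
    · rw [if_neg h1, if_neg h2, if_pos h4, if_neg h1, if_neg h2, if_pos h4, h4]
      refine (nX_apply_neg' Fr hxy ht).trans ?_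
      rw [hη, hη, hε, hσ, inv_one, one_mul, one_mul, one_mul, neg_smul]
    by_cases h5 : z = y
    · rw [if_neg h1, if_neg h2, if_neg h4, if_pos h5, if_neg h1, if_neg h2, if_neg h4, if_pos h5, h5]
      refine (nX_apply_self' Fr hxy ht).trans ?_
      rw [hη, hη, hε, hσ, inv_one, one_mul, one_mul, one_mul]
      rfl
    rw [if_neg h1, if_neg h2, if_neg h4, if_neg h5, if_neg h1, if_neg h2, if_neg h4, if_neg h5, one_smul]
    apply nX_apply_of_ne Fr hxy
    · intro h6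
      rcases Cfsg.Agent.Nodes.WittRGD.eq_or_ng h6 with h7 | h7
      · exact h1 h7
      · exact h4 h7
    · intro h6
      rcases Cfsg.Agent.Nodes.WittRGD.eq_or_ng h6 with h7 | h7
      · exact h5 h7
      · exact h2 h7
  · have hyi : y.1 ≠ i := hxy.symm
    rw [← Finset.mul_prod_erase Finset.univ _ (Finset.mem_univ i),
      ← Finset.mul_prod_erase _ _ (Finset.mem_erase.2 ⟨hyi, Finset.mem_univ y.1⟩), Finset.prod_eq_one]
    · simp only [hx, if_true]
      rcases hs : y with ⟨j, s⟩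
      have hji : j ≠ i := by rw [hs] at hyi; exact hyi
      cases s
      · simp only [ng, Prod.mk.injEq, hji, Bool.not_false, Bool.not_true, and_true, and_false, if_false, if_true,
          Bool.true_eq_false, Bool.false_eq_true, mul_one]
        exact ⟨1, by field_simp⟩
      · simp only [ng, Prod.mk.injEq, hji, Bool.not_false, Bool.not_true, and_true, and_false, if_false, if_true,
          Bool.true_eq_false, Bool.false_eq_true, mul_one]
        exact ⟨t⁻¹, by field_simp⟩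
    · intro k hk
      have hk1 := (Finset.mem_erase.1 hk).1
      have hk2 := (Finset.mem_erase.1 (Finset.mem_erase.1 hk).2).1
      have n1 : ((k, true) : Fin (n + 2) × Bool) ≠ x := fun h => hk2 (congrArg Prod.fst h)
      have n2 : ((k, true) : Fin (n + 2) × Bool) ≠ ng y := fun h => hk1 (congrArg Prod.fst h)
      have n3 : ((k, true) : Fin (n + 2) × Bool) ≠ ng x := fun h => hk2 (congrArg Prod.fst h)
      have n4 : ((k, true) : Fin (n + 2) × Bool) ≠ y := fun h => hk1 (congrArg Prod.fst h)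
      simp only [if_neg n1, if_neg n2, if_neg n3, if_neg n4]

/-- the small torus -/
def TS (Fr : Frame H (Fin (n + 2))) (G0 : Subgroup (V ≃ₗ[F] V)) : Subgroup (V ≃ₗ[F] V) where
  carrier := {g | g ∈ G0 ∧ MS Fr g (fun x => x) 1}
  one_mem' := ⟨one_mem _, MS.one⟩
  mul_mem' := fun ⟨h1, h2⟩ ⟨h3, h4⟩ => ⟨mul_mem h1 h3, (h2.mul h4 Pm.id).congr (fun _ => rfl) (mul_one 1)⟩
  inv_mem' := fun ⟨h1, h2⟩ => ⟨inv_mem h1, h2.inv Pm.id fun _ => rfl⟩

variable {G0 : Subgroup (V ≃ₗ[F] V)}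

theorem TS_le : TS Fr G0 ≤ Tor Fr G0 := fun _ hg => ⟨hg.1, hg.2.mono⟩

variable (hA : Amb Fr G0) (hε : H.ε = 1) (hσ : ∀ t, H.σ t = t)

include hA hε hσ

omit hA in
theorem ms_nn (i : Fin (n + 2)) : MS Fr (Cfsg.Agent.Nodes.WittRGDD.nn Fr i) (sg i) (-1) := ms_nX hε hσ i one_ne_zero

theorem nsysS : NSys (M n) (TS Fr G0) (Cfsg.Agent.Nodes.WittRGDD.nn Fr) where
  norm i := by
    have hnm := Cfsg.Agent.Nodes.WittRGDD.nn_mem hA i
    have key : ∀ g : V ≃ₗ[F] V, g ∈ G0 → MS Fr g (sg i) (-1) → ∀ t ∈ TS Fr G0, g * t * g⁻¹ ∈ TS Fr G0 := by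
      intro g hg hm t ht
      refine ⟨mul_mem (mul_mem hg ht.1) (inv_mem hg), ?_⟩
      exact ((hm.mul ht.2 Pm.id).mul (hm.inv (pm_sg i) (sg_sg i)) (pm_sg i)).congr (fun x => sg_sg i x) (by ring)
    rw [Subgroup.mem_normalizer_iff]
    intro t
    refine ⟨fun ht => key _ hnm (ms_nn hε hσ i) t ht, fun ht => ?_⟩
    have h1 := key _ (inv_mem hnm) ((ms_nn hε hσ i).inv (pm_sg i) (sg_sg i)) _ ht
    have h2 : (Cfsg.Agent.Nodes.WittRGDD.nn Fr i)⁻¹ * (Cfsg.Agent.Nodes.WittRGDD.nn Fr i * t *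
        (Cfsg.Agent.Nodes.WittRGDD.nn Fr i)⁻¹) * (Cfsg.Agent.Nodes.WittRGDD.nn Fr i)⁻¹⁻¹ = t := by group
    rwa [h2] at h1
  rel i j := by
    refine ⟨pow_mem (mul_mem (Cfsg.Agent.Nodes.WittRGDD.nn_mem hA i) (Cfsg.Agent.Nodes.WittRGDD.nn_mem hA j)) _, ?_⟩
    refine ((((ms_nn hε hσ i).mul (ms_nn hε hσ j) (pm_sg j)).pow ((pm_sg i).comp (pm_sg j)) _).1).congr
      (fun x => sg_braid i j x) ?_
    rw [neg_mul_neg, one_mul, one_pow]

theorem rk1S (i : Fin (n + 2)) {u : V ≃ₗ[F] V} (hu : u ∈ Cfsg.Agent.Nodes.WittRGDD.rg Fr (-sr i)) (hne : u ≠ 1) :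
    ∃ a ∈ Cfsg.Agent.Nodes.WittRGDD.rg Fr (sr i), ∃ t ∈ TS Fr G0, ∃ b ∈ Cfsg.Agent.Nodes.WittRGDD.rg Fr (sr i),
      u = a * t * Cfsg.Agent.Nodes.WittRGDD.nn Fr i * b := by
  rw [Cfsg.Agent.Nodes.WittRGDD.rg_neg_sr] at hu
  rw [Cfsg.Agent.Nodes.WittRGDD.rg_sr]
  obtain ⟨s, rfl⟩ := hu
  have hs : s ≠ 0 := by rintro rfl; exact hne (Fr.X_zero _ _)
  have ht : -s⁻¹ ≠ 0 := neg_ne_zero.2 (inv_ne_zero hs)
  refine ⟨Fr.X (i, true) (nx i) s⁻¹, ⟨_, rfl⟩, nX Fr (i, true) (nx i) (-s⁻¹) *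
    (Cfsg.Agent.Nodes.WittRGDD.nn Fr i)⁻¹, ⟨mul_mem (Cfsg.Agent.Nodes.WittRGDD.nX_mem hA _ _ _)
      (inv_mem (Cfsg.Agent.Nodes.WittRGDD.nn_mem hA _)), ?_⟩,
    Fr.X (i, true) (nx i) s⁻¹, ⟨_, rfl⟩, ?_⟩
  · exact ((ms_nX hε hσ i ht).mul ((ms_nn hε hσ i).inv (pm_sg i) (sg_sg i)) (pm_sg i)).congr (fun x => sg_sg i x)
      (by ring)
  · have e1 : Fr.X (i, true) (nx i) s⁻¹ = (Fr.X (i, true) (nx i) (-s⁻¹))⁻¹ := by
      rw [← Fr.X_neg, _root_.neg_neg]
    have e2 : -(-s⁻¹)⁻¹ = s := by rw [inv_neg, inv_inv, _root_.neg_neg]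
    rw [e1, nX, e2]
    show Fr.X (neg (nx i)) (neg (i, true)) s = _
    group

/-- the root group datum with the small torus -/
theorem rgdS [Finite V] {p : ℕ} [Fact p.Prime] [CharP F p] (h0 : ∀ p : Fr.Adm, p = 1) {W : Type*} [Group W]
    (cs : CoxeterSystem (M n) W) :
    RGD cs (isCartan n) p (TS Fr G0) (Cfsg.Agent.Nodes.WittRGDD.nn Fr) (Cfsg.Agent.Nodes.WittRGDD.rg Fr) := by
  have : Finite (V ≃ₗ[F] V) := Finite.of_injective (fun g : V ≃ₗ[F] V => (g : V → V)) DFunLike.coe_injective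
  exact rgd_sub (rgdD hA h0 cs) TS_le (nsysS hA hε hσ) fun i u hu hne => rk1S hA hε hσ i hu hne

end MS

end Cfsg.Agent.H158.OZ
end

-- part: H158/OZ/Fr
section
/-!
# S4842, `PΩ⁺_8(q)`: coordinates, the root group datum `RS`, stabilisers (helper158)
-/

set_option autoImplicit false
set_option linter.unusedSectionVars false
set_option linter.unusedSimpArgs false

open Cfsg

namespace Cfsg.Agent.H158.OZ

open CoxeterSystem Cfsg.Agent.ChevalleyStructure.CoxeterGeom Cfsg.Agent.Tits.Roots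
open Cfsg.Agent.Nodes Cfsg.Agent.Nodes.Comb Cfsg.Agent.Nodes.Reps Cfsg.Agent.Nodes.WittRoot Cfsg.Agent.Nodes.BNOf
open Cfsg.Agent.Nodes.RGDLib Cfsg.Agent.Nodes.WittAll Cfsg.Agent.Nodes.WittU Cfsg.Agent.Nodes.WittInst
open Cfsg.Agent.Nodes.StabComb Cfsg.Agent.Nodes.Bruhat Cfsg.Agent.Nodes.LeviDec
open Cfsg.Agent.Nodes.TypeC (wt ng ng_ng wt_apply)
open Cfsg.Agent.Nodes.TypeD
open Cfsg.Agent.TitsThree Cfsg.Agent.TitsThree.Siegel Cfsg.Agent.TitsThree.WittFrame Cfsg.Agent.TitsThree.WittWeyl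
  Cfsg.Agent.TitsThree.WBridge Cfsg.Agent.TitsThree.KSideO
open Cfsg.Agent.LieClassical Cfsg.Agent.LieClassical.OrthCore Cfsg.Agent.LieClassical.OrthTrans
open Cfsg.Agent.LieClassical.OrthForms QuadraticMap
open Cfsg.Agent.H769.OZ (StE le_StE mem_StE_of_finite mem_StE)

/-! ### Coordinates -/

section coord

variable (F : Type*) [Field F]

/-- the space -/
abbrev V8 := Fin 4 ⊕ Fin 4 → F

/-- the form -/
abbrev Q8 : QuadraticForm F (V8 F) := plusForm 4 F

/-- the frame -/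
abbrev F8 : Frame (HO (Q8 F)) (Fin (2 + 2)) := toFrame (wplus 4 F)

variable {F}

/-- the index of a signed index -/
def ix (x : Fin 4 × Bool) : Fin 4 ⊕ Fin 4 := if x.2 then Sum.inl x.1 else Sum.inr x.1

/-- the basis vectors -/
abbrev bb (x : Fin 4 × Bool) : V8 F := (F8 F).b x

theorem ix_inj {x y : Fin 4 × Bool} (h : ix x = ix y) : x = y := by
  obtain ⟨i, s⟩ := x
  obtain ⟨j, t⟩ := y
  unfold ix at h
  cases s <;> cases t <;> simp_all

theorem ix_surj (k : Fin 4 ⊕ Fin 4) : ∃ x, ix x = k := by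
  rcases k with i | i
  · exact ⟨(i, true), rfl⟩
  · exact ⟨(i, false), rfl⟩

theorem bb_eq (x : Fin 4 × Bool) : (bb x : V8 F) = Pi.single (ix x) 1 := by
  obtain ⟨i, s⟩ := x
  cases s <;> rfl

/-- the coordinates -/
def co (x : Fin 4 × Bool) : V8 F →ₗ[F] F := LinearMap.proj (ix x)

theorem co_apply (x : Fin 4 × Bool) (v : V8 F) : co x v = v (ix x) := rfl

theorem co_bb (x y : Fin 4 × Bool) : co x (bb y : V8 F) = if x = y then 1 else 0 := by
  rw [bb_eq, co_apply, Pi.single_apply]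
  by_cases h : x = y
  · subst h; simp
  · rw [if_neg h, if_neg fun h' => h (ix_inj h')]

theorem co_ext {v w : V8 F} (h : ∀ x, co x v = co x w) : v = w := by
  funext k
  obtain ⟨x, rfl⟩ := ix_surj k
  exact h x

theorem sum_co (v : V8 F) : v = ∑ x, co x v • bb x := by
  apply co_ext
  intro y
  rw [map_sum]
  simp only [map_smul, co_bb, smul_eq_mul, mul_ite, mul_one, mul_zero]
  rw [Finset.sum_ite_eq, if_pos (Finset.mem_univ y)]

theorem apply_eq_sum {M : Type*} [AddCommMonoid M] [Module F M] (g : V8 F →ₗ[F] M) (v : V8 F) :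
    g v = ∑ x, co x v • g (bb x) := by
  conv_lhs => rw [sum_co v]
  rw [map_sum]
  exact Finset.sum_congr rfl fun x _ => map_smul _ _ _

/-- equality of maps -/
theorem ext_bb {g k : V8 F ≃ₗ[F] V8 F} (h : ∀ x, g (bb x) = k (bb x)) : g = k := by
  apply LinearEquiv.ext
  intro v
  have h1 := apply_eq_sum (g : V8 F →ₗ[F] V8 F) v
  have h2 := apply_eq_sum (k : V8 F →ₗ[F] V8 F) v
  change g v = _ at h1
  change k v = _ at h2
  rw [h1, h2]
  exact Finset.sum_congr rfl fun x _ => congrArg _ (h x)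

theorem polar_bb (v : V8 F) (x : Fin 4 × Bool) : polar (Q8 F) v (bb x) = co (ng x) v := by
  rw [bb_eq, polar_plusForm, co_apply]
  obtain ⟨i, s⟩ := x
  cases s
  · simp [ix, ng, Pi.single_apply]
  · simp [ix, ng, Pi.single_apply]

theorem Q8_apply (v : V8 F) : Q8 F v = ∑ i : Fin 4, co (i, true) v * co (i, false) v := by
  change (plusForm 4 F) v = _
  rw [coe_plusForm, quadFormPlus_apply]
  rfl

/-- the root elements -/
theorem X8 {a c : Fin 4 × Bool} (h : a.1 ≠ c.1) (t : F) (v : V8 F) :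
    (F8 F).X a c t v = v + (t * co (ng c) v) • bb a - (t * co (ng a) v) • bb c := by
  have hη : ∀ x, (F8 F).η x = 1 := by
    intro x
    unfold Frame.η
    split_ifs <;> rfl
  rw [X_apply _ h]
  have e1 : (F8 F).sc c t = -t := by
    unfold Frame.sc
    rw [hη]
    change -((1 : F)⁻¹ * 1 * t) = -t
    rw [inv_one, one_mul, one_mul]
  rw [e1]
  change v + (polar (Q8 F) v (bb a) * -t) • bb c - ((1 : F)⁻¹ * -t * polar (Q8 F) v (bb c)) • bb a = _
  rw [polar_bb, polar_bb, inv_one]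
  module

/-- coordinate subspaces -/
def SZ (Z : Set (Fin 4 × Bool)) : Submodule F (V8 F) where
  carrier := {v | ∀ x, x ∉ Z → co x v = 0}
  add_mem' := fun ha hb x hx => by rw [map_add, ha x hx, hb x hx, add_zero]
  zero_mem' := fun x _ => map_zero _
  smul_mem' := fun c v hv x hx => by rw [map_smul, hv x hx, smul_zero]

theorem mem_SZ {Z : Set (Fin 4 × Bool)} {v : V8 F} : v ∈ SZ Z ↔ ∀ x, x ∉ Z → co x v = 0 := Iff.rfl

theorem bb_mem_SZ {Z : Set (Fin 4 × Bool)} {x : Fin 4 × Bool} (hx : x ∈ Z) : (bb x : V8 F) ∈ SZ Z := by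
  intro y hy
  rw [co_bb, if_neg]
  rintro rfl
  exact hy hx

theorem bb_mem_SZ_iff {Z : Set (Fin 4 × Bool)} {x : Fin 4 × Bool} : (bb x : V8 F) ∈ SZ Z ↔ x ∈ Z := by
  refine ⟨fun h => ?_, bb_mem_SZ⟩
  by_contra hx
  have := h x hx
  rw [co_bb, if_pos rfl] at this
  exact one_ne_zero this

/-- a map is determined on the basis -/
theorem map_SZ {Z : Set (Fin 4 × Bool)} {g : V8 F →ₗ[F] V8 F} {D : Submodule F (V8 F)}
    (h : ∀ x ∈ Z, g (bb x) ∈ D) {v : V8 F} (hv : v ∈ SZ Z) : g v ∈ D := by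
  classical
  rw [apply_eq_sum g v]
  refine D.sum_mem fun x _ => ?_
  by_cases hx : x ∈ Z
  · exact D.smul_mem _ (h x hx)
  · rw [hv x hx, zero_smul]
    exact D.zero_mem

theorem SZ_inf (Z Z' : Set (Fin 4 × Bool)) : (SZ Z ⊓ SZ Z' : Submodule F (V8 F)) = SZ (Z ∩ Z') := by
  classical
  ext v
  rw [Submodule.mem_inf, mem_SZ, mem_SZ, mem_SZ]
  constructor
  · rintro ⟨h1, h2⟩ x hx
    by_cases h : x ∈ Z
    · exact h2 x fun h' => hx ⟨h, h'⟩
    · exact h1 x h
  · exact fun h => ⟨fun x hx => h x fun h' => hx h'.1, fun x hx => h x fun h' => hx h'.2⟩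

/-- the root element preserves a coordinate subspace -/
theorem X8_mem_StE {a c : Fin 4 × Bool} (h : a.1 ≠ c.1) {Z : Set (Fin 4 × Bool)} (h1 : ng c ∈ Z → a ∈ Z)
    (h2 : ng a ∈ Z → c ∈ Z) (t : F) {v : V8 F} (hv : v ∈ SZ Z) : (F8 F).X a c t v ∈ SZ Z := by
  rw [X8 h]
  refine Submodule.sub_mem _ (Submodule.add_mem _ hv ?_) ?_
  · by_cases hc : ng c ∈ Z
    · exact Submodule.smul_mem _ _ (bb_mem_SZ (h1 hc))
    · rw [hv _ hc, mul_zero, zero_smul]
      exact Submodule.zero_mem _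
  · by_cases hc : ng a ∈ Z
    · exact Submodule.smul_mem _ _ (bb_mem_SZ (h2 hc))
    · rw [hv _ hc, mul_zero, zero_smul]
      exact Submodule.zero_mem _

/-! ### The filtration groups -/

/-- the group acting trivially on the quotients of the filtration by the rank function `r` -/
def UF (r : Fin 4 × Bool → ℕ) : Subgroup (V8 F ≃ₗ[F] V8 F) where
  carrier := {u | ∀ k, ∀ v ∈ SZ {x | r x < k + 1}, u v - v ∈ SZ {x | r x < k}}
  one_mem' := fun k v _ => by
    change v - v ∈ _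
    rw [sub_self]
    exact Submodule.zero_mem _
  mul_mem' := by
    intro a b ha hb k v hv
    change a (b v) - v ∈ _
    have hle : (SZ {x | r x < k} : Submodule F (V8 F)) ≤ SZ {x | r x < k + 1} := fun w hw x hx => hw x fun h' =>
      hx (lt_trans h' (Nat.lt_succ_self k))
    have h1 := hb k v hv
    have h2 : b v ∈ SZ {x | r x < k + 1} := by
      have := Submodule.add_mem _ (hle h1) hv
      rwa [sub_add_cancel] at this
    have h3 := Submodule.add_mem _ (ha k _ h2) h1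
    rwa [sub_add_sub_cancel] at h3
  inv_mem' := by
    intro a ha
    have key : ∀ k, ∀ v ∈ SZ {x | r x < k}, a⁻¹ v ∈ SZ {x | r x < k} := by
      intro k
      induction k with
      | zero =>
        intro v hv
        have : v = 0 := co_ext fun x => by rw [map_zero]; exact hv x (Nat.not_lt_zero _)
        rw [this, map_zero]
        exact Submodule.zero_mem _
      | succ k ih =>
        intro v hv
        have hle : (SZ {x | r x < k} : Submodule F (V8 F)) ≤ SZ {x | r x < k + 1} := fun w hw x hx => hw x fun h' =>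
          hx (lt_trans h' (Nat.lt_succ_self k))
        have h1 := hle (ih _ (ha k v hv))
        have h2 : a⁻¹ v = v - a⁻¹ (a v - v) := by
          rw [map_sub]
          have : a⁻¹ (a v) = v := a.symm_apply_apply v
          rw [this]
          abel
        rw [h2]
        exact Submodule.sub_mem _ hv h1
    intro k v hv
    have h2 : a⁻¹ v - v = -a⁻¹ (a v - v) := by
      rw [map_sub]
      have : a⁻¹ (a v) = v := a.symm_apply_apply v
      rw [this]
      abel
    rw [h2]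
    exact Submodule.neg_mem _ (key k _ (ha k v hv))

theorem mem_UF {r : Fin 4 × Bool → ℕ} {u : V8 F ≃ₗ[F] V8 F} :
    u ∈ UF r ↔ ∀ k, ∀ v ∈ SZ {x | r x < k + 1}, u v - v ∈ SZ {x | r x < k} := Iff.rfl

theorem UF_bb {r : Fin 4 × Bool → ℕ} {u : V8 F ≃ₗ[F] V8 F} (hu : u ∈ UF r) (x : Fin 4 × Bool) :
    u (bb x) - bb x ∈ SZ {y | r y < r x} := hu (r x) _ (bb_mem_SZ (Nat.lt_succ_self _))

theorem X8_mem_UF {r : Fin 4 × Bool → ℕ} {a c : Fin 4 × Bool} (h : a.1 ≠ c.1) (h1 : r a < r (ng c))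
    (h2 : r c < r (ng a)) (t : F) : (F8 F).X a c t ∈ UF r := by
  intro k v hv
  rw [X8 h]
  have e : v + (t * co (ng c) v) • bb a - (t * co (ng a) v) • bb c - v =
      (t * co (ng c) v) • bb a - (t * co (ng a) v) • bb c := by abel
  rw [e]
  refine Submodule.sub_mem _ ?_ ?_
  · by_cases hc : r (ng c) < k + 1
    · exact Submodule.smul_mem _ _ (bb_mem_SZ (lt_of_lt_of_le h1 (Nat.lt_succ_iff.1 hc)))
    · rw [hv _ hc, mul_zero, zero_smul]
      exact Submodule.zero_mem _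
  · by_cases hc : r (ng a) < k + 1
    · exact Submodule.smul_mem _ _ (bb_mem_SZ (lt_of_lt_of_le h2 (Nat.lt_succ_iff.1 hc)))
    · rw [hv _ hc, mul_zero, zero_smul]
      exact Submodule.zero_mem _

end coord

/-! ### The root group datum of a quotient of `E Q` -/

section rgd

variable {F : Type*} [Field F] {S : Type*} [Group S] (π : E (Q8 F) →* S)

/-- the torus -/
def TSS : Subgroup S := ((TS (F8 F) (E (Q8 F))).subgroupOf (E (Q8 F))).map π

/-- the Weyl elements -/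
noncomputable def nS (i : Fin 4) : S := π ⟨WittRGDD.nn (F8 F) i, WittRGDD.nn_mem (amb_plus 4) i⟩

/-- the root groups -/
def XS (x : Fin 4 → ℤ) : Subgroup S := XD (n := 2) (wplus 4 F) π x

variable {π}

theorem RS [Finite F] (hk : π.ker ≤ Subgroup.center (E (Q8 F))) {p : ℕ} [Fact p.Prime] [CharP F p] {W : Type*}
    [Group W] (cs : CoxeterSystem (TypeD.M 2) W) : RGD cs (isCartan 2) p (TSS π) (nS π) (XS π) := by
  have : Finite (V8 F ≃ₗ[F] V8 F) :=
    Finite.of_injective (fun g : V8 F ≃ₗ[F] V8 F => (g : V8 F → V8 F)) DFunLike.coe_injective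
  have : Finite W := finite_W cs
  exact rgd_map_of_ker_le_center (rgd_restrict (rgdS (amb_plus 4) rfl (fun _ => rfl) (adm_plus 4) cs) (E (Q8 F))
    (fun x _ => rgD_le (n := 2) (wplus 4 F) (amb_plus 4) x) (fun i => WittRGDD.nn_mem (amb_plus 4) i)) π hk

theorem G1S (hπ : Function.Surjective π) {W : Type*} [Group W] (cs : CoxeterSystem (TypeD.M 2) W) :
    G1 cs (isCartan 2) (XS π) = ⊤ := G1D_eq_top (n := 2) (wplus 4 F) π hπ (adm_plus 4) cs

theorem GGS (hπ : Function.Surjective π) {W : Type*} [Group W] (cs : CoxeterSystem (TypeD.M 2) W) :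
    GG cs (isCartan 2) (TSS π) (XS π) = ⊤ := by
  rw [eq_top_iff, ← G1S hπ cs]
  exact le_sup_right

theorem mem_XS {x : Fin 4 → ℤ} {a c : Fin 4 × Bool} (hac : a.1 ≠ c.1) (e : TypeD.ee (n := 2) x = wt a + wt c) {s : S} :
    s ∈ XS π x ↔ ∃ t, ∃ hm : (F8 F).X a c t ∈ E (Q8 F), s = π ⟨_, hm⟩ := by
  unfold XS XD
  rw [WittRGDD.rg_eq (F8 F) hac e, Subgroup.mem_map]
  constructor
  · rintro ⟨z, hz, rfl⟩
    obtain ⟨t, ht⟩ := hz
    have h1 : (z : V8 F ≃ₗ[F] V8 F) = (F8 F).X a c t := ht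
    refine ⟨t, h1 ▸ z.2, congrArg π (Subtype.ext h1)⟩
  · rintro ⟨t, hm, rfl⟩
    exact ⟨_, ⟨t, rfl⟩, rfl⟩

theorem mem_TSS {s : S} : s ∈ TSS π ↔ ∃ z : E (Q8 F), MS (F8 F) z.1 (fun x => x) 1 ∧ s = π z := by
  unfold TSS
  rw [Subgroup.mem_map]
  constructor
  · rintro ⟨z, hz, rfl⟩
    exact ⟨z, hz.2, rfl⟩
  · rintro ⟨z, hz, rfl⟩
    exact ⟨z, ⟨z.2, hz⟩, rfl⟩

theorem TSS_comm : ∀ s ∈ TSS π, ∀ t ∈ TSS π, s * t = t * s := by
  intro s hs t ht
  obtain ⟨z, ⟨c, -, h1, -⟩, rfl⟩ := mem_TSS.1 hs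
  obtain ⟨w, ⟨d, -, h2, -⟩, rfl⟩ := mem_TSS.1 ht
  rw [← map_mul, ← map_mul]
  congr 1
  apply Subtype.ext
  apply ext_bb
  intro x
  change (z : V8 F ≃ₗ[F] V8 F) ((w : V8 F ≃ₗ[F] V8 F) (bb x)) = (w : V8 F ≃ₗ[F] V8 F) ((z : V8 F ≃ₗ[F] V8 F) (bb x))
  have e1 : (z : V8 F ≃ₗ[F] V8 F) (bb x) = c x • bb x := h1 x
  have e2 : (w : V8 F ≃ₗ[F] V8 F) (bb x) = d x • bb x := h2 x
  rw [e1, e2, map_smul, map_smul, e1, e2, smul_smul, smul_smul, mul_comm]

/-! ### Stabilisers -/

variable (π) in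
/-- the stabiliser of a subspace -/
def PS (D : Submodule F (V8 F)) : Subgroup S := ((StE D).subgroupOf (E (Q8 F))).map π

theorem mem_PS (hk : ∀ z : E (Q8 F), z ∈ π.ker → ∃ a : F, ∀ v, (z : V8 F ≃ₗ[F] V8 F) v = a • v)
    {D : Submodule F (V8 F)} {z : E (Q8 F)} : π z ∈ PS π D ↔ (z : V8 F ≃ₗ[F] V8 F) ∈ StE D := by
  constructor
  · intro h
    obtain ⟨w, hw, e⟩ := Subgroup.mem_map.1 h
    obtain ⟨a, ha⟩ := hk (w⁻¹ * z) (by rw [MonoidHom.mem_ker, map_mul, map_inv, e, inv_mul_cancel])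
    have h1 : (z : V8 F ≃ₗ[F] V8 F) = (w : V8 F ≃ₗ[F] V8 F) * ((w⁻¹ * z : E (Q8 F)) : V8 F ≃ₗ[F] V8 F) := by
      rw [← Subgroup.coe_mul, mul_inv_cancel_left]
    rw [h1]
    refine (StE D).mul_mem hw ?_
    have ha0 : a ≠ 0 := by
      rintro rfl
      have h2 := ha (bb (0, true))
      rw [zero_smul, LinearEquiv.map_eq_zero_iff] at h2
      have h3 := co_bb (F := F) (0, true) (0, true)
      rw [h2, map_zero, if_pos rfl] at h3
      exact zero_ne_one h3
    intro v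
    rw [ha]
    exact D.smul_mem_iff ha0
  · intro h
    exact Subgroup.mem_map.2 ⟨z, h, rfl⟩

theorem mono_StE {g : V8 F ≃ₗ[F] V8 F} {ρ : Fin 4 × Bool → Fin 4 × Bool} (hg : Mono (F8 F) g ρ)
    {Z : Set (Fin 4 × Bool)} (h : ∀ x ∈ Z, ρ x ∈ Z) {v : V8 F} (hv : v ∈ SZ Z) : g v ∈ SZ Z := by
  refine map_SZ (g := (g : V8 F →ₗ[F] V8 F)) (fun x hx => ?_) hv
  obtain ⟨l, -, e⟩ := hg x
  change g (bb x) ∈ _
  rw [show g (bb x) = l • bb (ρ x) from e]
  exact Submodule.smul_mem _ _ (bb_mem_SZ (h x hx))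

theorem TSS_le_PS [Finite F] (Z : Set (Fin 4 × Bool)) : TSS π ≤ PS π (SZ Z) := by
  intro s hs
  obtain ⟨z, hz, rfl⟩ := mem_TSS.1 hs
  exact Subgroup.mem_map.2 ⟨z, mem_StE_of_finite fun v hv => mono_StE hz.mono (fun x hx => hx) hv, rfl⟩

end rgd

end Cfsg.Agent.H158.OZ
end

-- part: H158/OZ/Par
section
/-!
# S4842, `PΩ⁺_8(q)`: parabolic and Levi subgroups of `RS` in terms of subspaces (helper158)
-/

set_option autoImplicit false
set_option linter.unusedSectionVars false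
set_option linter.unusedSimpArgs false

open Cfsg

namespace Cfsg.Agent.H158.OZ

open CoxeterSystem Cfsg.Agent.ChevalleyStructure.CoxeterGeom Cfsg.Agent.Tits.Roots
open Cfsg.Agent.Nodes Cfsg.Agent.Nodes.Comb Cfsg.Agent.Nodes.Reps Cfsg.Agent.Nodes.WittRoot Cfsg.Agent.Nodes.BNOf
open Cfsg.Agent.Nodes.RGDLib Cfsg.Agent.Nodes.WittAll Cfsg.Agent.Nodes.WittU Cfsg.Agent.Nodes.WittInst
open Cfsg.Agent.Nodes.StabComb Cfsg.Agent.Nodes.Bruhat Cfsg.Agent.Nodes.LeviDec
open Cfsg.Agent.Nodes.TypeC (wt ng ng_ng wt_apply)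
open Cfsg.Agent.Nodes.TypeD
open Cfsg.Agent.TitsThree Cfsg.Agent.TitsThree.Siegel Cfsg.Agent.TitsThree.WittFrame Cfsg.Agent.TitsThree.WittWeyl
  Cfsg.Agent.TitsThree.WBridge Cfsg.Agent.TitsThree.KSideO
open Cfsg.Agent.LieClassical Cfsg.Agent.LieClassical.OrthCore Cfsg.Agent.LieClassical.OrthTrans
open Cfsg.Agent.LieClassical.OrthForms QuadraticMap
open Cfsg.Agent.H769.OZ (StE le_StE mem_StE_of_finite mem_StE)

/-! ### Doubled root coordinates -/

/-- the `ε`-coordinates of a signed index -/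
def wz (x : Fin 4 × Bool) (k : Fin 4) : ℤ := if k = x.1 then (if x.2 then 1 else -1) else 0

/-- twice the coordinates of the root `wt a + wt c` -/
def dx (a c : Fin 4 × Bool) (k : Fin 4) : ℤ :=
  match k with
  | 0 => 2 * (wz a 0 + wz c 0)
  | 1 => 2 * (wz a 0 + wz c 0 + (wz a 1 + wz c 1))
  | 2 => wz a 0 + wz c 0 + (wz a 1 + wz c 1) + (wz a 2 + wz c 2) - (wz a 3 + wz c 3)
  | 3 => wz a 0 + wz c 0 + (wz a 1 + wz c 1) + (wz a 2 + wz c 2) + (wz a 3 + wz c 3)

theorem two_mul_eq {x : Fin 4 → ℤ} {a c : Fin 4 × Bool} (e : TypeD.ee (n := 2) x = wt a + wt c) (k : Fin 4) :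
    2 * x k = dx a c k := by
  have h : ∀ k : Fin 4, TypeD.ee (n := 2) x k = wz a k + wz c k := by
    intro k
    rw [e]
    change wt a k + wt c k = _
    rw [wt_apply, wt_apply]
    rfl
  have h0 : TypeD.ee (n := 2) x 0 = x 0 := by
    simp only [TypeD.ee, Finset.sum_apply, Fin.sum_univ_four, bt_apply, _root_.Nat.reduceAdd, _root_.zsmul_eq_mul, _root_.Fin.isValue, _root_.Pi.mul_apply, _root_.Pi.intCast_apply, _root_.Int.cast_eq, _root_.Fin.coe_ofNat_eq_mod, _root_.Nat.zero_mod, _root_.Nat.right_eq_add, _root_.Nat.add_eq_zero_iff, _root_.Fin.val_eq_zero_iff, _root_.one_ne_zero, _root_.and_false, ↓ _root_.reduceIte, _root_.OfNat.zero_ne_ofNat, _root_.ite_self, _root_.mul_ite, _root_.mul_one, _root_.MulZeroClass.mul_zero, _root_.Nat.one_mod, _root_.zero_ne_one, _root_.add_zero, _root_.Nat.reduceMod, _root_.Nat.mod_succ]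
  have h1 : TypeD.ee (n := 2) x 1 = x 1 - x 0 := by
    simp only [TypeD.ee, Finset.sum_apply, Fin.sum_univ_four, bt_apply, _root_.Nat.reduceAdd, _root_.zsmul_eq_mul, _root_.Fin.isValue, _root_.Pi.mul_apply, _root_.Pi.intCast_apply, _root_.Int.cast_eq, _root_.Fin.coe_ofNat_eq_mod, _root_.Nat.one_mod, _root_.Nat.right_eq_add, _root_.Fin.val_eq_zero_iff, _root_.Int.reduceNeg, _root_.OfNat.one_ne_ofNat, ↓ _root_.reduceIte, _root_.mul_ite, _root_.mul_one, _root_.mul_neg, _root_.MulZeroClass.mul_zero, _root_.Nat.zero_mod, _root_.zero_add, _root_.Nat.one_lt_ofNat, _root_.one_ne_zero, _root_.Nat.reduceLT, _root_.Nat.reduceMod, _root_.Nat.lt_add_one, _root_.Fin.reduceEq, _root_.add_zero, _root_.Nat.mod_succ, _root_.lt_self_iff_false]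
    ring
  have h2 : TypeD.ee (n := 2) x 2 = x 2 + x 3 - x 1 := by
    simp only [TypeD.ee, Finset.sum_apply, Fin.sum_univ_four, bt_apply, _root_.Nat.reduceAdd, _root_.zsmul_eq_mul, _root_.Fin.isValue, _root_.Pi.mul_apply, _root_.Pi.intCast_apply, _root_.Int.cast_eq, _root_.Fin.coe_ofNat_eq_mod, _root_.Nat.reduceMod, _root_.Nat.reduceEqDiff, _root_.Int.reduceNeg, ↓ _root_.reduceIte, _root_.ite_self, _root_.mul_ite, _root_.mul_one, _root_.mul_neg, _root_.MulZeroClass.mul_zero, _root_.Nat.zero_mod, _root_.zero_add, _root_.Nat.one_lt_ofNat, _root_.OfNat.ofNat_ne_zero, _root_.zero_ne_one, _root_.Nat.one_mod, _root_.Nat.reduceLT, _root_.OfNat.ofNat_ne_one, _root_.Nat.lt_add_one, _root_.Nat.mod_succ, _root_.lt_self_iff_false]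
    ring
  have h3 : TypeD.ee (n := 2) x 3 = x 3 - x 2 := by
    simp only [TypeD.ee, Finset.sum_apply, Fin.sum_univ_four, bt_apply, _root_.Nat.reduceAdd, _root_.zsmul_eq_mul, _root_.Fin.isValue, _root_.Pi.mul_apply, _root_.Pi.intCast_apply, _root_.Int.cast_eq, _root_.Fin.coe_ofNat_eq_mod, _root_.Nat.mod_succ, _root_.Nat.reduceEqDiff, _root_.Int.reduceNeg, _root_.OfNat.ofNat_eq_ofNat, _root_.Nat.succ_ne_self, ↓ _root_.reduceIte, _root_.mul_ite, _root_.mul_one, _root_.mul_neg, _root_.MulZeroClass.mul_zero, _root_.Nat.zero_mod, _root_.zero_add, _root_.Nat.one_lt_ofNat, _root_.OfNat.ofNat_ne_zero, _root_.OfNat.zero_ne_ofNat, _root_.Nat.one_mod, _root_.Nat.reduceLT, _root_.OfNat.ofNat_ne_one, _root_.OfNat.one_ne_ofNat, _root_.add_zero, _root_.Nat.reduceMod, _root_.Nat.lt_add_one, _root_.lt_self_iff_false]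
    ring
  have e0 := h 0
  have e1 := h 1
  have e2 := h 2
  have e3 := h 3
  rw [h0] at e0
  rw [h1] at e1
  rw [h2] at e2
  rw [h3] at e3
  fin_cases k
  · change 2 * x 0 = 2 * (wz a 0 + wz c 0)
    omega
  · change 2 * x 1 = 2 * (wz a 0 + wz c 0 + (wz a 1 + wz c 1))
    omega
  · change 2 * x 2 = wz a 0 + wz c 0 + (wz a 1 + wz c 1) + (wz a 2 + wz c 2) - (wz a 3 + wz c 3)
    (clear * - e0 e1 e2 e3; omega)
  · change 2 * x 3 = wz a 0 + wz c 0 + (wz a 1 + wz c 1) + (wz a 2 + wz c 2) + (wz a 3 + wz c 3)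
    omega

/-- the isotropic subspaces stabilised by the maximal parabolic subgroups -/
def DB (i : Fin 4) (x : Fin 4 × Bool) : Bool :=
  match i with
  | 0 => x.2 && decide (x.1 = 0)
  | 1 => x.2 && decide (x.1 ≤ 1)
  | 2 => (x.2 && decide (x.1 ≤ 2)) || (!x.2 && decide (x.1 = 3))
  | 3 => x.2

/-- the index sets -/
def DI (i : Fin 4) : Set (Fin 4 × Bool) := {x | DB i x = true}

theorem db1 : ∀ a c : Fin 4 × Bool, a.1 ≠ c.1 → ∀ i, 0 ≤ dx a c i →
    (DB i (ng c) = true → DB i a = true) ∧ (DB i (ng a) = true → DB i c = true) := by decide +kernel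

theorem db2 : ∀ i j : Fin 4, j ≠ i → ∀ x : Fin 4 × Bool, DB i x = true → DB i (TypeD.sg (n := 2) j x) = true := by
  decide +kernel

theorem db3 : ∀ i : Fin 4, ∃ x : Fin 4 × Bool, DB i x = true ∧ DB i (TypeD.sg (n := 2) i x) = false := by
  decide

section par

variable {F : Type*} [Field F] [Finite F] {S : Type*} [Group S] {π : E (Q8 F) →* S}
  {W : Type*} [Group W] {cs : CoxeterSystem (TypeD.M 2) W}

/-- the root groups in the stabilisers -/
theorem XS_le_PS {x : Fin 4 → ℤ} (hx : IsRoot cs (isCartan 2) x) {i : Fin 4} (h0 : 0 ≤ x i) :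
    XS π x ≤ PS π (SZ (DI i)) := by
  obtain ⟨a, c, hac, e⟩ := exists_of_isRoot cs hx
  intro s hs
  obtain ⟨t, hm, rfl⟩ := (mem_XS hac e).1 hs
  have h1 := db1 a c hac i (by rw [← two_mul_eq e]; omega)
  exact Subgroup.mem_map.2 ⟨⟨_, hm⟩, mem_StE_of_finite fun v hv => X8_mem_StE hac h1.1 h1.2 t hv, rfl⟩

theorem PJ_le_PS {K : Set (Fin 4)} {i : Fin 4} (hi : i ∉ K) :
    PJ cs (isCartan 2) (TSS π) (XS π) K ≤ PS π (SZ (DI i)) := by
  refine sup_le (sup_le (TSS_le_PS _) ?_) ?_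
  · exact RGD.Sup_le fun x hx => XS_le_PS hx.1 (hx.2 i hi).ge
  · exact RGD.Sup_le fun x hx => XS_le_PS hx.1 (hx.2.1 i)

variable (hk : ∀ z : E (Q8 F), z ∈ π.ker → ∃ a : F, ∀ v, (z : V8 F ≃ₗ[F] V8 F) v = a • v)

include hk

theorem ker_le : π.ker ≤ Subgroup.center (E (Q8 F)) := by
  intro z hz
  obtain ⟨a, ha⟩ := hk z hz
  rw [Subgroup.mem_center_iff]
  intro g
  apply Subtype.ext
  apply LinearEquiv.ext
  intro v
  change (g : V8 F ≃ₗ[F] V8 F) ((z : V8 F ≃ₗ[F] V8 F) v) = (z : V8 F ≃ₗ[F] V8 F) ((g : V8 F ≃ₗ[F] V8 F) v)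
  rw [ha, ha, map_smul]

theorem nS_mem_PS {i j : Fin 4} : nS π j ∈ PS π (SZ (DI i)) ↔ j ≠ i := by
  constructor
  · rintro h rfl
    have h1 := (mem_PS hk).1 h
    obtain ⟨x, hx, hx'⟩ := db3 j
    have h2 := (h1 (bb x)).2 (bb_mem_SZ hx)
    obtain ⟨l, hl, e⟩ := WittRGDD.mono_nn (Fr := F8 F) j x
    rw [show (WittRGDD.nn (F8 F) j) (bb x) = l • bb (TypeD.sg (n := 2) j x) from e] at h2
    rw [Submodule.smul_mem_iff _ hl, bb_mem_SZ_iff] at h2
    rw [show DB j (TypeD.sg (n := 2) j x) = true from h2] at hx'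
    exact absurd hx' (by decide)
  · intro h
    exact Subgroup.mem_map.2 ⟨⟨_, WittRGDD.nn_mem (amb_plus 4) j⟩, mem_StE_of_finite fun v hv =>
      mono_StE (WittRGDD.mono_nn (Fr := F8 F) j) (fun x hx => db2 i j h x hx) hv, rfl⟩

/-- **the parabolic subgroups** -/
theorem mem_PJ_iff (hπ : Function.Surjective π) {p : ℕ} [Fact p.Prime] [CharP F p] {J : Set (Fin 4)} {s : S} :
    s ∈ PJ cs (isCartan 2) (TSS π) (XS π) J ↔ ∀ i, i ∉ J → s ∈ PS π (SZ (DI i)) := by
  classical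
  refine ⟨fun h i hi => PJ_le_PS hi h, fun h => ?_⟩
  have : Finite W := finite_W cs
  have : Finite (V8 F ≃ₗ[F] V8 F) :=
    Finite.of_injective (fun g : V8 F ≃ₗ[F] V8 F => (g : V8 F → V8 F)) DFunLike.coe_injective
  have : Finite S := Finite.of_surjective _ hπ
  have R := RS (p := p) (ker_le hk) cs
  let P : Subgroup S := ⨅ i : {i : Fin 4 // i ∉ J}, PS π (SZ (DI i.1))
  have hB : RGD.B cs (isCartan 2) (TSS π) (XS π) ≤ P := by
    refine le_iInf fun i => ?_
    exact le_trans B_le_PJ (PJ_le_PS i.2)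
  have h1 := inf_eq_PJ R hB
  rw [GGS hπ cs, inf_top_eq] at h1
  have h2 : {i | nS π i ∈ P} = J := by
    ext j
    change nS π j ∈ P ↔ _
    rw [Subgroup.mem_iInf]
    constructor
    · intro h3
      by_contra hj
      exact (nS_mem_PS hk).1 (h3 ⟨j, hj⟩) rfl
    · rintro hj ⟨i, hi⟩
      exact (nS_mem_PS hk).2 fun h3 => hi ((show j = i from h3) ▸ hj)
  rw [h2] at h1
  rw [← h1, Subgroup.mem_iInf]
  exact fun i => h i.1 i.2

end par

/-! ### The four types of Levi subgroups -/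

/-- combinatorial data: `r` the rank function, `β` the blocks -/
structure Dt (J : Set (Fin 4)) (r β : Fin 4 × Bool → ℕ) : Prop where
  not : ∀ a c : Fin 4 × Bool, a.1 ≠ c.1 → (∀ k, 0 ≤ dx a c k) → (∃ k, k ∉ J ∧ 0 < dx a c k) →
    r a < r (ng c) ∧ r c < r (ng a)
  lev : ∀ a c : Fin 4 × Bool, a.1 ≠ c.1 → (∀ k, k ∉ J → dx a c k = 0) → β a = β (ng c) ∧ β c = β (ng a)
  blk : ∀ a c : Fin 4 × Bool, β a = β c → r a = r c

/-- `{0,1,2}` -/
def r1 (x : Fin 4 × Bool) : ℕ := if x.2 then 0 else 1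

theorem dt1 : Dt {0, 1, 2} r1 r1 where
  not := by
    have h : ∀ a c : Fin 4 × Bool, a.1 ≠ c.1 → (∀ k, 0 ≤ dx a c k) → (0 < dx a c 3) →
        r1 a < r1 (ng c) ∧ r1 c < r1 (ng a) := by decide +kernel
    rintro a c hac h0 ⟨k, hk, hk0⟩
    have : k = 3 := by
      revert hk
      (revert k; simp only [_root_.Fin.forall_fin_succ, Fin.isValue, _root_.Set.mem_insert_iff, _root_.Set.mem_singleton_iff, _root_.not_or, _root_.and_imp, _root_.not_true_eq_false, _root_.zero_ne_one, _root_.not_false_eq_true, Fin.reduceEq, _root_.imp_false, _root_.imp_self, _root_.implies_true, _root_.Fin.succ_ne_zero, _root_.forall_const, _root_.Fin.succ_zero_eq_one, _root_.Fin.succ_one_eq_two, Fin.reduceSucc, _root_.IsEmpty.forall_iff, _root_.and_self])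
    subst this
    exact h a c hac h0 hk0
  lev := by
    have h : ∀ a c : Fin 4 × Bool, a.1 ≠ c.1 → dx a c 3 = 0 → r1 a = r1 (ng c) ∧ r1 c = r1 (ng a) := by decide +kernel
    intro a c hac h0
    exact h a c hac (h0 3 (by simp))
  blk := fun _ _ h => h

/-- `{0,1,3}` -/
def r2 (x : Fin 4 × Bool) : ℕ := if DB 2 x then 0 else 1

theorem dt2 : Dt {0, 1, 3} r2 r2 where
  not := by
    have h : ∀ a c : Fin 4 × Bool, a.1 ≠ c.1 → (∀ k, 0 ≤ dx a c k) → (0 < dx a c 2) →
        r2 a < r2 (ng c) ∧ r2 c < r2 (ng a) := by decide +kernel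
    rintro a c hac h0 ⟨k, hk, hk0⟩
    have : k = 2 := by
      revert hk
      (revert k; simp only [_root_.Fin.forall_fin_succ, Fin.isValue, _root_.Set.mem_insert_iff, _root_.Set.mem_singleton_iff, _root_.not_or, _root_.and_imp, _root_.not_true_eq_false, _root_.zero_ne_one, _root_.not_false_eq_true, Fin.reduceEq, _root_.imp_false, _root_.imp_self, _root_.implies_true, _root_.Fin.succ_ne_zero, _root_.forall_const, _root_.Fin.succ_zero_eq_one, _root_.Fin.succ_one_eq_two, Fin.reduceSucc, _root_.IsEmpty.forall_iff, _root_.and_self])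
    subst this
    exact h a c hac h0 hk0
  lev := by
    have h : ∀ a c : Fin 4 × Bool, a.1 ≠ c.1 → dx a c 2 = 0 → r2 a = r2 (ng c) ∧ r2 c = r2 (ng a) := by decide +kernel
    intro a c hac h0
    exact h a c hac (h0 2 (by simp))
  blk := fun _ _ h => h

/-- `{0,1}` : ranks -/
def r3 (x : Fin 4 × Bool) : ℕ := if x.1 = 3 then 1 else if x.2 then 0 else 2

/-- `{0,1}` : blocks -/
def b3 (x : Fin 4 × Bool) : ℕ := if x.1 = 3 then (if x.2 then 1 else 3) else if x.2 then 0 else 2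

theorem dt3 : Dt {0, 1} r3 b3 where
  not := by
    have h : ∀ a c : Fin 4 × Bool, a.1 ≠ c.1 → (∀ k, 0 ≤ dx a c k) → (0 < dx a c 2 ∨ 0 < dx a c 3) →
        r3 a < r3 (ng c) ∧ r3 c < r3 (ng a) := by decide +kernel
    rintro a c hac h0 ⟨k, hk, hk0⟩
    have : k = 2 ∨ k = 3 := by
      revert hk
      (revert k; simp only [_root_.Fin.forall_fin_succ, Fin.isValue, _root_.Set.mem_insert_iff, _root_.Set.mem_singleton_iff, _root_.not_or, _root_.and_imp, _root_.not_true_eq_false, _root_.zero_ne_one, _root_.not_false_eq_true, Fin.reduceEq, _root_.or_self, _root_.imp_false, _root_.imp_self, _root_.implies_true, _root_.Fin.succ_ne_zero, _root_.forall_const, _root_.Fin.succ_zero_eq_one, _root_.Fin.succ_one_eq_two, _root_.or_false, Fin.reduceSucc, _root_.or_true, _root_.IsEmpty.forall_iff, _root_.and_self])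
    rcases this with rfl | rfl
    · exact h a c hac h0 (Or.inl hk0)
    · exact h a c hac h0 (Or.inr hk0)
  lev := by
    have h : ∀ a c : Fin 4 × Bool, a.1 ≠ c.1 → dx a c 2 = 0 → dx a c 3 = 0 →
        b3 a = b3 (ng c) ∧ b3 c = b3 (ng a) := by decide +kernel
    intro a c hac h0
    exact h a c hac (h0 2 (by simp)) (h0 3 (by simp))
  blk := by decide

/-- `{0}` : ranks -/
def r4 (x : Fin 4 × Bool) : ℕ := if x.1 = 3 then 2 else if x.1 = 2 then (if x.2 then 1 else 3) else if x.2 then 0 else 4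

/-- `{0}` : blocks -/
def b4 (x : Fin 4 × Bool) : ℕ := if x = (3, false) then 5 else r4 x

theorem dt4 : Dt {0} r4 b4 where
  not := by
    have h : ∀ a c : Fin 4 × Bool, a.1 ≠ c.1 → (∀ k, 0 ≤ dx a c k) → (0 < dx a c 1 ∨ 0 < dx a c 2 ∨ 0 < dx a c 3) →
        r4 a < r4 (ng c) ∧ r4 c < r4 (ng a) := by decide +kernel
    rintro a c hac h0 ⟨k, hk, hk0⟩
    have : k = 1 ∨ k = 2 ∨ k = 3 := by
      revert hk
      fin_cases k <;> simp
    rcases this with rfl | rfl | rfl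
    · exact h a c hac h0 (Or.inl hk0)
    · exact h a c hac h0 (Or.inr (Or.inl hk0))
    · exact h a c hac h0 (Or.inr (Or.inr hk0))
  lev := by
    have h : ∀ a c : Fin 4 × Bool, a.1 ≠ c.1 → dx a c 1 = 0 → dx a c 2 = 0 → dx a c 3 = 0 →
        b4 a = b4 (ng c) ∧ b4 c = b4 (ng a) := by decide +kernel
    intro a c hac h0
    exact h a c hac (h0 1 (by simp)) (h0 2 (by simp)) (h0 3 (by simp))
  blk := by decide

section levi

variable {F : Type*} [Field F] [Finite F] {S : Type*} [Group S] {π : E (Q8 F) →* S}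
  {W : Type*} [Group W] {cs : CoxeterSystem (TypeD.M 2) W} {J : Set (Fin 4)} {r β : Fin 4 × Bool → ℕ} (D : Dt J r β)

include D

theorem VJ_le_UF : VJ cs (isCartan 2) (XS π) J ≤ ((UF r).subgroupOf (E (Q8 F))).map π := by
  refine RGD.Sup_le fun x hx s hs => ?_
  obtain ⟨a, c, hac, e⟩ := exists_of_isRoot cs hx.1
  obtain ⟨t, hm, rfl⟩ := (mem_XS hac e).1 hs
  obtain ⟨k, hk, hk0⟩ := hx.2.2
  have h1 := D.not a c hac (fun k => by
    rw [← two_mul_eq e]
    have := hx.2.1 k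
    simp only [Pi.zero_apply] at this
    omega) ⟨k, hk, by rw [← two_mul_eq e]; omega⟩
  exact Subgroup.mem_map.2 ⟨⟨_, hm⟩, X8_mem_UF hac h1.1 h1.2 t, rfl⟩

theorem LJ_le_block (k : ℕ) : LJ cs (isCartan 2) (TSS π) (XS π) J ≤ PS π (SZ {x | β x = k}) := by
  refine sup_le (TSS_le_PS _) (RGD.Sup_le fun x hx s hs => ?_)
  obtain ⟨a, c, hac, e⟩ := exists_of_isRoot cs hx.1
  obtain ⟨t, hm, rfl⟩ := (mem_XS hac e).1 hs
  have h1 := D.lev a c hac fun k hk => by rw [← two_mul_eq e, hx.2 k hk, mul_zero]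
  refine Subgroup.mem_map.2 ⟨⟨_, hm⟩, mem_StE_of_finite fun v hv => X8_mem_StE hac ?_ ?_ t hv, rfl⟩
  · intro h2
    change β a = k
    rw [h1.1]
    exact h2
  · intro h2
    change β c = k
    rw [h1.2]
    exact h2

omit D [Finite F] in
/-- an element of the filtration group preserving the blocks is trivial -/
theorem eq_one_of_blocks (hb : ∀ a c : Fin 4 × Bool, β a = β c → r a = r c) {u : V8 F ≃ₗ[F] V8 F} (hu : u ∈ UF r)
    (h : ∀ x, u (bb x) ∈ SZ {y | β y = β x}) : u = 1 := by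
  apply ext_bb
  intro x
  change u (bb x) = bb x
  rw [← sub_eq_zero]
  apply co_ext
  intro y
  rw [map_zero]
  by_cases hy : β y = β x
  · exact UF_bb hu x y (by
      change ¬ r y < r x
      rw [hb _ _ hy]
      exact lt_irrefl _)
  · have h1 : u (bb x) - bb x ∈ SZ {y | β y = β x} :=
      Submodule.sub_mem _ (h x) (bb_mem_SZ (show β x = β x from rfl))
    exact h1 y hy

variable (hk : ∀ z : E (Q8 F), z ∈ π.ker → ∃ a : F, ∀ v, (z : V8 F ≃ₗ[F] V8 F) v = a • v)

include hk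

/-- **the Levi subgroups** -/
theorem mem_LJ_of (hπ : Function.Surjective π) {p : ℕ} [Fact p.Prime] [CharP F p] {z : E (Q8 F)}
    (h1 : ∀ i, i ∉ J → ∀ v ∈ SZ (DI i), (z : V8 F ≃ₗ[F] V8 F) v ∈ SZ (DI i))
    (h2 : ∀ k, ∀ v ∈ SZ {x | β x = k}, (z : V8 F ≃ₗ[F] V8 F) v ∈ SZ {x | β x = k}) :
    π z ∈ LJ cs (isCartan 2) (TSS π) (XS π) J := by
  have : Finite (V8 F ≃ₗ[F] V8 F) :=
    Finite.of_injective (fun g : V8 F ≃ₗ[F] V8 F => (g : V8 F → V8 F)) DFunLike.coe_injective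
  have : Finite S := Finite.of_surjective _ hπ
  have R := RS (p := p) (ker_le hk) cs
  have h3 : π z ∈ PJ cs (isCartan 2) (TSS π) (XS π) J := (mem_PJ_iff (p := p) hk hπ).2 fun i hi =>
    Subgroup.mem_map.2 ⟨z, mem_StE_of_finite (h1 i hi), rfl⟩
  obtain ⟨l, hl, v, hv, e⟩ := (mem_PJ R).1 h3
  obtain ⟨u, hu, rfl⟩ := Subgroup.mem_map.1 (VJ_le_UF D hv)
  have hu1 : (u : V8 F ≃ₗ[F] V8 F) = 1 := by
    refine eq_one_of_blocks D.blk hu fun x => ?_
    have h4 : π u ∈ PS π (SZ {y | β y = β x}) := by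
      have h5 : π u = l⁻¹ * π z := by rw [e]; group
      rw [h5]
      exact mul_mem (inv_mem (LJ_le_block D _ hl))
        (Subgroup.mem_map.2 ⟨z, mem_StE_of_finite (h2 _), rfl⟩)
    exact ((mem_PS hk).1 h4 _).2 (bb_mem_SZ (show β x = β x from rfl))
  have hu2 : u = 1 := Subtype.ext hu1
  rw [e, hu2, map_one, mul_one]
  exact hl

end levi

end Cfsg.Agent.H158.OZ
end

-- part: H158/OZ/Crit
section
/-!
# S4842, `PΩ⁺_8(q)`: criteria for elliptic elements (helper158)

`z ∈ E Q`, `π : E Q →* S` with kernel scalars. `ell1`, `ell2`, `ell3`, `ell4` : `π z` is elliptic for `J = {0,1,2}`, `{0,1,3}`,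
`{0,1}`, `{0}`, in terms of polynomials annihilating the blocks and of the irreducibility on the isotropic block.
-/

set_option autoImplicit false
set_option linter.unusedSectionVars false
set_option linter.unusedSimpArgs false

open Cfsg

namespace Cfsg.Agent.H158.OZ

open CoxeterSystem Cfsg.Agent.ChevalleyStructure.CoxeterGeom Cfsg.Agent.Tits.Roots
open Cfsg.Agent.Nodes Cfsg.Agent.Nodes.Comb Cfsg.Agent.Nodes.Reps Cfsg.Agent.Nodes.WittRoot Cfsg.Agent.Nodes.BNOf
open Cfsg.Agent.Nodes.RGDLib Cfsg.Agent.Nodes.WittAll Cfsg.Agent.Nodes.WittU Cfsg.Agent.Nodes.WittInst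
open Cfsg.Agent.Nodes.StabComb Cfsg.Agent.Nodes.Bruhat Cfsg.Agent.Nodes.LeviDec
open Cfsg.Agent.Nodes.TypeC (wt ng ng_ng wt_apply)
open Cfsg.Agent.Nodes.TypeD
open Cfsg.Agent.TitsThree Cfsg.Agent.TitsThree.Siegel Cfsg.Agent.TitsThree.WittFrame Cfsg.Agent.TitsThree.WittWeyl
  Cfsg.Agent.TitsThree.WBridge Cfsg.Agent.TitsThree.KSideO
open Cfsg.Agent.LieClassical Cfsg.Agent.LieClassical.OrthCore Cfsg.Agent.LieClassical.OrthTrans
open Cfsg.Agent.LieClassical.OrthForms QuadraticMap Polynomial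
open Cfsg.Agent.H769.OZ (StE le_StE mem_StE_of_finite mem_StE)
open Cfsg.Agent.H985.VZ (Free Ell)

section lin

variable {F : Type*} [Field F]

theorem coprime_zero {g g' : F[X]} (h : IsCoprime g g') {Z : Module.End F (V8 F)} {w : V8 F} (h1 : aeval Z g w = 0)
    (h2 : aeval Z g' w = 0) : w = 0 := by
  obtain ⟨a, b, hab⟩ := h
  have h3 := congrArg (fun q => aeval Z q w) hab
  simp only [map_add, map_mul, map_one, LinearMap.add_apply, Module.End.mul_apply, h1, h2, map_zero, add_zero,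
    Module.End.one_apply] at h3
  exact h3.symm

/-- the projection to the coordinates in `Z` -/
noncomputable def pr (Z : Set (Fin 4 × Bool)) : V8 F →ₗ[F] V8 F := by
  classical
  exact ∑ x, if x ∈ Z then (co x).smulRight (bb x) else 0

theorem co_pr (Z : Set (Fin 4 × Bool)) [DecidablePred (· ∈ Z)] (v : V8 F) (y : Fin 4 × Bool) :
    co y (pr Z v) = if y ∈ Z then co y v else 0 := by
  classical
  unfold pr
  rw [LinearMap.sum_apply, map_sum, Finset.sum_eq_single y]
  · by_cases hy : y ∈ Z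
    · rw [if_pos hy, if_pos hy, LinearMap.smulRight_apply, map_smul, co_bb, if_pos rfl, smul_eq_mul, mul_one]
    · rw [if_neg hy, if_neg hy, LinearMap.zero_apply, map_zero]
  · intro x _ hx
    by_cases hy : x ∈ Z
    · rw [if_pos hy, LinearMap.smulRight_apply, map_smul, co_bb, if_neg hx.symm, smul_zero]
    · rw [if_neg hy, LinearMap.zero_apply, map_zero]
  · intro h
    exact absurd (Finset.mem_univ y) h

theorem pr_mem (Z : Set (Fin 4 × Bool)) (v : V8 F) : pr Z v ∈ SZ Z := by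
  classical
  intro x hx
  rw [co_pr, if_neg hx]

theorem pr_of_mem {Z : Set (Fin 4 × Bool)} {v : V8 F} (hv : v ∈ SZ Z) : pr Z v = v := by
  classical
  apply co_ext
  intro x
  rw [co_pr]
  split_ifs with h
  · rfl
  · exact (hv x h).symm

theorem pr_of_mem_compl {Z : Set (Fin 4 × Bool)} {v : V8 F} (hv : v ∈ SZ Zᶜ) : pr Z v = 0 := by
  classical
  apply co_ext
  intro x
  rw [co_pr, map_zero]
  split_ifs with h
  · exact hv x fun h' => h' h
  · rfl

/-- the projection commutes with maps preserving the coordinates in `Z` and outside `Z` -/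
theorem pr_comm {Z : Set (Fin 4 × Bool)} {g : Module.End F (V8 F)} (h1 : ∀ x ∈ Z, g (bb x) ∈ SZ Z)
    (h2 : ∀ x, x ∉ Z → g (bb x) ∈ SZ Zᶜ) (v : V8 F) : pr Z (g v) = g (pr Z v) := by
  have h3 : v = pr Z v + (v - pr Z v) := by abel
  have h4 : v - pr Z v ∈ SZ Zᶜ := by
    classical
    intro x hx
    rw [map_sub, co_pr, if_pos (not_not.1 hx), sub_self]
  conv_lhs => rw [h3]
  rw [map_add, map_add, pr_of_mem (map_SZ h1 (pr_mem Z v)), pr_of_mem_compl (map_SZ (fun x hx => h2 x hx) h4), add_zero]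

theorem commute_aeval {Z U : Module.End F (V8 F)} (h : Commute U Z) (q : F[X]) : Commute U (aeval Z q) := by
  induction q using Polynomial.induction_on' with
  | add p q hp hq => rw [map_add]; exact hp.add_right hq
  | monomial n a =>
    rw [aeval_monomial]
    exact (Algebra.commute_algebraMap_right a U).mul_right (h.pow_right n)

theorem aeval_mem {Z : Module.End F (V8 F)} {D : Submodule F (V8 F)} (h : ∀ v ∈ D, Z v ∈ D) (q : F[X]) {v : V8 F}
    (hv : v ∈ D) : aeval Z q v ∈ D := by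
  have hp : ∀ n : ℕ, ∀ w ∈ D, (Z ^ n) w ∈ D := by
    intro n
    induction n with
    | zero => intro w hw; exact hw
    | succ n ih => intro w hw; rw [pow_succ]; exact ih _ (h w hw)
  induction q using Polynomial.induction_on' with
  | add p q hp hq => rw [map_add]; exact D.add_mem hp hq
  | monomial n a =>
    rw [aeval_monomial, Module.End.mul_apply, Module.algebraMap_end_apply]
    exact D.smul_mem _ (hp n v hv)

/-- elements commuting with `z` preserve the coarse blocks -/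
theorem block_of_comm {z u : V8 F ≃ₗ[F] V8 F} (hzu : z * u = u * z) {γ : Fin 4 × Bool → ℕ}
    (hz : ∀ x, z (bb x) ∈ SZ {y | γ y = γ x}) {g : ℕ → F[X]}
    (hg : ∀ x, aeval (z : Module.End F (V8 F)) (g (γ x)) (bb x) = 0)
    (hc : ∀ x y, γ x ≠ γ y → IsCoprime (g (γ x)) (g (γ y))) (x : Fin 4 × Bool) :
    u (bb x) ∈ SZ {y | γ y = γ x} := by
  classical
  intro y hy
  have hy' : γ x ≠ γ y := fun h => hy h.symm
  set Z : Set (Fin 4 × Bool) := {w | γ w = γ y} with hZ
  have hcm : Commute (u : Module.End F (V8 F)) (z : Module.End F (V8 F)) :=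
    LinearMap.ext fun w => (congrArg (fun k : V8 F ≃ₗ[F] V8 F => k w) hzu).symm
  have h1 : ∀ (q : F[X]) (v : V8 F), aeval (z : Module.End F (V8 F)) q (u v) =
      u (aeval (z : Module.End F (V8 F)) q v) := fun q v =>
    (congrArg (fun k : Module.End F (V8 F) => k v) (commute_aeval hcm q).eq).symm
  have hp : Commute (pr Z : Module.End F (V8 F)) (z : Module.End F (V8 F)) := by
    refine LinearMap.ext fun w => ?_
    refine pr_comm (g := (z : Module.End F (V8 F))) (fun w hw => ?_) (fun w hw => ?_) w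
    · intro v hv
      exact hz w v fun h => hv (h.trans hw)
    · intro v hv
      exact hz w v fun h => hw (by
        have h2 : γ v = γ y := not_not.1 hv
        exact h.symm.trans h2)
  set w := pr Z (u (bb x)) with hw
  have h2 : aeval (z : Module.End F (V8 F)) (g (γ x)) w = 0 := by
    have h3 := congrArg (fun k : Module.End F (V8 F) => k (u (bb x))) (commute_aeval hp (g (γ x))).eq
    change pr Z (aeval (z : Module.End F (V8 F)) (g (γ x)) (u (bb x))) = aeval (z : Module.End F (V8 F)) (g (γ x)) w at h3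
    rw [← h3, h1, hg, map_zero, map_zero]
  have h3 : aeval (z : Module.End F (V8 F)) (g (γ y)) w = 0 := by
    have h4 : ∀ v ∈ (SZ Z : Submodule F (V8 F)), aeval (z : Module.End F (V8 F)) (g (γ y)) v ∈ (⊥ : Submodule F (V8 F)) :=
      fun v hv => map_SZ (fun w hw => by
        rw [Submodule.mem_bot, ← hg w, show γ w = γ y from hw]) hv
    exact (Submodule.mem_bot F).1 (h4 w (pr_mem Z _))
  have h4 := coprime_zero (hc x y hy') h2 h3
  have h5 := co_pr Z (u (bb x)) y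
  rw [← hw, h4, map_zero, if_pos (show y ∈ Z from rfl)] at h5
  exact h5.symm

end lin

section crit

variable {F : Type*} [Field F] [Finite F] {S : Type*} [Group S] {π : E (Q8 F) →* S}
  {W : Type*} [Group W] {cs : CoxeterSystem (TypeD.M 2) W} {J : Set (Fin 4)} {r β : Fin 4 × Bool → ℕ} (D : Dt J r β)
  (hk : ∀ z : E (Q8 F), z ∈ π.ker → ∃ a : F, ∀ v, (z : V8 F ≃ₗ[F] V8 F) v = a • v)
  (hπ : Function.Surjective π) {z : E (Q8 F)}
  (hz : ∀ x, (z : V8 F ≃ₗ[F] V8 F) (bb x) ∈ SZ {y | β y = β x})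

include hz

omit [Finite F] in
theorem z_mem_block (k : ℕ) {v : V8 F} (hv : v ∈ SZ {x | β x = k}) :
    (z : V8 F ≃ₗ[F] V8 F) v ∈ SZ {x | β x = k} :=
  map_SZ (g := ((z : V8 F ≃ₗ[F] V8 F) : V8 F →ₗ[F] V8 F)) (fun x hx => by
    have h := hz x
    rwa [show β x = k from hx] at h) hv

include D hk hπ

/-- freeness: an element of the filtration group commuting with `z` is trivial -/
theorem free_of {p : ℕ} [Fact p.Prime] [CharP F p] (hDI : ∀ i, i ∉ J → ∀ x ∈ DI i, ∀ y, β y = β x → y ∈ DI i)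
    (h0 : ∃ x0, r x0 = 0)
    (hc : ∀ u : E (Q8 F), (u : V8 F ≃ₗ[F] V8 F) ∈ UF r → (z : V8 F ≃ₗ[F] V8 F) * u = u * z →
      (u : V8 F ≃ₗ[F] V8 F) = 1) : Free cs (isCartan 2) (TSS π) (XS π) J (π z) := by
  refine ⟨mem_LJ_of (p := p) D hk hπ (fun i hi v hv => ?_) (fun k v hv => z_mem_block hz k hv), fun v hv hvz => ?_⟩
  · refine map_SZ (g := ((z : V8 F ≃ₗ[F] V8 F) : V8 F →ₗ[F] V8 F)) (D := SZ (DI i)) (fun x hx => ?_) hv
    intro y hy
    exact hz x y fun h => hy (hDI i hi x hx y h)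
  · obtain ⟨u, hu, rfl⟩ := Subgroup.mem_map.1 (VJ_le_UF D hv)
    have hu' : (u : V8 F ≃ₗ[F] V8 F) ∈ UF r := hu
    obtain ⟨a, ha⟩ := hk ((z * u) * (u * z)⁻¹) (by
      rw [MonoidHom.mem_ker, map_mul, map_inv, map_mul, map_mul, hvz, mul_inv_cancel])
    have h1 : ∀ v, (z : V8 F ≃ₗ[F] V8 F) ((u : V8 F ≃ₗ[F] V8 F) v) =
        a • (u : V8 F ≃ₗ[F] V8 F) ((z : V8 F ≃ₗ[F] V8 F) v) := by
      intro v
      have h2 := ha ((u : V8 F ≃ₗ[F] V8 F) ((z : V8 F ≃ₗ[F] V8 F) v))
      have h3 : (((z * u) * (u * z)⁻¹ : E (Q8 F)) : V8 F ≃ₗ[F] V8 F)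
          ((u : V8 F ≃ₗ[F] V8 F) ((z : V8 F ≃ₗ[F] V8 F) v)) =
          (((z * u) * (u * z)⁻¹ * (u * z) : E (Q8 F)) : V8 F ≃ₗ[F] V8 F) v := rfl
      rw [h3, inv_mul_cancel_right] at h2
      exact h2
    have hfix : ∀ v ∈ (SZ {x | r x < 1} : Submodule F (V8 F)), (u : V8 F ≃ₗ[F] V8 F) v = v := by
      intro v hv
      have h2 := hu' 0 v hv
      have h3 : (u : V8 F ≃ₗ[F] V8 F) v - v = 0 := co_ext fun x => by
        rw [map_zero]
        exact h2 x (Nat.not_lt_zero _)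
      exact sub_eq_zero.1 h3
    obtain ⟨x0, hx0⟩ := h0
    have h2 : (u : V8 F ≃ₗ[F] V8 F) (bb x0) = bb x0 := hfix _ (bb_mem_SZ (by
      change r x0 < 1
      rw [hx0]
      exact one_pos))
    have h3 : (u : V8 F ≃ₗ[F] V8 F) ((z : V8 F ≃ₗ[F] V8 F) (bb x0)) = (z : V8 F ≃ₗ[F] V8 F) (bb x0) := by
      refine hfix _ fun y hy => hz x0 y fun h => hy ?_
      change r y < 1
      rw [D.blk y x0 h, hx0]
      exact one_pos
    have h4 := h1 (bb x0)
    rw [h2, h3] at h4
    have hne : (z : V8 F ≃ₗ[F] V8 F) (bb x0) ≠ 0 := by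
      intro h
      rw [LinearEquiv.map_eq_zero_iff] at h
      have h5 := co_bb (F := F) x0 x0
      rw [h, map_zero, if_pos rfl] at h5
      exact zero_ne_one h5
    have ha1 : a = 1 := by
      have h5 : (a - 1) • (z : V8 F ≃ₗ[F] V8 F) (bb x0) = 0 := by rw [sub_smul, one_smul, ← h4, sub_self]
      exact sub_eq_zero.1 ((smul_eq_zero.1 h5).resolve_right hne)
    have h5 : (z : V8 F ≃ₗ[F] V8 F) * u = u * z := by
      apply LinearEquiv.ext
      intro v
      have h6 := h1 v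
      rw [ha1, one_smul] at h6
      exact h6
    have h6 : u = 1 := Subtype.ext (hc u hu' h5)
    rw [h6, map_one]

/-- **ellipticity** -/
theorem ell_of {p : ℕ} [Fact p.Prime] [CharP F p] (hDI : ∀ i, i ∉ J → ∀ x ∈ DI i, ∀ y, β y = β x → y ∈ DI i)
    (h0 : ∃ x0, r x0 = 0)
    (hc : ∀ u : E (Q8 F), (u : V8 F ≃ₗ[F] V8 F) ∈ UF r → (z : V8 F ≃ₗ[F] V8 F) * u = u * z →
      (u : V8 F ≃ₗ[F] V8 F) = 1)
    {ZJ : Set (Fin 4 × Bool)} (hZ : ∀ x, x ∈ ZJ ↔ ∀ j, j ∉ J → x ∈ DI j)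
    (hi : ∀ i ∈ J, (∃ x ∈ ZJ, x ∈ DI i) ∧ ∃ y ∈ ZJ, y ∉ DI i)
    (hirr : ∀ D' : Submodule F (V8 F), D' ≤ SZ ZJ → (∀ v ∈ D', (z : V8 F ≃ₗ[F] V8 F) v ∈ D') →
      D' = ⊥ ∨ D' = SZ ZJ) : Ell cs (isCartan 2) (TSS π) (XS π) J (π z) := by
  refine ⟨free_of (p := p) D hk hπ hz hDI h0 hc, fun K hK l hl hmem => ?_⟩
  obtain ⟨hKJ, i, hiJ, hiK⟩ := Set.ssubset_iff_exists.1 hK
  obtain ⟨l, rfl⟩ := hπ l
  have hstE : ∀ {z' : E (Q8 F)} {D' : Submodule F (V8 F)}, π z' ∈ PS π D' → (z' : V8 F ≃ₗ[F] V8 F) ∈ StE D' :=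
    fun h => (mem_PS hk).1 h
  -- `l` preserves `SZ ZJ`
  have hl1 : ∀ j, j ∉ J → (l : V8 F ≃ₗ[F] V8 F) ∈ StE (SZ (DI j)) := fun j hj =>
    hstE (PJ_le_PS (cs := cs) hj (LJ_le_PJ hl))
  have hZe : (SZ ZJ : Submodule F (V8 F)) = ⨅ j : {j : Fin 4 // j ∉ J}, SZ (DI j.1) := by
    ext v
    rw [Submodule.mem_iInf]
    constructor
    · intro hv j x hx
      exact hv x fun h => hx ((hZ x).1 h j.1 j.2)
    · intro hv x hx
      by_contra hne
      apply hx
      rw [hZ]
      intro j hj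
      by_contra hxj
      exact hne (hv ⟨j, hj⟩ x hxj)
  have hl2 : ∀ v, (l : V8 F ≃ₗ[F] V8 F) v ∈ SZ ZJ ↔ v ∈ SZ ZJ := by
    intro v
    rw [hZe, Submodule.mem_iInf, Submodule.mem_iInf]
    exact forall_congr' fun j => hl1 j.1 j.2 v
  -- the conjugate preserves `SZ Zi`
  set Zi : Set (Fin 4 × Bool) := ZJ ∩ DI i with hZi
  have hm : ∀ j, j ∉ K → (((l * z * l⁻¹ : E (Q8 F))) : V8 F ≃ₗ[F] V8 F) ∈ StE (SZ (DI j)) := fun j hj => by
    refine hstE (PJ_le_PS (cs := cs) hj ?_)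
    rw [map_mul, map_mul, map_inv]
    exact hmem
  have hZie : (SZ Zi : Submodule F (V8 F)) = SZ ZJ ⊓ SZ (DI i) := (SZ_inf _ _).symm
  have hm2 : ∀ v, (((l * z * l⁻¹ : E (Q8 F))) : V8 F ≃ₗ[F] V8 F) v ∈ SZ Zi ↔ v ∈ SZ Zi := by
    intro v
    rw [hZie, Submodule.mem_inf, Submodule.mem_inf, hm i hiK v, hZe, Submodule.mem_iInf, Submodule.mem_iInf]
    exact and_congr_left fun _ => forall_congr' fun j => hm j.1 (fun h => j.2 (hKJ h)) v
  have key : ∀ v, (((l * z * l⁻¹ : E (Q8 F))) : V8 F ≃ₗ[F] V8 F) ((l : V8 F ≃ₗ[F] V8 F) v) =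
      (l : V8 F ≃ₗ[F] V8 F) ((z : V8 F ≃ₗ[F] V8 F) v) := by
    intro v
    have h1 : (((l * z * l⁻¹ : E (Q8 F))) : V8 F ≃ₗ[F] V8 F) ((l : V8 F ≃ₗ[F] V8 F) v) =
      (((l * z * l⁻¹ * l : E (Q8 F))) : V8 F ≃ₗ[F] V8 F) v := rfl
    rw [h1, inv_mul_cancel_right]
    rfl
  obtain ⟨⟨x, hxJ, hxi⟩, y, hyJ, hyi⟩ := hi i hiJ
  have hsurj := (l : V8 F ≃ₗ[F] V8 F).surjective
  have hm3 : Submodule.comap ((l : V8 F ≃ₗ[F] V8 F) : V8 F →ₗ[F] V8 F) (SZ Zi) ≤ SZ ZJ := by
    intro v hv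
    change (l : V8 F ≃ₗ[F] V8 F) v ∈ SZ Zi at hv
    rw [hZie] at hv
    exact (hl2 v).1 hv.1
  have hm4 : ∀ v ∈ Submodule.comap ((l : V8 F ≃ₗ[F] V8 F) : V8 F →ₗ[F] V8 F) (SZ Zi),
      (z : V8 F ≃ₗ[F] V8 F) v ∈ Submodule.comap ((l : V8 F ≃ₗ[F] V8 F) : V8 F →ₗ[F] V8 F) (SZ Zi) := by
    intro v hv
    change (l : V8 F ≃ₗ[F] V8 F) ((z : V8 F ≃ₗ[F] V8 F) v) ∈ SZ Zi
    change (l : V8 F ≃ₗ[F] V8 F) v ∈ SZ Zi at hv
    rw [← key, hm2]
    exact hv
  rcases hirr _ hm3 hm4 with h1 | h1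
  · obtain ⟨w, hw⟩ := hsurj (bb x)
    have h2 : w ∈ Submodule.comap ((l : V8 F ≃ₗ[F] V8 F) : V8 F →ₗ[F] V8 F) (SZ Zi) := by
      change (l : V8 F ≃ₗ[F] V8 F) w ∈ SZ Zi
      rw [hw]
      exact bb_mem_SZ ⟨hxJ, hxi⟩
    rw [h1, Submodule.mem_bot] at h2
    rw [h2, map_zero] at hw
    have h5 := co_bb (F := F) x x
    rw [← hw, map_zero, if_pos rfl] at h5
    exact zero_ne_one h5
  · obtain ⟨w, hw⟩ := hsurj (bb y)
    have h2 : w ∈ (SZ ZJ : Submodule F (V8 F)) := by
      rw [← hl2, hw]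
      exact bb_mem_SZ hyJ
    rw [← h1] at h2
    change (l : V8 F ≃ₗ[F] V8 F) w ∈ SZ Zi at h2
    rw [hw, bb_mem_SZ_iff] at h2
    exact hyi h2.2

end crit

end Cfsg.Agent.H158.OZ
end

-- part: H631/VZ/DFour
section
/-!
# S4842, type `D₄`: `V^U ≠ 0` (helper631)

`{a, b, c}` of type `A₃` (`M a b = M b c = 3`, `M a c = 2`) in any finite Coxeter system:

* `cosA3` : the cosets of `W_{ab}` in `W_{abc}`;
* `mem_WJ_A3` : `x ∈ W_{abc}` mapping `{α_a, α_b}` into itself lies in `W_{ab}`;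
* `VU_A3` : `V^U ≠ 0` if `χ` does not vanish at an elliptic element of `L_{ab}` and at one of `L_{abc}`.
-/

set_option autoImplicit false
set_option linter.unusedSectionVars false

open Cfsg

namespace Cfsg.Agent.H631.VZ

open CoxeterSystem Cfsg.Agent.ChevalleyStructure.CoxeterGeom Cfsg.Agent.Tits.Roots Cfsg.Agent.Tits.Core
  Cfsg.Agent.Tits.Exchange Cfsg.Agent.Nodes.Reps Cfsg.Agent.Nodes.BNOf Cfsg.Agent.Nodes.StabComb
  Cfsg.Agent.Nodes.Bruhat Cfsg.Agent.Nodes.OppDec Cfsg.Agent.Nodes.LeviDec Module Cfsg.Agent.H985.VZ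
  Cfsg.Agent.H631.Kaw

universe u v

section comb

variable {I W : Type*} [Fintype I] [DecidableEq I] [Group W] {M : CoxeterMatrix I}
  {cs : CoxeterSystem M W} {A : I → I → ℤ} {h : IsCartan M A}

theorem ssq (i : I) (w : W) : cs.simple i * (cs.simple i * w) = w := by rw [← mul_assoc, ss, one_mul]

/-- the cosets of `W_{ab}` in `W_{abc}` -/
theorem cosA3 {a b c : I} (hab : M a b = 3) (hbc : M b c = 3) (hac : M a c = 2) {w : W} (hw : w ∈ WJ cs {a, b, c}) :
    ∃ k ∈ WJ cs {a, b}, w = k ∨ w = cs.simple c * k ∨ w = cs.simple b * (cs.simple c * k) ∨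
      w = cs.simple a * (cs.simple b * (cs.simple c * k)) := by
  have ha : cs.simple a ∈ WJ cs {a, b} := simple_mem_WJ cs (by simp)
  have hb : cs.simple b ∈ WJ cs {a, b} := simple_mem_WJ cs (by simp)
  have c0 := comm_of_two cs hac
  have b1 := braid_of_three cs hab
  have b2 := braid_of_three cs hbc
  obtain ⟨ω, hω, rfl⟩ := exists_word_of_mem_WJ cs hw
  clear hw
  induction ω with
  | nil => exact ⟨1, one_mem _, Or.inl (by rw [wordProd_nil])⟩
  | cons i ω ih =>
    obtain ⟨k, hk, e⟩ := ih fun j hj => hω j (by simp [hj])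
    rw [wordProd_cons]
    rcases hω i (by simp) with rfl | rfl | rfl
    · rcases e with e | e | e | e
      · exact ⟨_, mul_mem ha hk, Or.inl (by rw [e])⟩
      · refine ⟨cs.simple i * k, mul_mem ha hk, Or.inr (Or.inl ?_)⟩
        rw [e, ← mul_assoc, c0, mul_assoc]
      · exact ⟨k, hk, Or.inr (Or.inr (Or.inr (by rw [e])))⟩
      · exact ⟨k, hk, Or.inr (Or.inr (Or.inl (by rw [e, ssq])))⟩
    · rcases e with e | e | e | e
      · exact ⟨_, mul_mem hb hk, Or.inl (by rw [e])⟩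
      · exact ⟨k, hk, Or.inr (Or.inr (Or.inl (by rw [e])))⟩
      · exact ⟨k, hk, Or.inr (Or.inl (by rw [e, ssq]))⟩
      · refine ⟨cs.simple a * k, mul_mem ha hk, Or.inr (Or.inr (Or.inr ?_))⟩
        calc cs.simple i * cs.wordProd ω = (cs.simple i * cs.simple a * cs.simple i) * (cs.simple c * k) := by
              rw [e]; simp only [mul_assoc]
          _ = (cs.simple a * cs.simple i * cs.simple a) * (cs.simple c * k) := by rw [b1]
          _ = cs.simple a * (cs.simple i * ((cs.simple a * cs.simple c) * k)) := by simp only [mul_assoc]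
          _ = cs.simple a * (cs.simple i * ((cs.simple c * cs.simple a) * k)) := by rw [c0]
          _ = _ := by simp only [mul_assoc]
    · rcases e with e | e | e | e
      · exact ⟨k, hk, Or.inr (Or.inl (by rw [e]))⟩
      · exact ⟨k, hk, Or.inl (by rw [e, ssq])⟩
      · refine ⟨cs.simple b * k, mul_mem hb hk, Or.inr (Or.inr (Or.inl ?_))⟩
        calc cs.simple i * cs.wordProd ω = (cs.simple i * cs.simple b * cs.simple i) * k := by
              rw [e]; simp only [mul_assoc]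
          _ = (cs.simple b * cs.simple i * cs.simple b) * k := by rw [b2]
          _ = _ := by simp only [mul_assoc]
      · refine ⟨cs.simple b * k, mul_mem hb hk, Or.inr (Or.inr (Or.inr ?_))⟩
        calc cs.simple i * cs.wordProd ω = (cs.simple i * cs.simple a) * (cs.simple b * (cs.simple i * k)) := by
              rw [e]; simp only [mul_assoc]
          _ = (cs.simple a * cs.simple i) * (cs.simple b * (cs.simple i * k)) := by rw [c0]
          _ = cs.simple a * ((cs.simple i * cs.simple b * cs.simple i) * k) := by simp only [mul_assoc]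
          _ = cs.simple a * ((cs.simple b * cs.simple i * cs.simple b) * k) := by rw [b2]
          _ = _ := by simp only [mul_assoc]

theorem cartan_of_three (h : IsCartan M A) {a b : I} (hab : M a b = 3) : A a b = -1 ∧ A b a = -1 := by
  have hne : a ≠ b := by
    rintro rfl
    rw [M.diagonal] at hab
    omega
  rcases h.rel a b hne with h4 | h4 | h4 | h4
  · omega
  · exact h4.2
  · omega
  · omega

theorem cartan_of_two (h : IsCartan M A) {a b : I} (hab : M a b = 2) : A a b = 0 ∧ A b a = 0 := by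
  have hne : a ≠ b := by
    rintro rfl
    rw [M.diagonal] at hab
    omega
  rcases h.rel a b hne with h4 | h4 | h4 | h4
  · exact h4.2
  · omega
  · omega
  · omega

/-- **(Comb)** for `A₃` -/
theorem mem_WJ_A3 {a b c : I} (hab : M a b = 3) (hbc : M b c = 3) (hac : M a c = 2) {x : W}
    (hx : x ∈ WJ cs {a, b, c}) (e : ∀ k ∈ ({a, b} : Set I), ∃ k' ∈ ({a, b} : Set I), rep cs h x (sr k) = sr k') :
    x ∈ WJ cs {a, b} := by
  have nab : a ≠ b := by rintro rfl; rw [M.diagonal] at hab; omega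
  have nbc : b ≠ c := by rintro rfl; rw [M.diagonal] at hbc; omega
  have nac : a ≠ c := by rintro rfl; rw [M.diagonal] at hac; omega
  have hc : c ∉ ({a, b} : Set I) := by
    rintro (h1 | h1)
    · exact nac h1.symm
    · exact nbc (Set.mem_singleton_iff.1 h1).symm
  obtain ⟨k, hk, hy⟩ := cosA3 hab hbc hac hx
  have key : ∀ y : W, x = y * k → (rep cs h y (sr b)) c = 0 := by
    intro y hy
    have h1 : rep cs h k⁻¹ (sr b) ∈ RootsJ cs h {a, b} :=
      RootsJ.act (inv_mem hk) (PosJ_subset _ (sr_mem_PosJ (by simp)))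
    have h2 : rep cs h k⁻¹ (sr b) = (rep cs h k⁻¹ (sr b)) a • (sr a : I → ℤ) + (rep cs h k⁻¹ (sr b)) b • (sr b : I → ℤ) := by
      funext j
      rw [Pi.add_apply, Pi.smul_apply, Pi.smul_apply, smul_eq_mul, smul_eq_mul]
      by_cases hja : j = a
      · subst hja
        rw [sr_self, sr_ne nab, mul_one, mul_zero, add_zero]
      by_cases hjb : j = b
      · subst hjb
        rw [sr_self, sr_ne nab.symm, mul_one, mul_zero, zero_add]
      · rw [h1.2 j (by rintro (h3 | h3); exacts [hja h3, hjb h3]), sr_ne hja, sr_ne hjb, mul_zero, mul_zero, add_zero]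
    have h3 : rep cs h y (sr b) = rep cs h x (rep cs h k⁻¹ (sr b)) := by
      rw [hy, rep_mul_apply, ← rep_mul_apply cs h k, mul_inv_cancel, map_one, Module.End.one_apply]
    rw [h3, h2, map_add, map_smul, map_smul, Pi.add_apply, Pi.smul_apply, Pi.smul_apply]
    obtain ⟨k1, hk1, e1⟩ := e a (by simp)
    obtain ⟨k2, hk2, e2⟩ := e b (by simp)
    have n1 : c ≠ k1 := by
      rintro rfl
      exact hc hk1
    have n2 : c ≠ k2 := by
      rintro rfl
      exact hc hk2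
    rw [e1, e2, sr_ne n1, sr_ne n2, smul_zero, smul_zero, add_zero]
  have hs : (rep cs h (cs.simple c) (sr b)) c = 1 := by
    rw [rep_simple_apply_self, pairing_sr', sr_ne nbc.symm, (cartan_of_three h hbc).2]
    norm_num
  rcases hy with hy | hy | hy | hy
  · rw [hy]; exact hk
  · exfalso
    have h1 := key (cs.simple c) hy
    rw [hs] at h1
    omega
  · exfalso
    have h1 := key (cs.simple b * cs.simple c) (by rw [hy, mul_assoc])
    rw [rep_mul_apply, rep_simple_apply _ _ _ _ _ nbc.symm, hs] at h1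
    omega
  · exfalso
    have h1 := key (cs.simple a * (cs.simple b * cs.simple c)) (by rw [hy]; simp only [mul_assoc])
    rw [rep_mul_apply, rep_simple_apply _ _ _ _ _ nac.symm, rep_mul_apply, rep_simple_apply _ _ _ _ _ nbc.symm, hs] at h1
    omega

end comb

section main

variable {I W : Type*} {Y : Type u} [Fintype I] [DecidableEq I] [Group W] [Finite W] [Group Y] [Finite Y]
  {M : CoxeterMatrix I} {cs : CoxeterSystem M W} {A : I → I → ℤ} {h : IsCartan M A} {p : ℕ}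
  {T : Subgroup Y} {n : I → Y} {X : (I → ℤ) → Subgroup Y}
  {V : Type v} [AddCommGroup V] [Module ℂ V] {ρ : Representation ℂ Y V}

theorem VU_ne_bot_of_empty {S : Submodule ℂ V} (h1 : S ⊓ fx ρ (VJ cs h X (∅ : Set I)) ≠ ⊥) : VU cs h X ρ ≠ ⊥ := by
  intro h2
  apply h1
  rw [eq_bot_iff, ← h2]
  refine le_trans inf_le_right ?_
  rw [VJ_empty]
  exact le_rfl

/-- **`V^U ≠ 0`** from an elliptic element of `L_{ab}` and one of `L_{abc}`, `{a, b, c}` of type `A₃` -/
theorem VU_A3 [FiniteDimensional ℂ V] (R : RGD cs h p T n X) (hG : GG cs h T X = ⊤) (hρ : ρ.IsIrreducible)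
    {a b c : I} (hab : M a b = 3) (hbc : M b c = 3) (hac : M a c = 2)
    {t t' : Y} (ht : Ell cs h T X {a, b} t) (hχ : ρ.character t ≠ 0)
    (ht' : Ell cs h T X {a, b, c} t') (hχ' : ρ.character t' ≠ 0) : VU cs h X ρ ≠ ⊥ := by
  classical
  have nab : a ≠ b := by rintro rfl; rw [M.diagonal] at hab; omega
  have nbc : b ≠ c := by rintro rfl; rw [M.diagonal] at hbc; omega
  have nac : a ≠ c := by rintro rfl; rw [M.diagonal] at hac; omega
  have hba : M b a = 3 := by rw [M.symmetric]; exact hab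
  obtain ⟨S, hS, hirr, K₀, hK₀, h0, hmin, x, hx, hxK, hxn⟩ := ell_support R ht hχ
  -- `K₀` is not a single node
  have one : ∀ i j : I, (i = a ∧ j = b) ∨ (i = b ∧ j = a) → i ∈ K₀ → j ∉ K₀ → False := by
    intro i j hij hi hj
    have hM : M i j = 3 := by
      rcases hij with ⟨rfl, rfl⟩ | ⟨rfl, rfl⟩
      · exact hab
      · exact hba
    have hJ : ({a, b} : Set I) = insert i (insert j (∅ : Set I)) := by
      rcases hij with ⟨rfl, rfl⟩ | ⟨rfl, rfl⟩
      · simp
      · rw [Set.pair_comm]; simp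
    have hne : j ≠ i := by
      rintro rfl
      exact hj hi
    have h2 : K₀ ⊆ insert i (∅ : Set I) := by
      intro k hk
      have h3 := hK₀ hk
      rw [hJ] at h3
      rcases h3 with h3 | h3 | h3
      · exact Or.inl h3
      · exact absurd (h3 ▸ hk) hj
      · exact absurd h3 (Set.notMem_empty k)
    obtain ⟨k', hk', e1⟩ := hxK i hi
    have h4 : rep cs h x (sr i) = sr i := by
      rcases h2 hk' with h3 | h3
      · rw [e1, h3]
      · exact absurd h3 (Set.notMem_empty _)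
    rw [hJ] at hx
    have h5 : x ∈ WJ cs (insert i (∅ : Set I)) :=
      mem_WJ_of_rep_eq hM (Set.notMem_empty _) (Set.notMem_empty _) (fun k hk => absurd hk (Set.notMem_empty _))
        (fun k hk => absurd hk (Set.notMem_empty _)) hx h4
    refine hxn _ h2 ⟨?_, fun h6 => ?_⟩ h5
    · rw [hJ]
      intro k hk
      rcases hk with hk | hk
      · exact Or.inl hk
      · exact absurd hk (Set.notMem_empty _)
    · have h7 : j ∈ insert i (∅ : Set I) := h6 (by rw [hJ]; exact Or.inr (Or.inl rfl))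
      rcases h7 with h7 | h7
      · exact hne h7
      · exact absurd h7 (Set.notMem_empty _)
  by_cases ha : a ∈ K₀
  swap
  · have hb : b ∉ K₀ := fun hb => one b a (Or.inr ⟨rfl, rfl⟩) hb ha
    have hK : K₀ = ∅ := by
      rw [Set.eq_empty_iff_forall_notMem]
      intro k hk
      rcases hK₀ hk with h3 | h3
      · exact ha (h3 ▸ hk)
      · exact hb (Set.mem_singleton_iff.1 h3 ▸ hk)
    rw [hK] at h0
    exact VU_ne_bot_of_empty h0
  by_cases hb : b ∈ K₀
  swap
  · exact (one a b (Or.inl ⟨rfl, rfl⟩) ha hb).elim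
  have hK : K₀ = {a, b} := by
    refine subset_antisymm hK₀ ?_
    rintro k (h3 | h3)
    · rw [h3]; exact ha
    · rw [Set.mem_singleton_iff.1 h3]; exact hb
  exfalso
  -- the second element
  obtain ⟨S', hS', hirr', K₁, hK₁, h0', hmin', x', hx', hxK', hxn'⟩ := ell_support R ht' hχ'
  obtain ⟨w, hw1, hw2⟩ := assoc' R hG hρ hirr hK₀ h0 hmin hirr' hK₁ h0' hmin'
  obtain ⟨i, hi, ei⟩ := hw1 a ha
  obtain ⟨j, hj, ej⟩ := hw1 b hb
  have hK1 : K₁ = {i, j} := by
    refine subset_antisymm ?_ ?_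
    · intro k hk
      obtain ⟨k0, hk0, e0⟩ := hw2 k hk
      rw [hK] at hk0
      rcases hk0 with h3 | h3
      · rw [h3, ei] at e0
        exact Or.inl (sr_inj e0).symm
      · rw [Set.mem_singleton_iff.1 h3, ej] at e0
        exact Or.inr (sr_inj e0).symm
    · rintro k (h3 | h3)
      · rw [h3]; exact hi
      · rw [Set.mem_singleton_iff.1 h3]; exact hj
  -- `i`, `j` are joined
  have hij : A i j ≠ 0 := by
    let _ : Fintype W := Fintype.ofFinite W
    intro h1
    have h2 := two_form cs h i (sr j)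
    rw [pairing_sr', h1, ← ei, ← ej, form_rep cs h w (sr b) (sr a), form_comm cs h (sr b) (sr a)] at h2
    have h3 := two_form cs h a (sr b)
    rw [pairing_sr', (cartan_of_three h hab).1, form_comm cs h (sr b) (sr a)] at h3
    have h4 := form_pos cs h (sr_ne_zero (I := I) a)
    linarith only [h, h2, h3, h4]
  have nij : i ≠ j := by
    rintro rfl
    have h3 := rep_injective_apply cs h w (ei.trans ej.symm)
    exact nab (sr_inj h3)
  -- so `K₁ = {a, b}` or `{b, c}`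
  have hcase : K₁ = {a, b} ∨ K₁ = {c, b} := by
    rw [hK1]
    have hAac := cartan_of_two h hac
    rcases hK₁ hi with r | r | r <;> rcases hK₁ hj with r' | r' | r' <;>
      (try rw [Set.mem_singleton_iff] at r) <;> (try rw [Set.mem_singleton_iff] at r')
    · exact absurd (r.trans r'.symm) nij
    · exact Or.inl (by rw [r, r'])
    · rw [r, r'] at hij; exact absurd hAac.1 hij
    · exact Or.inl (by rw [r, r', Set.pair_comm])
    · exact absurd (r.trans r'.symm) nij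
    · exact Or.inr (by rw [r, r', Set.pair_comm])
    · rw [r, r'] at hij; exact absurd hAac.2 hij
    · exact Or.inr (by rw [r, r'])
    · exact absurd (r.trans r'.symm) nij
  rcases hcase with hc | hc
  · rw [hc] at hxK' hxn'
    refine hxn' {a, b} subset_rfl ⟨?_, fun h6 => ?_⟩ (mem_WJ_A3 hab hbc hac hx' hxK')
    · rintro k (h3 | h3)
      · exact Or.inl h3
      · exact Or.inr (Or.inl h3)
    · rcases h6 (show c ∈ ({a, b, c} : Set I) from Or.inr (Or.inr rfl)) with h7 | h7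
      · exact nac h7.symm
      · exact nbc (Set.mem_singleton_iff.1 h7).symm
  · have hJ : ({a, b, c} : Set I) = {c, b, a} := by
      ext k
      simp only [Set.mem_insert_iff, Set.mem_singleton_iff]
      (clear * -; tauto)
    rw [hc] at hxK' hxn'
    rw [hJ] at hx' hxn'
    refine hxn' {c, b} subset_rfl ⟨?_, fun h6 => ?_⟩ (mem_WJ_A3 (by rw [M.symmetric]; exact hbc)
      (by rw [M.symmetric]; exact hab) (by rw [M.symmetric]; exact hac) hx' hxK')
    · rintro k (h3 | h3)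
      · exact Or.inl h3
      · exact Or.inr (Or.inl h3)
    · rcases h6 (show a ∈ ({c, b, a} : Set I) from Or.inr (Or.inr rfl)) with h7 | h7
      · exact nac h7
      · exact nab (Set.mem_singleton_iff.1 h7)

end main

section D4

variable {W : Type*} {Y : Type u} [Group W] [Finite W] [Group Y] [Finite Y]
  {cs : CoxeterSystem (Cfsg.Agent.Nodes.TypeD.M 2) W} {A : Fin 4 → Fin 4 → ℤ} {h : IsCartan (Cfsg.Agent.Nodes.TypeD.M 2) A} {p : ℕ}
  {T : Subgroup Y} {n : Fin 4 → Y} {X : (Fin 4 → ℤ) → Subgroup Y}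
  {V : Type v} [AddCommGroup V] [Module ℂ V] {ρ : Representation ℂ Y V}

/-- **`V^U ≠ 0` in type `D₄`** (nodes `0 - 1`, `1 - 2`, `1 - 3`) -/
theorem VU_D4 [FiniteDimensional ℂ V] (R : RGD cs h p T n X) (hG : GG cs h T X = ⊤) (hρ : ρ.IsIrreducible)
    {t t' : Y} (ht : Ell cs h T X {0, 1} t) (hχ : ρ.character t ≠ 0)
    (ht' : Ell cs h T X {0, 1, 2} t') (hχ' : ρ.character t' ≠ 0) : VU cs h X ρ ≠ ⊥ :=
  VU_A3 R hG hρ (a := 0) (b := 1) (c := 2) (by decide) (by decide) (by decide) ht hχ ht' hχ'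

end D4

end Cfsg.Agent.H631.VZ
end

-- part: H643/OZ/D4
section
/-!
# Stabilisers of torus characters of type `D₄` (S4842, POmega8+; statements of helper158)

`cs` of type `TypeD.M 2` (nodes `0 - 1`, `1 - 2`, `1 - 3`), `B` an abelian group, `W` acting on the
characters `b : Fin 4 → B` (`b j` = the value on the `j`-th coroot).

* `E0 : El {0,1} b → b 0 = 1 ∧ b 1 = 1`
* `E1 : b 0 = b 1 = 1, El {0,1,2} (x • b) → b 2 = 1`
* `E2 : b 0 = b 1 = 1, El {0,1,3} (x • b) → b 3 = 1`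
-/

set_option autoImplicit false

namespace Cfsg.Agent.H643.OZ.D4

open Cfsg.Agent.Tits.Core Cfsg.Agent.Nodes

universe u v

/-! ### abstract form -/

/-- the Cartan matrix -/
def ca (i j : Fin 4) : ℤ := if i = j then 2 else
  if (i = 1 ∨ j = 1) then -1 else 0

/-- a group acting on the characters of the torus of type `D₄` -/
structure DS (W : Type u) [Group W] (B : Type v) [CommGroup B] where
  s : Fin 4 → W
  ph : W →* Equiv.Perm (Fin 4 → B)
  gen : Subgroup.closure (Set.range s) = ⊤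
  sq : ∀ i, s i * s i = 1
  c02 : s 0 * s 2 = s 2 * s 0
  c03 : s 0 * s 3 = s 3 * s 0
  c23 : s 2 * s 3 = s 3 * s 2
  b01 : s 0 * s 1 * s 0 = s 1 * s 0 * s 1
  b12 : s 1 * s 2 * s 1 = s 2 * s 1 * s 2
  b13 : s 1 * s 3 * s 1 = s 3 * s 1 * s 3
  act : ∀ i b j, ph (s i) b j = b j * (b i) ^ (-(ca i j))

namespace DS

variable {W : Type u} [Group W] {B : Type v} [CommGroup B] (D : DS W B)

/-- parabolic subgroups -/
def P (J : Set (Fin 4)) : Subgroup W := Subgroup.closure (D.s '' J)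

/-- no conjugate of the stabiliser in `P J` lies in a smaller parabolic subgroup -/
def El (J : Set (Fin 4)) (b : Fin 4 → B) : Prop :=
  ∀ v ∈ D.P J, ∀ K ⊂ J, ∃ w ∈ D.P J, w ∉ D.P K ∧ D.ph w (D.ph v b) = D.ph v b

theorem mem_P {J : Set (Fin 4)} {i : Fin 4} (hi : i ∈ J) : D.s i ∈ D.P J :=
  Subgroup.subset_closure ⟨i, hi, rfl⟩

theorem P_ind {J : Set (Fin 4)} {p : W → Prop} (h1 : p 1) (hm : ∀ i ∈ J, ∀ w, p w → p (D.s i * w)) {w : W}
    (hw : w ∈ D.P J) : p w := by
  refine Subgroup.closure_induction_left (p := fun x _ => p x) h1 ?_ ?_ hw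
  · rintro _ ⟨i, hi, rfl⟩ y _ hy
    exact hm i hi y hy
  · rintro _ ⟨i, hi, rfl⟩ y _ hy
    have h2 : (D.s i)⁻¹ = D.s i := by rw [inv_eq_iff_mul_eq_one, D.sq]
    rw [h2]
    exact hm i hi y hy

theorem all_ind {p : W → Prop} (h1 : p 1) (hm : ∀ i, ∀ w, p w → p (D.s i * w)) (w : W) : p w := by
  refine D.P_ind (J := Set.univ) h1 (fun i _ => hm i) ?_
  unfold P
  rw [Set.image_univ, D.gen]
  exact Subgroup.mem_top _

theorem El.move {J : Set (Fin 4)} {b : Fin 4 → B} (h : D.El J b) {v : W} (hv : v ∈ D.P J) : D.El J (D.ph v b) := by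
  intro w hw K hK
  obtain ⟨x, hx, hxK, e⟩ := h (w * v) (mul_mem hw hv) K hK
  refine ⟨x, hx, hxK, ?_⟩
  rw [map_mul, Equiv.Perm.mul_apply] at e
  exact e

/-! ### cosets -/

theorem ssq (i : Fin 4) (w : W) : D.s i * (D.s i * w) = w := by rw [← mul_assoc, D.sq, one_mul]

theorem cos1 {w : W} (hw : w ∈ D.P {0, 1, 2}) : ∃ k ∈ D.P {0, 1}, w = k ∨ w = D.s 2 * k ∨
    w = D.s 1 * (D.s 2 * k) ∨ w = D.s 0 * (D.s 1 * (D.s 2 * k)) := by
  have h0 : D.s 0 ∈ D.P {0, 1} := D.mem_P (by simp)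
  have h1 : D.s 1 ∈ D.P {0, 1} := D.mem_P (by simp)
  refine D.P_ind (J := {0, 1, 2}) (p := fun w => ∃ k ∈ D.P {0, 1}, w = k ∨ w = D.s 2 * k ∨
    w = D.s 1 * (D.s 2 * k) ∨ w = D.s 0 * (D.s 1 * (D.s 2 * k))) ⟨1, one_mem _, Or.inl rfl⟩ ?_ hw
  rintro i hi w ⟨k, hk, h⟩
  simp only [Set.mem_insert_iff, Set.mem_singleton_iff] at hi
  rcases hi with rfl | rfl | rfl
  · rcases h with rfl | rfl | rfl | rfl
    · exact ⟨_, mul_mem h0 hk, Or.inl rfl⟩
    · refine ⟨D.s 0 * k, mul_mem h0 hk, Or.inr (Or.inl ?_)⟩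
      rw [← mul_assoc, D.c02, mul_assoc]
    · exact ⟨k, hk, Or.inr (Or.inr (Or.inr rfl))⟩
    · exact ⟨k, hk, Or.inr (Or.inr (Or.inl (by rw [D.ssq])))⟩
  · rcases h with rfl | rfl | rfl | rfl
    · exact ⟨_, mul_mem h1 hk, Or.inl rfl⟩
    · exact ⟨k, hk, Or.inr (Or.inr (Or.inl rfl))⟩
    · exact ⟨k, hk, Or.inr (Or.inl (by rw [D.ssq]))⟩
    · refine ⟨D.s 0 * k, mul_mem h0 hk, Or.inr (Or.inr (Or.inr ?_))⟩
      calc D.s 1 * (D.s 0 * (D.s 1 * (D.s 2 * k))) = (D.s 1 * D.s 0 * D.s 1) * (D.s 2 * k) := by group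
        _ = (D.s 0 * D.s 1 * D.s 0) * (D.s 2 * k) := by rw [D.b01]
        _ = D.s 0 * (D.s 1 * ((D.s 0 * D.s 2) * k)) := by group
        _ = D.s 0 * (D.s 1 * ((D.s 2 * D.s 0) * k)) := by rw [D.c02]
        _ = _ := by group
  · rcases h with rfl | rfl | rfl | rfl
    · exact ⟨_, hk, Or.inr (Or.inl rfl)⟩
    · exact ⟨k, hk, Or.inl (by rw [D.ssq])⟩
    · refine ⟨D.s 1 * k, mul_mem h1 hk, Or.inr (Or.inr (Or.inl ?_))⟩
      calc D.s 2 * (D.s 1 * (D.s 2 * k)) = (D.s 2 * D.s 1 * D.s 2) * k := by group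
        _ = (D.s 1 * D.s 2 * D.s 1) * k := by rw [D.b12]
        _ = _ := by group
    · refine ⟨D.s 1 * k, mul_mem h1 hk, Or.inr (Or.inr (Or.inr ?_))⟩
      calc D.s 2 * (D.s 0 * (D.s 1 * (D.s 2 * k))) = (D.s 2 * D.s 0) * (D.s 1 * (D.s 2 * k)) := by group
        _ = (D.s 0 * D.s 2) * (D.s 1 * (D.s 2 * k)) := by rw [D.c02]
        _ = D.s 0 * ((D.s 2 * D.s 1 * D.s 2) * k) := by group
        _ = D.s 0 * ((D.s 1 * D.s 2 * D.s 1) * k) := by rw [D.b12]
        _ = _ := by group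

theorem cos2 {w : W} (hw : w ∈ D.P {0, 1, 2}) : ∃ k ∈ D.P {0, 2}, w = k ∨ w = D.s 1 * k ∨
    w = D.s 0 * (D.s 1 * k) ∨ w = D.s 2 * (D.s 1 * k) ∨ w = D.s 0 * (D.s 2 * (D.s 1 * k)) ∨
    w = D.s 1 * (D.s 0 * (D.s 2 * (D.s 1 * k))) := by
  have h0 : D.s 0 ∈ D.P {0, 2} := D.mem_P (by simp)
  have h2 : D.s 2 ∈ D.P {0, 2} := D.mem_P (by simp)
  refine D.P_ind (J := {0, 1, 2}) (p := fun w => ∃ k ∈ D.P {0, 2}, w = k ∨ w = D.s 1 * k ∨
    w = D.s 0 * (D.s 1 * k) ∨ w = D.s 2 * (D.s 1 * k) ∨ w = D.s 0 * (D.s 2 * (D.s 1 * k)) ∨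
    w = D.s 1 * (D.s 0 * (D.s 2 * (D.s 1 * k)))) ⟨1, one_mem _, Or.inl rfl⟩ ?_ hw
  rintro i hi w ⟨k, hk, h⟩
  simp only [Set.mem_insert_iff, Set.mem_singleton_iff] at hi
  rcases hi with rfl | rfl | rfl
  · rcases h with rfl | rfl | rfl | rfl | rfl | rfl
    · exact ⟨_, mul_mem h0 hk, Or.inl rfl⟩
    · exact ⟨k, hk, Or.inr (Or.inr (Or.inl rfl))⟩
    · exact ⟨k, hk, Or.inr (Or.inl (by rw [D.ssq]))⟩
    · exact ⟨k, hk, Or.inr (Or.inr (Or.inr (Or.inr (Or.inl rfl))))⟩
    · exact ⟨k, hk, Or.inr (Or.inr (Or.inr (Or.inl (by rw [D.ssq]))))⟩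
    · refine ⟨D.s 2 * k, mul_mem h2 hk, Or.inr (Or.inr (Or.inr (Or.inr (Or.inr ?_))))⟩
      calc D.s 0 * (D.s 1 * (D.s 0 * (D.s 2 * (D.s 1 * k)))) = (D.s 0 * D.s 1 * D.s 0) * (D.s 2 * (D.s 1 * k)) := by
            group
        _ = (D.s 1 * D.s 0 * D.s 1) * (D.s 2 * (D.s 1 * k)) := by rw [D.b01]
        _ = D.s 1 * (D.s 0 * ((D.s 1 * D.s 2 * D.s 1) * k)) := by group
        _ = D.s 1 * (D.s 0 * ((D.s 2 * D.s 1 * D.s 2) * k)) := by rw [D.b12]
        _ = _ := by group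
  · rcases h with rfl | rfl | rfl | rfl | rfl | rfl
    · exact ⟨_, hk, Or.inr (Or.inl rfl)⟩
    · exact ⟨k, hk, Or.inl (by rw [D.ssq])⟩
    · refine ⟨D.s 0 * k, mul_mem h0 hk, Or.inr (Or.inr (Or.inl ?_))⟩
      calc D.s 1 * (D.s 0 * (D.s 1 * k)) = (D.s 1 * D.s 0 * D.s 1) * k := by group
        _ = (D.s 0 * D.s 1 * D.s 0) * k := by rw [D.b01]
        _ = _ := by group
    · refine ⟨D.s 2 * k, mul_mem h2 hk, Or.inr (Or.inr (Or.inr (Or.inl ?_)))⟩
      calc D.s 1 * (D.s 2 * (D.s 1 * k)) = (D.s 1 * D.s 2 * D.s 1) * k := by group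
        _ = (D.s 2 * D.s 1 * D.s 2) * k := by rw [D.b12]
        _ = _ := by group
    · exact ⟨k, hk, Or.inr (Or.inr (Or.inr (Or.inr (Or.inr rfl))))⟩
    · exact ⟨k, hk, Or.inr (Or.inr (Or.inr (Or.inr (Or.inl (by rw [D.ssq])))))⟩
  · rcases h with rfl | rfl | rfl | rfl | rfl | rfl
    · exact ⟨_, mul_mem h2 hk, Or.inl rfl⟩
    · exact ⟨k, hk, Or.inr (Or.inr (Or.inr (Or.inl rfl)))⟩
    · refine ⟨k, hk, Or.inr (Or.inr (Or.inr (Or.inr (Or.inl ?_))))⟩
      rw [← mul_assoc, ← D.c02, mul_assoc]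
    · exact ⟨k, hk, Or.inr (Or.inl (by rw [D.ssq]))⟩
    · refine ⟨k, hk, Or.inr (Or.inr (Or.inl ?_))⟩
      rw [← mul_assoc, ← D.c02, mul_assoc, D.ssq]
    · refine ⟨D.s 0 * k, mul_mem h0 hk, Or.inr (Or.inr (Or.inr (Or.inr (Or.inr ?_))))⟩
      calc D.s 2 * (D.s 1 * (D.s 0 * (D.s 2 * (D.s 1 * k)))) = D.s 2 * (D.s 1 * ((D.s 0 * D.s 2) * (D.s 1 * k))) := by
            group
        _ = D.s 2 * (D.s 1 * ((D.s 2 * D.s 0) * (D.s 1 * k))) := by rw [D.c02]
        _ = (D.s 2 * D.s 1 * D.s 2) * (D.s 0 * (D.s 1 * k)) := by group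
        _ = (D.s 1 * D.s 2 * D.s 1) * (D.s 0 * (D.s 1 * k)) := by rw [D.b12]
        _ = D.s 1 * (D.s 2 * ((D.s 1 * D.s 0 * D.s 1) * k)) := by group
        _ = D.s 1 * (D.s 2 * ((D.s 0 * D.s 1 * D.s 0) * k)) := by rw [D.b01]
        _ = D.s 1 * ((D.s 2 * D.s 0) * (D.s 1 * (D.s 0 * k))) := by group
        _ = D.s 1 * ((D.s 0 * D.s 2) * (D.s 1 * (D.s 0 * k))) := by rw [D.c02]
        _ = _ := by group

theorem cos0 {w : W} (hw : w ∈ D.P {0, 1}) : ∃ k ∈ D.P {0}, w = k ∨ w = D.s 1 * k ∨ w = D.s 0 * (D.s 1 * k) := by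
  have h0 : D.s 0 ∈ D.P {0} := D.mem_P (by simp)
  refine D.P_ind (J := {0, 1}) (p := fun w => ∃ k ∈ D.P {0}, w = k ∨ w = D.s 1 * k ∨
    w = D.s 0 * (D.s 1 * k)) ⟨1, one_mem _, Or.inl rfl⟩ ?_ hw
  rintro i hi w ⟨k, hk, h⟩
  simp only [Set.mem_insert_iff, Set.mem_singleton_iff] at hi
  rcases hi with rfl | rfl
  · rcases h with rfl | rfl | rfl
    · exact ⟨_, mul_mem h0 hk, Or.inl rfl⟩
    · exact ⟨k, hk, Or.inr (Or.inr rfl)⟩
    · exact ⟨k, hk, Or.inr (Or.inl (by rw [D.ssq]))⟩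
  · rcases h with rfl | rfl | rfl
    · exact ⟨_, hk, Or.inr (Or.inl rfl)⟩
    · exact ⟨k, hk, Or.inl (by rw [D.ssq])⟩
    · refine ⟨D.s 0 * k, mul_mem h0 hk, Or.inr (Or.inr ?_)⟩
      calc D.s 1 * (D.s 0 * (D.s 1 * k)) = (D.s 1 * D.s 0 * D.s 1) * k := by group
        _ = (D.s 0 * D.s 1 * D.s 0) * k := by rw [D.b01]
        _ = _ := by group

/-! ### coordinates -/

theorem a_self (i : Fin 4) (b : Fin 4 → B) : D.ph (D.s i) b i = (b i)⁻¹ := by
  rw [D.act]
  have : ca i i = 2 := by simp [ca]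
  rw [this, zpow_neg, zpow_two, mul_inv, mul_inv_cancel_left]

theorem a_adj {i j : Fin 4} (h : ca i j = -1) (b : Fin 4 → B) : D.ph (D.s i) b j = b j * b i := by
  rw [D.act, h]; simp

theorem a_non {i j : Fin 4} (h : ca i j = 0) (b : Fin 4 → B) : D.ph (D.s i) b j = b j := by
  rw [D.act, h]; simp

theorem fix_of_one {i : Fin 4} {b : Fin 4 → B} (h : b i = 1) : D.ph (D.s i) b = b := by
  funext j; rw [D.act, h]; simp

theorem mul_ph (x y : W) (b : Fin 4 → B) : D.ph (x * y) b = D.ph x (D.ph y b) := by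
  rw [map_mul, Equiv.Perm.mul_apply]

/-! ### `E0` -/

theorem e0_aux {y : Fin 4 → B} {w : W} (hw : w ∈ D.P {0, 1}) (hn : w ∉ D.P {0}) (e : D.ph w y = y) :
    y 1 = 1 ∨ y 1 * y 0 = 1 := by
  obtain ⟨k, hk, h⟩ := D.cos0 hw
  have h1 : D.ph k y 1 = y 1 ∧ D.ph k y 2 = y 2 ∧ (D.ph k y = y ∨ D.ph k y = D.ph (D.s 0) y) ∨
      D.ph k y 1 = y 1 * y 0 ∧ D.ph k y 2 = y 2 ∧ (D.ph k y = y ∨ D.ph k y = D.ph (D.s 0) y) := by
    have h2 : D.ph k y = y ∨ D.ph k y = D.ph (D.s 0) y := by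
      refine D.P_ind (J := {0}) (p := fun k => D.ph k y = y ∨ D.ph k y = D.ph (D.s 0) y) (Or.inl (by simp)) ?_ hk
      intro i hi w hw
      rw [Set.mem_singleton_iff] at hi
      subst hi
      rw [D.mul_ph]
      rcases hw with hw | hw
      · right; rw [hw]
      · left; rw [hw, ← D.mul_ph, D.sq]; simp
    rcases h2 with h2 | h2
    · left; rw [h2]; exact ⟨rfl, rfl, Or.inl rfl⟩
    · right; rw [h2]; exact ⟨D.a_adj (by decide) _, D.a_non (by decide) _, Or.inr rfl⟩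
  have h3 : D.ph k y 2 = y 2 := by rcases h1 with h1 | h1 <;> exact h1.2.1
  have h4 : D.ph k y 1 = 1 := by
    rcases h with rfl | rfl | rfl
    · exact absurd hk hn
    · have h5 := congrFun e 2
      rw [D.mul_ph, D.a_adj (by decide), h3] at h5
      exact mul_eq_left.1 h5
    · have h5 := congrFun e 2
      rw [D.mul_ph, D.mul_ph, D.a_non (by decide), D.a_adj (by decide), h3] at h5
      exact mul_eq_left.1 h5
  rcases h1 with h1 | h1
  · left; rw [← h1.1, h4]
  · right; rw [← h1.1, h4]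

theorem ss0 : ({0} : Set (Fin 4)) ⊂ {0, 1} := by
  refine ⟨by intro x hx; simp only [Set.mem_singleton_iff] at hx; simp [hx], fun h => ?_⟩
  have := h (show (1 : Fin 4) ∈ ({0, 1} : Set (Fin 4)) by simp)
  simp at this

theorem e0 {b : Fin 4 → B} (h : D.El {0, 1} b) : b 0 = 1 ∧ b 1 = 1 := by
  have h0 : D.s 0 ∈ D.P {0, 1} := D.mem_P (by simp)
  have h1 : D.s 1 ∈ D.P {0, 1} := D.mem_P (by simp)
  obtain ⟨w, hw, hn, e⟩ := h 1 (one_mem _) {0} ss0
  rw [map_one, Equiv.Perm.one_apply] at e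
  rcases D.e0_aux hw hn e with e1 | e1
  · -- use `s₁ s₀`
    obtain ⟨w, hw, hn, e⟩ := h (D.s 1 * D.s 0) (mul_mem h1 h0) {0} ss0
    have e2 := D.e0_aux hw hn e
    have e3 : D.ph (D.s 1 * D.s 0) b 1 = (b 0)⁻¹ := by
      rw [D.mul_ph, D.a_self, D.a_adj (by decide), e1, one_mul]
    have e4 : D.ph (D.s 1 * D.s 0) b 0 = 1 := by
      rw [D.mul_ph, D.a_adj (by decide), D.a_self, D.a_adj (by decide), e1, one_mul, inv_mul_cancel]
    rw [e3, e4, mul_one, or_self, inv_eq_one] at e2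
    exact ⟨e2, e1⟩
  · obtain ⟨w, hw, hn, e⟩ := h (D.s 1) h1 {0} ss0
    have e2 := D.e0_aux hw hn e
    have e3 : D.ph (D.s 1) b 1 = (b 1)⁻¹ := D.a_self _ _
    have e4 : D.ph (D.s 1) b 0 = 1 := by rw [D.a_adj (by decide), mul_comm, e1]
    rw [e3, e4, mul_one, or_self, inv_eq_one] at e2
    rw [e2, one_mul] at e1
    exact ⟨e1, e2⟩

/-! ### `E1` -/

theorem ss01 : ({0, 1} : Set (Fin 4)) ⊂ {0, 1, 2} := by
  refine ⟨by intro x hx; simp only [Set.mem_insert_iff, Set.mem_singleton_iff] at hx ⊢; tauto, fun h => ?_⟩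
  have := h (show (2 : Fin 4) ∈ ({0, 1, 2} : Set (Fin 4)) by simp)
  simp at this

theorem ss02 : ({0, 2} : Set (Fin 4)) ⊂ {0, 1, 2} := by
  refine ⟨by intro x hx; simp only [Set.mem_insert_iff, Set.mem_singleton_iff] at hx ⊢; tauto, fun h => ?_⟩
  have := h (show (1 : Fin 4) ∈ ({0, 1, 2} : Set (Fin 4)) by simp)
  simp at this

theorem l0 {y : Fin 4 → B} (y0 : y 0 = 1) (y1 : y 1 = 1) (h : D.El {0, 1, 2} y) : y 2 = 1 := by
  obtain ⟨w, hw, hn, e⟩ := h 1 (one_mem _) {0, 1} ss01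
  rw [map_one, Equiv.Perm.one_apply] at e
  obtain ⟨k, hk, h1⟩ := D.cos1 hw
  have hky : D.ph k y = y := by
    refine D.P_ind (J := {0, 1}) (p := fun k => D.ph k y = y) (by simp) ?_ hk
    intro i hi w hw
    rw [D.mul_ph, hw]
    simp only [Set.mem_insert_iff, Set.mem_singleton_iff] at hi
    rcases hi with rfl | rfl
    · exact D.fix_of_one y0
    · exact D.fix_of_one y1
  rcases h1 with rfl | rfl | rfl | rfl
  · exact absurd hk hn
  · have h5 := congrFun e 1
    rw [D.mul_ph, hky, D.a_adj (by decide)] at h5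
    exact mul_eq_left.1 h5
  · have h5 := congrFun e 0
    rw [D.mul_ph, D.mul_ph, hky, D.a_adj (by decide), D.a_non (by decide), D.a_adj (by decide), y0, y1] at h5
    simpa using h5
  · have h5 := congrFun e 0
    rw [D.mul_ph, D.mul_ph, D.mul_ph, hky, D.a_self, D.a_adj (by decide), D.a_non (by decide),
      D.a_adj (by decide), y0, y1] at h5
    simpa using h5

theorem l1 {y : Fin 4 → B} (y0 : y 0 = 1) (h : D.El {0, 1, 2} y) : y 2 = 1 := by
  by_cases y1 : y 1 = 1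
  · exact D.l0 y0 y1 h
  by_cases y12 : y 1 * y 2 = 1
  · have h2 : D.s 2 ∈ D.P {0, 1, 2} := D.mem_P (by simp)
    have h3 := D.l0 (y := D.ph (D.s 2) y) (by rw [D.a_non (by decide), y0]) (by rw [D.a_adj (by decide), y12])
      (El.move D h h2)
    rw [D.a_self, inv_eq_one] at h3
    exact h3
  by_contra y2
  obtain ⟨w, hw, hn, e⟩ := h 1 (one_mem _) {0, 2} ss02
  rw [map_one, Equiv.Perm.one_apply] at e
  obtain ⟨k, hk, h1⟩ := D.cos2 hw
  have hk2 : D.ph k y = y ∨ D.ph k y = D.ph (D.s 2) y := by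
    refine D.P_ind (J := {0, 2}) (p := fun k => D.ph k y = y ∨ D.ph k y = D.ph (D.s 2) y) (Or.inl (by simp)) ?_ hk
    intro i hi w hw
    rw [D.mul_ph]
    simp only [Set.mem_insert_iff, Set.mem_singleton_iff] at hi
    rcases hi with rfl | rfl
    · rcases hw with hw | hw
      · left; rw [hw]; exact D.fix_of_one y0
      · right; rw [hw]; exact D.fix_of_one (by rw [D.a_non (by decide), y0])
    · rcases hw with hw | hw
      · right; rw [hw]
      · left; rw [hw, ← D.mul_ph, D.sq]; simp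
  obtain ⟨z, hz, z0, z1, z2, z12⟩ : ∃ z : Fin 4 → B, D.ph k y = z ∧ z 0 = 1 ∧ z 1 ≠ 1 ∧ z 2 ≠ 1 ∧ z 2 * z 1 ≠ 1 := by
    rcases hk2 with hk2 | hk2
    · exact ⟨y, hk2, y0, y1, y2, by rw [mul_comm]; exact y12⟩
    · refine ⟨_, hk2, by rw [D.a_non (by decide), y0], by rw [D.a_adj (by decide)]; exact y12, ?_, ?_⟩
      · rw [D.a_self, ne_eq, inv_eq_one]; exact y2
      · rw [D.a_self, D.a_adj (by decide), mul_comm (y 1), inv_mul_cancel_left]; exact y1
  rcases h1 with rfl | rfl | rfl | rfl | rfl | rfl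
  · exact hn hk
  · have h5 := congrFun e 0
    rw [D.mul_ph, hz, D.a_adj (by decide), z0, y0, one_mul] at h5
    exact z1 h5
  · have h5 := congrFun e 0
    rw [D.mul_ph, D.mul_ph, hz, D.a_self, D.a_adj (by decide), z0, y0, one_mul, inv_eq_one] at h5
    exact z1 h5
  · have h5 := congrFun e 0
    rw [D.mul_ph, D.mul_ph, hz, D.a_non (by decide), D.a_adj (by decide), z0, y0, one_mul] at h5
    exact z1 h5
  · have h5 := congrFun e 0
    rw [D.mul_ph, D.mul_ph, D.mul_ph, hz, D.a_self, D.a_non (by decide), D.a_adj (by decide), z0, y0, one_mul,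
      inv_eq_one] at h5
    exact z1 h5
  · have h5 := congrFun e 0
    -- coordinate `0` : `z 2`
    rw [D.mul_ph, D.mul_ph, D.mul_ph, D.mul_ph, hz, D.a_adj (by decide) (i := 1) (j := 0), D.a_self 0,
      D.a_non (by decide) (i := 2) (j := 0), D.a_adj (by decide) (i := 1) (j := 0),
      D.a_adj (by decide) (i := 0) (j := 1), D.a_adj (by decide) (i := 2) (j := 1),
      D.a_non (by decide) (i := 2) (j := 0), D.a_adj (by decide) (i := 1) (j := 0),
      D.a_self 1, D.a_adj (by decide) (i := 1) (j := 2), z0, y0] at h5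
    apply z2
    rw [← h5]
    simp only [one_mul]
    rw [mul_comm (z 2) (z 1), inv_mul_cancel_left, mul_comm (z 2), inv_mul_cancel_left]

/-- formal action -/
def fm (i : Fin 4) (f : Fin 4 → ℤ × ℤ) : Fin 4 → ℤ × ℤ :=
  fun j => ((f j).1 - ca i j * (f i).1, (f j).2 - ca i j * (f i).2)

def app : List (Fin 4) → (Fin 4 → ℤ × ℤ) → (Fin 4 → ℤ × ℤ)
  | [], f => f
  | i :: l, f => fm i (app l f)

def ev (u v : B) (f : Fin 4 → ℤ × ℤ) : Fin 4 → B := fun j => u ^ (f j).1 * v ^ (f j).2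

theorem ph_ev (u v : B) (i : Fin 4) (f : Fin 4 → ℤ × ℤ) : D.ph (D.s i) (ev u v f) = ev u v (fm i f) := by
  funext j
  rw [D.act]
  simp only [ev, fm]
  rw [mul_zpow, ← zpow_mul, ← zpow_mul, sub_eq_add_neg, sub_eq_add_neg, zpow_add, zpow_add,
    mul_mul_mul_comm]
  congr 2 <;> congr 1 <;> ring

def wd : List (Fin 4) → W
  | [] => 1
  | i :: l => D.s i * wd l

theorem ph_wd (u v : B) (l : List (Fin 4)) (f : Fin 4 → ℤ × ℤ) : D.ph (D.wd l) (ev u v f) = ev u v (app l f) := by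
  induction l with
  | nil => simp [wd, app]
  | cons i l ih => rw [wd, app, D.mul_ph, ih, D.ph_ev]

theorem wd_mem {l : List (Fin 4)} (hl : ∀ i ∈ l, i ≠ 3) : D.wd l ∈ D.P {0, 1, 2} := by
  induction l with
  | nil => exact one_mem _
  | cons i l ih =>
    rw [wd]
    refine mul_mem (D.mem_P ?_) (ih fun j hj => hl j (List.mem_cons_of_mem _ hj))
    have h1 := hl i List.mem_cons_self
    revert h1
    (revert i; simp only [_root_.Fin.forall_fin_succ, _root_.List.mem_cons, Fin.isValue, _root_.ne_eq, _root_.forall_eq_or_imp, Fin.reduceEq, _root_.not_false_eq_true, _root_.implies_true, _root_.Fin.succ_zero_eq_one, _root_.Fin.succ_one_eq_two, Fin.reduceSucc, _root_.not_true_eq_false, _root_.imp_false, _root_.IsEmpty.forall_iff, _root_.and_true, _root_.true_and, _root_.Set.mem_insert_iff, _root_.Set.mem_singleton_iff, _root_.and_imp, _root_.zero_ne_one, _root_.or_self, _root_.or_false, _root_.imp_self, _root_.Fin.succ_ne_zero, _root_.false_or,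 _root_.or_true, _root_.and_self])

/-- the orbit of `(0, 0, u, v)` -/
def tab : List ((Fin 4 → ℤ × ℤ) × List (Fin 4)) := [(![(0, 0), (0, 0), (1, 0), (0, 1)], []),
 (![(0, 0), (1, 0), (-1, 0), (0, 1)], [2]),
 (![(0, 0), (0, 1), (1, 0), (0, -1)], [2]),
 (![(1, 0), (-1, 0), (0, 0), (1, 1)], [2, 1]),
 (![(0, 0), (1, 1), (-1, 0), (0, -1)], []),
 (![(0, 1), (0, -1), (1, 1), (0, 0)], [2, 1]),
 (![(-1, 0), (0, 0), (0, 0), (1, 1)], [2, 1, 0]),
 (![(1, 0), (0, 1), (0, 0), (-1, -1)], [1, 2, 0, 1]),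
 (![(1, 1), (-1, -1), (0, 1), (1, 0)], [1]),
 (![(0, -1), (0, 0), (1, 1), (0, 0)], [2, 1, 0]),
 (![(0, 1), (1, 0), (-1, -1), (0, 0)], [1, 2, 1]),
 (![(-1, 0), (1, 1), (0, 0), (-1, -1)], [1, 2, 0, 1, 0]),
 (![(1, 1), (0, -1), (0, 1), (-1, 0)], [1, 2, 0]),
 (![(-1, -1), (0, 0), (0, 1), (1, 0)], [1, 0]),
 (![(1, 1), (-1, 0), (0, -1), (1, 0)], [1, 2]),
 (![(0, -1), (1, 1), (-1, -1), (0, 0)], [1, 2, 1, 0]),
 (![(0, 1), (-1, -1), (1, 1), (0, 0)], [1, 2, 1, 0]),
 (![(-1, -1), (1, 0), (0, 1), (-1, 0)], [1, 2]),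
 (![(1, 1), (0, 0), (0, -1), (-1, 0)], [1, 0]),
 (![(-1, -1), (0, 1), (0, -1), (1, 0)], [1, 2, 0]),
 (![(1, 0), (-1, -1), (0, 0), (1, 1)], [1, 2, 0, 1, 0]),
 (![(0, -1), (-1, 0), (1, 1), (0, 0)], [1, 2, 1]),
 (![(0, 1), (0, 0), (-1, -1), (0, 0)], [2, 1, 0]),
 (![(-1, -1), (1, 1), (0, -1), (-1, 0)], [1]),
 (![(-1, 0), (0, -1), (0, 0), (1, 1)], [1, 2, 0, 1]),
 (![(1, 0), (0, 0), (0, 0), (-1, -1)], [2, 1, 0]),
 (![(0, -1), (0, 1), (-1, -1), (0, 0)], [2, 1]),
 (![(0, 0), (-1, -1), (1, 0), (0, 1)], []),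
 (![(-1, 0), (1, 0), (0, 0), (-1, -1)], [2, 1]),
 (![(0, 0), (0, -1), (-1, 0), (0, 1)], [2]),
 (![(0, 0), (-1, 0), (1, 0), (0, -1)], [2]),
 (![(0, 0), (0, 0), (-1, 0), (0, -1)], [])]

theorem tab_closed : ∀ p ∈ tab, ∀ i, ∃ p' ∈ tab, p'.1 = fm i p.1 := by decide +kernel

theorem tab_rep : ∀ p ∈ tab, (∀ i ∈ p.2, i ≠ 3) ∧ (app p.2 p.1 0 = (0, 0)) ∧
    (app p.2 p.1 2 = (1, 0) ∨ app p.2 p.1 2 = (-1, 0)) := by decide +kernel

theorem e1 {b : Fin 4 → B} (b0 : b 0 = 1) (b1 : b 1 = 1) (x : W) (h : D.El {0, 1, 2} (D.ph x b)) : b 2 = 1 := by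
  have hb : b = ev (b 2) (b 3) ![(0, 0), (0, 0), (1, 0), (0, 1)] := by
    funext j
    (revert j; simp only [ev, b0, b1, _root_.Fin.forall_fin_succ, Fin.isValue, _root_.Matrix.cons_val_zero, _root_.zpow_ofNat, _root_.pow_zero, _root_.mul_one, _root_.Matrix.cons_val_succ, _root_.Fin.succ_zero_eq_one, _root_.Fin.succ_one_eq_two, _root_.pow_one, _root_.Matrix.cons_val_fin_one, _root_.one_mul, Fin.reduceSucc, _root_.IsEmpty.forall_iff, _root_.and_self])
  obtain ⟨p, hp, ex⟩ : ∃ p ∈ tab, D.ph x b = ev (b 2) (b 3) p.1 := by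
    refine D.all_ind (p := fun x => ∃ p ∈ tab, D.ph x b = ev (b 2) (b 3) p.1) ?_ ?_ x
    · exact ⟨(![(0, 0), (0, 0), (1, 0), (0, 1)], []), List.mem_cons_self, by rw [map_one]; exact hb⟩
    · rintro i w ⟨p, hp, e⟩
      obtain ⟨p', hp', e'⟩ := tab_closed p hp i
      exact ⟨p', hp', by rw [D.mul_ph, e, D.ph_ev, e']⟩
  obtain ⟨h1, h2, h3⟩ := tab_rep p hp
  have h4 := El.move D h (D.wd_mem h1)
  rw [ex, D.ph_wd] at h4
  have h5 := D.l1 (by simp [ev, h2]) h4
  rcases h3 with h3 | h3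
  · simpa [ev, h3] using h5
  · simpa [ev, h3] using h5

/-! ### the mirror image -/

/-- `swap 2 3` -/
def sw : Fin 4 → Fin 4 := ![0, 1, 3, 2]

theorem sw_sw (i : Fin 4) : sw (sw i) = i := by revert i; decide

theorem ca_sw (i j : Fin 4) : ca (sw i) (sw j) = ca i j := by revert i j; decide

/-- precomposition with `sw` -/
def pe : Equiv.Perm (Fin 4 → B) where
  toFun b := fun j => b (sw j)
  invFun b := fun j => b (sw j)
  left_inv b := by funext j; show b (sw (sw j)) = b j; rw [sw_sw]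
  right_inv b := by funext j; show b (sw (sw j)) = b j; rw [sw_sw]

def mirror : DS W B where
  s i := D.s (sw i)
  ph := (MulAut.conj (pe (B := B))).toMonoidHom.comp D.ph
  gen := by
    rw [← D.gen]
    congr 1
    ext x
    simp only [Set.mem_range]
    constructor
    · rintro ⟨i, rfl⟩; exact ⟨_, rfl⟩
    · rintro ⟨i, rfl⟩; exact ⟨sw i, by rw [sw_sw]⟩
  sq i := D.sq _
  c02 := D.c03
  c03 := D.c02
  c23 := D.c23.symm
  b01 := D.b01
  b12 := D.b13
  b13 := D.b12
  act i b j := by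
    show D.ph (D.s (sw i)) (fun k => b (sw k)) (sw j) = _
    rw [D.act, sw_sw, sw_sw, ca_sw]

theorem mirror_ph (w : W) (b : Fin 4 → B) : D.mirror.ph w b = pe (D.ph w (pe b)) := rfl

theorem mirror_P (J : Set (Fin 4)) : D.mirror.P J = D.P (sw '' J) := by
  unfold P
  rw [Set.image_image]
  rfl

theorem e2 {b : Fin 4 → B} (b0 : b 0 = 1) (b1 : b 1 = 1) (x : W) (h : D.El {0, 1, 3} (D.ph x b)) : b 3 = 1 := by
  have hsw : sw '' ({0, 1, 2} : Set (Fin 4)) = {0, 1, 3} := by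
    rw [Set.image_insert_eq, Set.image_insert_eq, Set.image_singleton]; rfl
  have hss : Function.Involutive sw := sw_sw
  refine D.mirror.e1 (b := pe b) b0 b1 x ?_
  have hpe : ∀ b : Fin 4 → B, pe (pe b) = b := fun b => by funext j; show b (sw (sw j)) = _; rw [sw_sw]
  intro v hv K hK
  rw [mirror_P, hsw] at hv
  have hK' : sw '' K ⊂ {0, 1, 3} := by
    rw [← hsw]
    exact hss.injective.image_strictMono hK
  obtain ⟨w, hw, hn, e⟩ := h v hv _ hK'
  refine ⟨w, by rw [mirror_P, hsw]; exact hw, by rw [mirror_P]; exact hn, ?_⟩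
  simp only [mirror_ph, hpe]
  rw [e]

end DS

/-! ### Coxeter systems -/

section cox

variable {W : Type u} [Group W] (cs : CoxeterSystem (TypeD.M 2) W) {B : Type v} [CommGroup B]
  [MulAction W (Fin 4 → B)]

/-- no conjugate of the stabiliser in `W_J` lies in a smaller parabolic subgroup -/
def El (J : Set (Fin 4)) (b : Fin 4 → B) : Prop :=
  ∀ v ∈ WJ cs J, ∀ K ⊂ J, ∃ w ∈ WJ cs J, w ∉ WJ cs K ∧ w • v • b = v • b

theorem ca_eq (i j : Fin 4) : TypeD.A 2 i j = ca i j := by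
  rw [TypeD.A_apply]; revert i j; decide

theorem comm_of {i j : Fin 4} (h : TypeD.M 2 i j = 2) : cs.simple i * cs.simple j = cs.simple j * cs.simple i := by
  have h1 := cs.simple_mul_simple_pow i j
  rw [h, pow_two] at h1
  have h2 := cs.simple_mul_simple_self i
  have h3 := cs.simple_mul_simple_self j
  have h4 : cs.simple i * cs.simple j = (cs.simple i * cs.simple j)⁻¹ := eq_inv_of_mul_eq_one_left h1
  rw [h4, mul_inv_rev, cs.inv_simple, cs.inv_simple]

theorem braid_of {i j : Fin 4} (h : TypeD.M 2 i j = 3) :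
    cs.simple i * cs.simple j * cs.simple i = cs.simple j * cs.simple i * cs.simple j := by
  have h1 := cs.simple_mul_simple_pow i j
  rw [h, pow_succ, pow_two] at h1
  have h4 : cs.simple i * cs.simple j * cs.simple i = (cs.simple j * cs.simple i * cs.simple j)⁻¹ := by
    rw [eq_inv_iff_mul_eq_one, ← h1]; group
  rw [h4, mul_inv_rev, mul_inv_rev, cs.inv_simple, cs.inv_simple, mul_assoc]

/-- the data of a Coxeter system -/
def ds (hs : ∀ (i : Fin 4) (b : Fin 4 → B), cs.simple i • b = fun j => b j * (b i) ^ (-(TypeD.A 2 i j))) : DS W B where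
  s := cs.simple
  ph := MulAction.toPermHom W (Fin 4 → B)
  gen := cs.subgroup_closure_range_simple
  sq := cs.simple_mul_simple_self
  c02 := comm_of cs (by decide)
  c03 := comm_of cs (by decide)
  c23 := comm_of cs (by decide)
  b01 := braid_of cs (by decide)
  b12 := braid_of cs (by decide)
  b13 := braid_of cs (by decide)
  act i b j := by
    show (cs.simple i • b) j = _
    rw [hs]
    show b j * (b i) ^ (-(TypeD.A 2 i j)) = _
    rw [ca_eq]

variable (hs : ∀ (i : Fin 4) (b : Fin 4 → B), cs.simple i • b = fun j => b j * (b i) ^ (-(TypeD.A 2 i j)))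
include hs

theorem E0 {b : Fin 4 → B} (h : El cs {0, 1} b) : b 0 = 1 ∧ b 1 = 1 := (ds cs hs).e0 h

theorem E1 {b : Fin 4 → B} (b0 : b 0 = 1) (b1 : b 1 = 1) (x : W) (h : El cs {0, 1, 2} (x • b)) : b 2 = 1 :=
  (ds cs hs).e1 b0 b1 x h

theorem E2 {b : Fin 4 → B} (b0 : b 0 = 1) (b1 : b 1 = 1) (x : W) (h : El cs {0, 1, 3} (x • b)) : b 3 = 1 :=
  (ds cs hs).e2 b0 b1 x h

end cox

end Cfsg.Agent.H643.OZ.D4
end

-- part: H631/VZ/DFourB
section
/-!
# S4842, type `D₄`: `V^U = V^B ≠ 0` (helper631)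

* `dic_of_tco` : the dictionary of the `T`-characters from coordinates of the torus (helper650's `TCo`);
* `VB_D4_of` : `V^U = V^B ≠ 0` from elliptic elements of `L_{01}`, `L_{012}`, `L_{013}`, any `RGD` of type `TypeD.M 2` with a
  dictionary; `VB_D4` : the same with `TCo`.
-/

set_option autoImplicit false
set_option linter.unusedSectionVars false

open Cfsg

namespace Cfsg.Agent.H631.VZ

open CoxeterSystem Cfsg.Agent.ChevalleyStructure.CoxeterGeom Cfsg.Agent.Tits.Roots Cfsg.Agent.Tits.Core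
  Cfsg.Agent.Tits.Exchange Cfsg.Agent.Nodes.Reps Cfsg.Agent.Nodes.BNOf Cfsg.Agent.Nodes.StabComb
  Cfsg.Agent.Nodes.Bruhat Cfsg.Agent.Nodes.OppDec Cfsg.Agent.Nodes.LeviDec Module Cfsg.Agent.H985.VZ
  Cfsg.Agent.H631.Kaw Cfsg.Agent.Nodes

universe u v

section

variable {I W : Type*} {Y : Type u} [Fintype I] [DecidableEq I] [Group W] [Group Y] {M : CoxeterMatrix I}
  {cs : CoxeterSystem M W} {A : I → I → ℤ} {T : Subgroup Y} {n : I → Y} {hN : NSys M T n}
  {E : Type*} [CommGroup E] {hh : I → E →* T}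

/-- the dictionary of the `T`-characters from coordinates of the torus -/
theorem dic_of_tco (h : IsCartan M A) (C : Cfsg.Agent.H650.OZ.TCo A T n hh) :
    Dic hN cs h (fun l i => l.comp (hh i) : (T →* ℂˣ) → I → (E →* ℂˣ)) where
  simple i l l' hm := by
    have h1 := Cfsg.Agent.H650.OZ.co_mv C h hm
    rw [dact_simple]
    funext j
    have h2 := congrFun h1 j
    have h3 : l'.comp (hh j) = l.comp (hh j) / (l.comp (hh i)) ^ (A j i) := h2
    change l'.comp (hh j) = l.comp (hh j) * (l.comp (hh i)) ^ (-A j i)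
    rw [h3]
    refine MonoidHom.ext fun x => ?_
    have h4 : ∀ m : ℤ, ((l.comp (hh i)) ^ m) x = l (hh i x) ^ m := fun m =>
      map_zpow (MonoidHom.eval x : (E →* ℂˣ) →* ℂˣ) (l.comp (hh i)) m
    rw [MonoidHom.div_apply, MonoidHom.mul_apply]
    refine Eq.trans (congrArg _ (h4 _)) (Eq.trans ?_ (congrArg _ (h4 _)).symm)
    rw [zpow_neg, div_eq_mul_inv]
  one l hl := Cfsg.Agent.H650.OZ.eq_one_of_co C fun i => by
    have h1 := congrFun hl i
    change Additive.ofMul (l.comp (hh i)) = 0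
    rw [show l.comp (hh i) = 1 from h1]
    rfl

end

section

variable {W : Type*} {Y : Type u} [Group W] [Finite W] [Group Y] [Finite Y]
  {cs : CoxeterSystem (TypeD.M 2) W} {p : ℕ} {T : Subgroup Y} {n : Fin 4 → Y} {X : (Fin 4 → ℤ) → Subgroup Y}
  {B : Type*} [CommGroup B] {f : (T →* ℂˣ) → Fin 4 → B}
  {V : Type v} [AddCommGroup V] [Module ℂ V] [FiniteDimensional ℂ V] {ρ : Representation ℂ Y V}

/-- **`V^U = V^B ≠ 0` in type `D₄`** -/
theorem VB_D4_of [Fact p.Prime] (R : RGD cs (TypeD.isCartan 2) p T n X) (D : Dic R.nsys cs (TypeD.isCartan 2) f)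
    (hG : GG cs (TypeD.isCartan 2) T X = ⊤) (hT : ∀ s ∈ T, ∀ t ∈ T, s * t = t * s) (hρ : ρ.IsIrreducible)
    {t t' t'' : Y} (ht : Ell cs (TypeD.isCartan 2) T X {0, 1} t) (hχ : ρ.character t ≠ 0)
    (ht' : Ell cs (TypeD.isCartan 2) T X {0, 1, 2} t') (hχ' : ρ.character t' ≠ 0)
    (ht'' : Ell cs (TypeD.isCartan 2) T X {0, 1, 3} t'') (hχ'' : ρ.character t'' ≠ 0) :
    VU cs (TypeD.isCartan 2) X ρ ≠ ⊥ ∧ VU cs (TypeD.isCartan 2) X ρ = fx ρ (RGD.B cs (TypeD.isCartan 2) T X) ∧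
      ∀ l : T →* ℂˣ, Vl cs (TypeD.isCartan 2) T X ρ l ≠ ⊥ → l = 1 := by
  have h0 : VU cs (TypeD.isCartan 2) X ρ ≠ ⊥ := VU_D4 R hG hρ ht hχ ht' hχ'
  let _ : MulAction W (Fin 4 → B) := dAction cs (TypeD.isCartan 2)
  have hs : ∀ (i : Fin 4) (b : Fin 4 → B), cs.simple i • b = fun j => b j * (b i) ^ (-(TypeD.A 2 i j)) := by
    intro i b
    change dact cs (TypeD.isCartan 2) (cs.simple i) b = _
    rw [dact_simple]
    funext j
    have hsym : TypeD.A 2 j i = TypeD.A 2 i j := by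
      rw [Cfsg.Agent.H643.OZ.D4.ca_eq, Cfsg.Agent.H643.OZ.D4.ca_eq]
      revert i j
      decide
    rw [hsym]
  obtain ⟨l, hl, hE⟩ := D.exists_El R hG hT hρ h0 ht hχ
  obtain ⟨l', hl', hE'⟩ := D.exists_El R hG hT hρ h0 ht' hχ'
  obtain ⟨l'', hl'', hE''⟩ := D.exists_El R hG hT hρ h0 ht'' hχ''
  obtain ⟨w, hw⟩ := exists_mv R hG hρ hl hl'
  obtain ⟨y, hy⟩ := exists_mv R hG hρ hl hl''
  rw [D.mv hw] at hE'
  rw [D.mv hy] at hE''
  obtain ⟨b0, b1⟩ := Cfsg.Agent.H643.OZ.D4.E0 cs hs (b := f l) hE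
  have b2 : f l 2 = 1 := Cfsg.Agent.H643.OZ.D4.E1 cs hs b0 b1 w hE'
  have b3 : f l 3 = 1 := Cfsg.Agent.H643.OZ.D4.E2 cs hs b0 b1 y hE''
  have hl1 : l = 1 := D.one l (by
    funext i
    fin_cases i
    · exact b0
    · exact b1
    · exact b2
    · exact b3)
  rw [hl1] at hl
  have hall : ∀ l : T →* ℂˣ, Vl cs (TypeD.isCartan 2) T X ρ l ≠ ⊥ → l = 1 := by
    intro l₁ hl₁
    obtain ⟨z, hz⟩ := exists_mv R hG hρ hl hl₁
    refine D.one l₁ ?_
    rw [D.mv hz]
    have h1 : f 1 = 1 := by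
      rw [← hl1]
      funext i
      fin_cases i
      · exact b0
      · exact b1
      · exact b2
      · exact b3
    rw [h1]
    funext j
    change pr (1 : Fin 4 → B) _ = 1
    unfold pr
    exact Finset.prod_eq_one fun k _ => by rw [Pi.one_apply, one_zpow]
  exact ⟨h0, (Cfsg.Agent.H650.OZ.VU_eq_of_forall R hT hall).trans (Cfsg.Agent.H650.OZ.Vl_one R), hall⟩

/-- the same with coordinates of the torus -/
theorem VB_D4 [Fact p.Prime] {E : Type*} [CommGroup E] {hh : Fin 4 → E →* T}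
    (C : Cfsg.Agent.H650.OZ.TCo (TypeD.A 2) T n hh) (R : RGD cs (TypeD.isCartan 2) p T n X)
    (hG : GG cs (TypeD.isCartan 2) T X = ⊤) (hT : ∀ s ∈ T, ∀ t ∈ T, s * t = t * s) (hρ : ρ.IsIrreducible)
    {t t' t'' : Y} (ht : Ell cs (TypeD.isCartan 2) T X {0, 1} t) (hχ : ρ.character t ≠ 0)
    (ht' : Ell cs (TypeD.isCartan 2) T X {0, 1, 2} t') (hχ' : ρ.character t' ≠ 0)
    (ht'' : Ell cs (TypeD.isCartan 2) T X {0, 1, 3} t'') (hχ'' : ρ.character t'' ≠ 0) :
    VU cs (TypeD.isCartan 2) X ρ ≠ ⊥ ∧ VU cs (TypeD.isCartan 2) X ρ = fx ρ (RGD.B cs (TypeD.isCartan 2) T X) ∧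
      ∀ l : T →* ℂˣ, Vl cs (TypeD.isCartan 2) T X ρ l ≠ ⊥ → l = 1 :=
  VB_D4_of R (dic_of_tco (hN := R.nsys) (TypeD.isCartan 2) C) hG hT hρ ht hχ ht' hχ' ht'' hχ''

end

end Cfsg.Agent.H631.VZ
end

private theorem dce_73b11cf09e1e : _root_.True := by
  try have : _root_.True := by simp only [_root_.Cfsg.Agent.H643.OZ.D4.ca.eq_1]
  try have : _root_.True := by simp only [_root_.Cfsg.Agent.H643.OZ.D4.DS.app.eq_1]
  try have : _root_.True := by simp only [_root_.Cfsg.Agent.H158.OZ.ix.eq_1]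
  try have : _root_.True := by simp only [_root_.Cfsg.Agent.H643.OZ.D4.DS.ev.eq_1]
  try have : _root_.True := by simp only [_root_.Cfsg.Agent.H643.OZ.D4.DS.app.eq_def]
  try have : _root_.True := by simp only [_root_.Cfsg.Agent.H643.OZ.D4.DS.wd.eq_def]
  try have : _root_.True := by simp only [_root_.Cfsg.Agent.H643.OZ.D4.DS.app.eq_2]
  try have : _root_.True := by simp only [_root_.Cfsg.Agent.H643.OZ.D4.DS.wd.eq_2]
  try have : _root_.True := by simp only [_root_.Cfsg.Agent.H643.OZ.D4.DS.fm.eq_1]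
  try have : _root_.True := by simp only [_root_.Cfsg.Agent.H643.OZ.D4.DS.wd.eq_1]
  exact _root_.True.intro
end

-- part: H639/OZ/EndC
section
prune_inst 0x2346075747ea210000000058463201e36ea0004020008000008820e04038b9e6240c0a060362028121a2a0009003d002811100080424000000e0004000001000000800404a1480008e20016001080000000000000000000000000000000041004000000000
set_option linter.all false
open scoped Cfsg.Agent.FastGrp

-- part: H639/OZ/Poin
section
/-!
# S4842: Poincaré sums of one-dimensional characters of the Hecke algebra (helper639)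

`ψ 1 = 1`, `ψ (s_i w) = y_i ψ w` if the length grows.

* `simple_conj`  : `u α_i = α_j` ==> `u s_i = s_j u`;
* `exists_weight`: a `W`-invariant function on the roots with the value `y_i` at `α_i` (`y_i = y_j` if `M i j` is odd);
* `psi_eq`       : `ψ w = Q x w`, the product of `x` over the inversions of `w`;
* `sum_psi`      : `∑ ψ = ∏_{i < k} (1 + y + … + y^i) (1 + y^i z)` in type `B_k`.
-/

set_option autoImplicit false
set_option linter.unusedSectionVars false

open Cfsg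

namespace Cfsg.Agent.H639.OZ

open CoxeterSystem Cfsg.Agent.ChevalleyStructure.CoxeterGeom Cfsg.Agent.Tits.Roots Cfsg.Agent.Tits.Core
  Cfsg.Agent.Tits.RootComb Cfsg.Agent.Tits.Exchange Cfsg.Agent.Nodes.Comb Cfsg.Agent.Nodes.Reps
  Cfsg.Agent.Nodes.BNOf Cfsg.Agent.Nodes.StabComb Cfsg.Agent.ChevalleyStructure.WeylAbstract
  Cfsg.Agent.H35.Poin Cfsg.Agent.H965.XZ

section weights

variable {I W : Type*} [Fintype I] [DecidableEq I] [Group W] {M : CoxeterMatrix I}
  (cs : CoxeterSystem M W) {A : I → I → ℤ} (h : IsCartan M A)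

theorem isLin_perm (w : W) : (rdata cs h).IsLin (perm cs h w) := ⟨rep cs h w, fun _ => rfl⟩

theorem perm_simple_eq (i : I) : perm cs h (cs.simple i) = (rdata cs h).refl i := rfl

theorem simple_conj [Finite W] {u : W} {i j : I} (hu : rep cs h u (sr i) = sr j) :
    u * cs.simple i * u⁻¹ = cs.simple j := by
  have := finite_rt cs h
  apply perm_injective cs h
  have h1 := (rdata cs h).conj_refl (u := perm cs h u) (isLin_perm cs h u)
    (by rw [← map_inv]; exact isLin_perm cs h u⁻¹) (j := i) (k := j) (Subtype.ext hu)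
  rw [map_mul, map_mul, map_inv]
  exact h1

/-- a character of `W` with values `±1` -/
theorem exists_sign (P : I → Prop) (hP : ∀ i j, Odd (M i j) → (P i ↔ P j)) :
    ∃ ε : W →* ℤˣ, (∀ i, P i → ε (cs.simple i) = -1) ∧ ∀ i, ¬ P i → ε (cs.simple i) = 1 := by
  classical
  have hf : M.IsLiftable (fun i => if P i then (-1 : ℤˣ) else 1) := by
    intro i j
    rcases Nat.even_or_odd (M i j) with he | ho
    · obtain ⟨k, hk⟩ := he
      rw [hk, ← two_mul, pow_mul]
      have : ((if P i then (-1 : ℤˣ) else 1) * if P j then (-1 : ℤˣ) else 1) ^ 2 = 1 := by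
        split_ifs <;> simp only [_root_.mul_neg, _root_.mul_one, _root_.neg_neg, _root_.one_pow, _root_.even_two, _root_.Even.neg_pow]
      rw [this, one_pow]
    · have h1 := hP i j ho
      have : ((if P i then (-1 : ℤˣ) else 1) * if P j then (-1 : ℤˣ) else 1) = 1 := by
        by_cases h2 : P i
        · rw [if_pos h2, if_pos (h1.1 h2)]; simp
        · rw [if_neg h2, if_neg (fun h3 => h2 (h1.2 h3))]; simp
      rw [this, one_pow]
  refine ⟨cs.lift ⟨_, hf⟩, fun i hi => ?_, fun i hi => ?_⟩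
  · rw [cs.lift_apply_simple hf, if_pos hi]
  · rw [cs.lift_apply_simple hf, if_neg hi]

variable {S : Type*}

theorem root_unique [Finite W] {y : I → S} (hy : ∀ i j, Odd (M i j) → y i = y j) {w w' : W} {i j : I}
    (e : rep cs h w (sr i) = rep cs h w' (sr j)) : y i = y j := by
  by_contra hne
  obtain ⟨ε, h1, h2⟩ := exists_sign cs (fun k => y k = y i) (fun k l hkl => by rw [hy k l hkl])
  have h3 : rep cs h (w'⁻¹ * w) (sr i) = sr j := by
    rw [rep_mul_apply, e, rep_inv_apply]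
  have h4 := congrArg ε (simple_conj cs h h3)
  rw [map_mul, map_mul, map_inv, mul_comm (ε _) (ε (cs.simple i)), mul_assoc, mul_inv_cancel, mul_one, h1 i rfl,
    h2 j (fun h5 => hne h5.symm)] at h4
  exact absurd h4 (by decide)

/-- a `W`-invariant function on the roots -/
theorem exists_weight [Finite W] {y : I → S} (hy : ∀ i j, Odd (M i j) → y i = y j) :
    ∃ x : Rt cs h → S, (∀ i r, x ((rdata cs h).refl i r) = x r) ∧ (∀ r, x ((rdata cs h).neg r) = x r) ∧
      ∀ i, x ((rdata cs h).simple i) = y i := by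
  classical
  have hex : ∀ r : Rt cs h, ∃ (w : W) (i : I), (r : I → ℤ) = rep cs h w (sr i) := fun r => r.2
  choose w k hwk using hex
  have key : ∀ (r : Rt cs h) (v : W) (i : I), (r : I → ℤ) = rep cs h v (sr i) → y (k r) = y i := by
    intro r v i hv
    exact root_unique cs h hy (w := w r) (w' := v) (by rw [← hwk r, ← hv])
  refine ⟨fun r => y (k r), fun i r => ?_, fun r => ?_, fun i => ?_⟩
  · refine key _ (cs.simple i * w r) (k r) ?_
    change rep cs h (cs.simple i) (r : I → ℤ) = _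
    rw [rep_mul_apply, ← hwk r]
  · refine key _ (w r * cs.simple (k r)) (k r) ?_
    change -(r : I → ℤ) = _
    rw [rep_mul_apply, rep_simple_sr, map_neg, ← hwk r]
  · exact key _ 1 i (by rw [map_one]; rfl)

end weights

section psi

variable {I W : Type*} [Fintype I] [DecidableEq I] [Group W] {M : CoxeterMatrix I}
  (cs : CoxeterSystem M W) {A : I → I → ℤ} (h : IsCartan M A) {S : Type*}

theorem weight_perm {x : Rt cs h → S} (hx : ∀ i r, x ((rdata cs h).refl i r) = x r) (w : W) (r : Rt cs h) :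
    x (perm cs h w r) = x r := by
  induction w using cs.simple_induction_left with
  | one => rw [map_one, Equiv.Perm.one_apply]
  | mul_simple_left w i ih =>
    rw [map_mul, Equiv.Perm.mul_apply, perm_simple_eq, hx, ih]

theorem Q_simple_mul [Fintype (Rt cs h)] [CommMonoid S] {x : Rt cs h → S}
    (hx : ∀ i r, x ((rdata cs h).refl i r) = x r) {i : I} {w : W} (hlt : cs.length w < cs.length (cs.simple i * w)) :
    (rdata cs h).Q x (perm cs h (cs.simple i * w)) = x ((rdata cs h).simple i) * (rdata cs h).Q x (perm cs h w) := by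
  classical
  set R := rdata cs h with hR
  have hβ : 0 ≤ rep cs h w⁻¹ (sr i) := by
    refine (lt_iff' cs h w⁻¹ i).1 ?_
    have h1 : w⁻¹ * cs.simple i = (cs.simple i * w)⁻¹ := by rw [mul_inv_rev, cs.inv_simple]
    rw [h1, cs.length_inv, cs.length_inv]
    exact hlt
  set β : Rt cs h := (perm cs h w).symm (R.simple i) with hβd
  have hwβ : perm cs h w β = R.simple i := by rw [hβd, Equiv.apply_symm_apply]
  have hposβ : R.pos β := by
    have : β = perm cs h w⁻¹ (R.simple i) := by rw [map_inv]; rfl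
    rw [this]
    exact hβ
  have hsi : ∀ r, perm cs h (cs.simple i * w) r = R.refl i (perm cs h w r) := fun r => by
    rw [map_mul, Equiv.Perm.mul_apply]; rfl
  have hset : Finset.univ.filter (fun r => R.pos r ∧ ¬ R.pos (perm cs h (cs.simple i * w) r)) =
      insert β (Finset.univ.filter (fun r => R.pos r ∧ ¬ R.pos (perm cs h w r))) := by
    ext r
    rw [Finset.mem_insert, Finset.mem_filter, Finset.mem_filter, hsi]
    simp only [Finset.mem_univ, true_and]
    by_cases h1 : perm cs h w r = R.simple i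
    · have hr : r = β := by rw [hβd, ← h1, Equiv.symm_apply_apply]
      refine ⟨fun _ => Or.inl hr, fun _ => ⟨hr ▸ hposβ, ?_⟩⟩
      rw [h1, R.refl_simple, R.pos_neg]
      exact fun h2 => h2 (R.simple_pos i)
    by_cases h2 : perm cs h w r = R.neg (R.simple i)
    · have hr : ¬ R.pos r := by
        intro hr
        have h3 : perm cs h w (R.neg r) = R.simple i := by
          have h4 : perm cs h w (R.neg r) = R.neg (perm cs h w r) := by
            apply Subtype.ext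
            change rep cs h w (-(r : I → ℤ)) = -(rep cs h w (r : I → ℤ))
            rw [map_neg]
          rw [h4, h2, R.neg_neg]
        have h5 : R.neg r = β := by rw [hβd, ← h3, Equiv.symm_apply_apply]
        have h6 := hposβ
        rw [← h5, R.pos_neg] at h6
        exact h6 hr
      constructor
      · rintro ⟨h3, -⟩
        exact absurd h3 hr
      · rintro (h3 | ⟨h3, -⟩)
        · exact absurd (h3 ▸ hposβ) hr
        · exact absurd h3 hr
    · rw [R.pos_refl_iff h1 h2]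
      constructor
      · exact fun h3 => Or.inr h3
      · rintro (h3 | h3)
        · exact absurd (by rw [h3, hwβ]) h1
        · exact h3
  unfold RData.Q
  rw [hset, Finset.prod_insert, ← weight_perm cs h hx w β, hwβ]
  rw [Finset.mem_filter, hwβ]
  rintro ⟨-, -, h1⟩
  exact h1 (R.simple_pos i)

theorem psi_eq [Fintype (Rt cs h)] [CommMonoid S] {x : Rt cs h → S}
    (hx : ∀ i r, x ((rdata cs h).refl i r) = x r) {ψ : W → S} (h1 : ψ 1 = 1)
    (hψ : ∀ i w, cs.length w < cs.length (cs.simple i * w) → ψ (cs.simple i * w) = x ((rdata cs h).simple i) * ψ w)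
    (w : W) : ψ w = (rdata cs h).Q x (perm cs h w) := by
  have key : ∀ k : ℕ, ∀ w : W, cs.length w = k → ψ w = (rdata cs h).Q x (perm cs h w) := by
    intro k
    induction k with
    | zero =>
      intro w hw
      rw [cs.length_eq_zero_iff] at hw
      rw [hw, h1, map_one, RData.Q_one]
    | succ k ih =>
      intro w hw
      have hne : w ≠ 1 := fun e => by rw [e, cs.length_one] at hw; omega
      obtain ⟨i, hi⟩ := cs.exists_leftDescent_of_ne_one hne
      have h2 : cs.simple i * (cs.simple i * w) = w := by rw [← mul_assoc, cs.simple_mul_simple_self, one_mul]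
      have h3 : cs.length (cs.simple i * w) + 1 = cs.length w := (cs.isLeftDescent_iff (w := w) (i := i)).1 hi
      have h4 : cs.length (cs.simple i * w) < cs.length (cs.simple i * (cs.simple i * w)) := by rw [h2]; omega
      rw [← h2, hψ i _ h4, Q_simple_mul cs h hx h4, ih _ (by omega)]
  exact key _ w rfl

include h in
/-- **the Poincaré sum in type `B_k`, two parameters** -/
theorem sum_psi [Finite W] [Fintype W] [CommSemiring S] {y : I → S} (hy : ∀ i j, Odd (M i j) → y i = y j) {ψ : W → S}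
    (h1 : ψ 1 = 1) (hψ : ∀ i w, cs.length w < cs.length (cs.simple i * w) → ψ (cs.simple i * w) = y i * ψ w)
    {k : ℕ} {c : ℕ → I} (hP : BPath A Set.univ c k) (hc : ∀ i, ∃ t < k, c t = i) {a b : S}
    (ha : ∀ t, t + 1 < k → y (c t) = a) (hb : ∀ t, t + 1 = k → y (c t) = b) :
    ∑ w, ψ w = ∏ i ∈ Finset.range k, gs a (i + 1) * (1 + a ^ i * b) := by
  classical
  have := finite_rt cs h
  have : Fintype (Rt cs h) := Fintype.ofFinite _
  obtain ⟨x, hx, hxn, hxs⟩ := exists_weight cs h hy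
  have h2 := sum_bpath (rdata cs h) x hx hxn k (J := Set.univ) (c := c) hP (fun t ht => by rw [hxs, ha t ht])
    (fun t ht => by rw [hxs, hb t ht])
  have h3 : (Set.univ : Set I) \ {j | ∃ t < k, c t = j} = ∅ := by
    rw [Set.eq_empty_iff_forall_notMem]
    rintro j ⟨-, h4⟩
    exact h4 (hc j)
  rw [h3, RData.sum_W_empty, mul_one] at h2
  rw [← h2, W_eq, Subgroup.coe_map, finsum_mem_image (perm_injective cs h).injOn]
  have h4 : (WJ cs (Set.univ : Set I) : Set W) = Set.univ := by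
    have : WJ cs (Set.univ : Set I) = ⊤ := by
      unfold WJ
      rw [Set.image_univ]
      exact cs.subgroup_closure_range_simple
    rw [this]; rfl
  rw [h4, finsum_mem_univ, finsum_eq_sum_of_fintype]
  exact Finset.sum_congr rfl fun w _ => psi_eq cs h hx h1 (fun i w hw => by rw [hxs]; exact hψ i w hw) w

end psi

end Cfsg.Agent.H639.OZ
end

-- part: H639/OZ/Mixed
section
/-!
# S4842: the degree of `ρ` if `dim V^B = 1`, type `B_m` (helper639)

* `yv i` : `1 / q_i` if `V^{P_i} = 0`, `q_i` otherwise;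
* `deg_lin` : `χ(1) |B| ∑ ψ = |Y|`, `ψ (s_i w) = y_i ψ w`;
* `deg_B`   : `χ(1) ∏_{i < m} (1 + y + … + y^i) (1 + y^i z) = ∏_{i < m} (1 + q + … + q^i) (1 + q^i q')`;
* `mixed_three`, `mixed_four` : `V^{P_i} ≠ 0` only for the end node, `q = q'`:
  `2 (1 + q) χ(1) = q^4 (1 + q²) (1 + q³)`, `2 (1 + q) χ(1) = q^9 (1 + q³) (1 + q⁴)`;
* `dvd_of_mul` : then `r ∣ χ(1)` for a prime `r ∣ q³ + 1` (`q⁴ + 1`), `r ∤ 2 (1 + q)`.
-/

set_option autoImplicit false
set_option linter.unusedSectionVars false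

open Cfsg

namespace Cfsg.Agent.H639.OZ

open CoxeterSystem Cfsg.Agent.ChevalleyStructure.CoxeterGeom Cfsg.Agent.Tits.Roots Cfsg.Agent.Tits.Core
  Cfsg.Agent.Tits.Exchange Cfsg.Agent.Nodes.Reps Cfsg.Agent.Nodes.BNOf Cfsg.Agent.Nodes.StabComb
  Cfsg.Agent.Nodes.Bruhat Cfsg.Agent.Nodes.OppDec Cfsg.Agent.Nodes.LeviDec Cfsg.Agent.H985.VZ Module
  Cfsg.Agent.H200.VZ Cfsg.Agent.H965.XZ

universe u v

variable {I W : Type*} {Y : Type u} [Fintype I] [DecidableEq I] [Group W] [Group Y] {M : CoxeterMatrix I}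
  {cs : CoxeterSystem M W} {A : I → I → ℤ} {h : IsCartan M A} {p : ℕ} {T : Subgroup Y} {n : I → Y}
  {X : (I → ℤ) → Subgroup Y} {V : Type v} [AddCommGroup V] [Module ℂ V] {ρ : Representation ℂ Y V}

omit [DecidableEq I] in
/-- the diagram as a path -/
theorem TypeB.bpath {m : ℕ} {e : Fin m ≃ I} (hB : TypeB M e) (h : IsCartan M A) (hm : 0 < m) :
    BPath A Set.univ (fun t => e ⟨t % m, Nat.mod_lt _ hm⟩) m := by
  have hv : ∀ t < m, (⟨t % m, Nat.mod_lt _ hm⟩ : Fin m) = ⟨t % m, Nat.mod_lt _ hm⟩ := fun _ _ => rfl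
  have hmod : ∀ t < m, t % m = t := fun t ht => Nat.mod_eq_of_lt ht
  have hne : ∀ s < m, ∀ t < m, s ≠ t → e ⟨s % m, Nat.mod_lt _ hm⟩ ≠ e ⟨t % m, Nat.mod_lt _ hm⟩ := by
    intro s hs t ht hst heq
    have h1 := congrArg Fin.val (e.injective heq)
    simp only [hmod s hs, hmod t ht] at h1
    exact hst h1
  refine ⟨fun t _ => Set.mem_univ _, fun t ht => ?_, fun t ht => ?_, fun s t hs ht => ?_, fun j _ hj => ?_,
    fun s hs t ht hst => ?_⟩
  · have h1 := hB.three ⟨t % m, Nat.mod_lt _ hm⟩ ⟨(t + 1) % m, Nat.mod_lt _ hm⟩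
      (by simp only [hmod t (by omega), hmod (t + 1) (by omega)]) (by simp only [hmod t (by omega)]; exact ht)
    rcases h.rel _ _ (hne t (by omega) (t + 1) (by omega) (by omega)) with h2 | h2 | h2 | h2
    · omega
    · exact h2.2
    · omega
    · omega
  · have h1 := hB.four ⟨t % m, Nat.mod_lt _ hm⟩ ⟨(t + 1) % m, Nat.mod_lt _ hm⟩
      (by simp only [hmod t (by omega), hmod (t + 1) (by omega)]) (by simp only [hmod t (by omega)]; exact ht)
    rcases h.rel _ _ (hne t (by omega) (t + 1) (by omega) (by omega)) with h2 | h2 | h2 | h2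
    · omega
    · omega
    · exact h2.2
    · omega
  · have h1 := hB.two ⟨s % m, Nat.mod_lt _ hm⟩ ⟨t % m, Nat.mod_lt _ hm⟩
      (by simp only [hmod s (by omega), hmod t (by omega)]; omega)
    rcases h.rel _ _ (hne s (by omega) t (by omega) (by omega)) with h2 | h2 | h2 | h2
    · exact h2.2
    · omega
    · omega
    · omega
  · exfalso
    obtain ⟨k, rfl⟩ := e.surjective j
    refine hj k k.2 ?_
    congr 1
    exact Fin.ext (hmod k k.2)
  · by_contra hne'
    exact hne s hs t ht hne' hst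

/-- the value of the linear character of the Hecke algebra -/
noncomputable def yv (cs : CoxeterSystem M W) {A : I → I → ℤ} (h : IsCartan M A) (T : Subgroup Y)
    (X : (I → ℤ) → Subgroup Y) (ρ : Representation ℂ Y V) (i : I) : ℂ :=
  open Classical in if finrank ℂ (fx ρ (PJ cs h T X {i})) = 0 then (qq X i : ℂ)⁻¹ else qq X i

section

variable (R : RGD cs h p T n X) [Finite W] [Finite Y] [FiniteDimensional ℂ V]

omit [Finite W] in
theorem qq_ne (i : I) : (qq X i : ℂ) ≠ 0 := by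
  have : 0 < qq X i := Nat.card_pos
  exact_mod_cast this.ne'

include R

theorem exists_TE_eq (hd : finrank ℂ (VB cs h T X ρ) = 1) (i : I) :
    ∃ a : ℂ, (∀ v, TE cs h T n X ρ i v = a • v) ∧
      (finrank ℂ (fx ρ (PJ cs h T X {i})) = 0 → a = -1) ∧ (finrank ℂ (fx ρ (PJ cs h T X {i})) ≠ 0 → a = qq X i) := by
  obtain ⟨v0, hv0, hv⟩ := finrank_eq_one_iff'.1 hd
  obtain ⟨a, ha⟩ := hv (TE cs h T n X ρ i v0)
  have hall : ∀ v, TE cs h T n X ρ i v = a • v := by
    intro v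
    obtain ⟨c, rfl⟩ := hv v
    rw [map_smul, ← ha, smul_comm]
  refine ⟨a, hall, fun h1 => ?_, fun h1 => ?_⟩
  · have h2 := (quad (ρ := ρ) R i).mem v0
    rw [mem_Fq] at h2
    rw [map_add, hall, hall v0] at h2
    have h3 : ((a + 1) * (a - qq X i)) • v0 = 0 := by
      have : ((a + 1) * (a - qq X i)) • v0 = (a • a • v0 + a • v0) - (qq X i : ℂ) • (a • v0 + v0) := by module
      rw [this, h2, sub_self]
    rcases smul_eq_zero.1 h3 with h4 | h4
    · rcases mul_eq_zero.1 h4 with h5 | h5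
      · exact eq_neg_of_add_eq_zero_left h5
      · exfalso
        have h6 : TE cs h T n X ρ i v0 = (qq X i : ℂ) • v0 := by rw [hall, sub_eq_zero.1 h5]
        have h7 := (TE_eq_iff R i v0).1 h6
        have h8 : fx ρ (PJ cs h T X {i}) = ⊥ := Submodule.finrank_eq_zero.1 h1
        rw [h8, Submodule.mem_bot] at h7
        exact hv0 (Subtype.ext h7)
    · exact absurd h4 hv0
  · have h2 : fx ρ (PJ cs h T X {i}) ≠ ⊥ := fun h3 => h1 (by rw [h3, finrank_bot])
    obtain ⟨w, hw, hw0⟩ := (Submodule.ne_bot_iff _).1 h2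
    have h3 := (TE_eq_iff R i (⟨w, fx_mono B_le_PJ hw⟩ : VB cs h T X ρ)).2 hw
    rw [hall] at h3
    have h4 : (a - qq X i) • (⟨w, fx_mono B_le_PJ hw⟩ : VB cs h T X ρ) = 0 := by
      rw [sub_smul, h3, sub_self]
    rcases smul_eq_zero.1 h4 with h5 | h5
    · exact sub_eq_zero.1 h5
    · exact absurd (congrArg Subtype.val h5) hw0

theorem yv_eq_of_three (hd : finrank ℂ (VB cs h T X ρ) = 1) {i j : I} (hm : M i j = 3) :
    yv cs h T X ρ i = yv cs h T X ρ j := by
  obtain ⟨v0, hv0, -⟩ := finrank_eq_one_iff'.1 hd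
  obtain ⟨a, ha, ha1, ha2⟩ := exists_TE_eq R hd i
  obtain ⟨b, hb, hb1, hb2⟩ := exists_TE_eq R hd j
  have hq := qq_eq R hm
  have h1 := congrArg (fun f : Module.End ℂ (VB cs h T X ρ) => f v0) (braid_three (ρ := ρ) R hm)
  simp only [Module.End.mul_apply, ha, hb, map_smul] at h1
  have h2 : (a * b * (a - b)) • v0 = 0 := by
    have : (a * b * (a - b)) • v0 = a • a • b • v0 - b • b • a • v0 := by module
    rw [this, h1, sub_self]
  have h3 : a * b * (a - b) = 0 := (smul_eq_zero.1 h2).resolve_right hv0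
  have hqi := qq_ne (X := X) i
  have hqj := qq_ne (X := X) j
  have ha0 : a ≠ 0 := by
    by_cases h4 : finrank ℂ (fx ρ (PJ cs h T X {i})) = 0
    · rw [ha1 h4]; norm_num
    · rw [ha2 h4]; exact hqi
  have hb0 : b ≠ 0 := by
    by_cases h4 : finrank ℂ (fx ρ (PJ cs h T X {j})) = 0
    · rw [hb1 h4]; norm_num
    · rw [hb2 h4]; exact hqj
  have hab : a = b := by
    rcases mul_eq_zero.1 h3 with h4 | h4
    · rcases mul_eq_zero.1 h4 with h5 | h5
      · exact absurd h5 ha0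
      · exact absurd h5 hb0
    · exact sub_eq_zero.1 h4
  have hneg : (-1 : ℂ) ≠ qq X i := by
    intro h5
    have h6 : ((1 + qq X i : ℕ) : ℂ) = 0 := by push_cast; rw [← h5]; ring
    exact absurd (Nat.cast_eq_zero.1 h6) (by omega)
  unfold yv
  by_cases h4 : finrank ℂ (fx ρ (PJ cs h T X {i})) = 0
  · by_cases h5 : finrank ℂ (fx ρ (PJ cs h T X {j})) = 0
    · rw [if_pos h4, if_pos h5, hq]
    · exfalso
      rw [ha1 h4, hb2 h5, ← hq] at hab
      exact hneg hab
  · by_cases h5 : finrank ℂ (fx ρ (PJ cs h T X {j})) = 0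
    · exfalso
      rw [ha2 h4, hb1 h5] at hab
      exact hneg hab.symm
    · rw [if_neg h4, if_neg h5, hq]

/-- **the degree if `dim V^B = 1`** -/
theorem deg_lin [Fintype W] (hG : GG cs h T X = ⊤) (hρ : ρ.IsIrreducible) (hd : finrank ℂ (fx ρ (RGD.B cs h T X)) = 1) :
    ∃ ψ : W → ℂ, ψ 1 = 1 ∧ (∀ i w, cs.length w < cs.length (cs.simple i * w) →
      ψ (cs.simple i * w) = yv cs h T X ρ i * ψ w) ∧
      (finrank ℂ V : ℂ) * (Nat.card (RGD.B cs h T X) * ∑ w, ψ w) = Nat.card Y := by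
  classical
  have hE : Vl cs h T X ρ 1 = fx ρ (RGD.B cs h T X) := by
    rw [Vl_eq R, show lamB R (1 : T →* ℂˣ) = 1 from MonoidHom.one_comp _, eig_one]
  have hd' : finrank ℂ (VB cs h T X ρ) = 1 := hd
  obtain ⟨v0, hv0, hv⟩ := finrank_eq_one_iff'.1 hd'
  have hE' : Vl cs h T X ρ 1 = ℂ ∙ (v0 : V) := by
    rw [hE]
    refine le_antisymm (fun w hw => ?_) ?_
    · obtain ⟨c, hc⟩ := hv ⟨w, hw⟩
      exact Submodule.mem_span_singleton.2 ⟨c, congrArg Subtype.val hc⟩
    · rw [Submodule.span_singleton_le_iff_mem]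
      exact v0.2
  have hv0' : (v0 : V) ≠ 0 := fun h1 => hv0 (Subtype.ext h1)
  choose a ha ha1 ha2 using fun i => exists_TE_eq (ρ := ρ) R hd i
  have hx : ∀ i, Tq R ρ i 1 (v0 : V) = (a i * (qq X i : ℂ)⁻¹) • (v0 : V) := by
    intro i
    rw [Tq_apply R (by rw [hE]; exact v0.2), show lamB R (1 : T →* ℂˣ) = 1 from MonoidHom.one_comp _]
    have h1 := congrArg Subtype.val (ha i v0)
    rw [coe_TE, Submodule.coe_smul] at h1
    change av ρ (RGD.B cs h T X) (ρ (n i) (v0 : V)) = _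
    rw [mul_comm, mul_smul, ← h1, smul_smul, inv_mul_cancel₀ (qq_ne (X := X) i), one_smul]
  obtain ⟨ψ, h1, h2, h3⟩ := degree R hG hρ (l := 1) (fun i g _ s t _ => rfl) hv0' hE' hx
  refine ⟨ψ, h1, fun i w hw => ?_, ?_⟩
  · rw [h2 i w hw]
    congr 1
    have hqi := qq_ne (X := X) i
    rw [MonoidHom.one_apply, inv_one, Units.val_one, mul_one]
    unfold yv
    by_cases h4 : finrank ℂ (fx ρ (PJ cs h T X {i})) = 0
    · rw [if_pos h4, ha1 i h4]
      field_simp
    · rw [if_neg h4, ha2 i h4]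
      field_simp
  · rw [← h3]
    congr 1
    change _ = LinearMap.trace ℂ V (ρ 1)
    rw [map_one, LinearMap.trace_one]

/-- **the degree if `dim V^B = 1`, type `B_m`** -/
theorem deg_B (hG : GG cs h T X = ⊤) (hρ : ρ.IsIrreducible) (hd : finrank ℂ (fx ρ (RGD.B cs h T X)) = 1) {m : ℕ}
    (hm : 0 < m) {e : Fin m ≃ I} (hB : TypeB M e) {q q' : ℕ}
    (hq : ∀ i : Fin m, (i : ℕ) + 1 < m → qq X (e i) = q) (hq' : ∀ i : Fin m, (i : ℕ) + 1 = m → qq X (e i) = q')
    {y z : ℂ} (hy : ∀ i : Fin m, (i : ℕ) + 1 < m → yv cs h T X ρ (e i) = y)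
    (hz : ∀ i : Fin m, (i : ℕ) + 1 = m → yv cs h T X ρ (e i) = z) :
    (finrank ℂ V : ℂ) * ∏ i ∈ Finset.range m, gs y (i + 1) * (1 + y ^ i * z) =
      ∏ i ∈ Finset.range m, gs (q : ℂ) (i + 1) * (1 + (q : ℂ) ^ i * q') := by
  classical
  have : Fintype W := Fintype.ofFinite W
  obtain ⟨ψ, h1, h2, h3⟩ := deg_lin R hG hρ hd
  have hmod : ∀ t < m, t % m = t := fun t ht => Nat.mod_eq_of_lt ht
  have hodd : ∀ i j, Odd (M i j) → yv cs h T X ρ i = yv cs h T X ρ j := by
    intro i j hij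
    by_cases hne : i = j
    · rw [hne]
    · rcases h.rel i j hne with h4 | h4 | h4 | h4
      · rw [h4.1] at hij; exact absurd hij (by decide)
      · exact yv_eq_of_three R hd h4.1
      · rw [h4.1] at hij; exact absurd hij (by decide)
      · rw [h4.1] at hij; exact absurd hij (by decide)
  have h4 := sum_psi cs h hodd h1 h2 (hB.bpath h hm)
    (fun i => ⟨e.symm i, (e.symm i).2, by
      have : (⟨(e.symm i : ℕ) % m, Nat.mod_lt _ hm⟩ : Fin m) = e.symm i := Fin.ext (hmod _ (e.symm i).2)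
      change e ⟨(e.symm i : ℕ) % m, Nat.mod_lt _ hm⟩ = i
      rw [this, Equiv.apply_symm_apply]⟩) (a := y) (b := z)
    (fun t ht => hy _ (by change t % m + 1 < m; rw [hmod t (by omega)]; exact ht))
    (fun t ht => hz _ (by change t % m + 1 = m; rw [hmod t (by omega)]; exact ht))
  have h5 := card_PJ_bpath R (hB.bpath h hm) (y := q) (z := q')
    (fun t ht => hq _ (by change t % m + 1 < m; rw [hmod t (by omega)]; exact ht))
    (fun t ht => hq' _ (by change t % m + 1 = m; rw [hmod t (by omega)]; exact ht))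
  have h6 : (Set.univ : Set I) \ {j | ∃ t < m, e ⟨t % m, Nat.mod_lt _ hm⟩ = j} = ∅ := by
    rw [Set.eq_empty_iff_forall_notMem]
    rintro j ⟨-, h7⟩
    refine h7 ⟨e.symm j, (e.symm j).2, ?_⟩
    have : (⟨(e.symm j : ℕ) % m, Nat.mod_lt _ hm⟩ : Fin m) = e.symm j := Fin.ext (hmod _ (e.symm j).2)
    rw [this, Equiv.apply_symm_apply]
  rw [h6, Cfsg.Agent.H35.Poin.PJ_empty, Cfsg.Agent.H554.RG.PJ_univ R hG] at h5
  have h7 : Nat.card ↥(⊤ : Subgroup Y) = Nat.card Y := Subgroup.card_top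
  rw [h7] at h5
  rw [h4, h5] at h3
  have hB0 : (Nat.card (RGD.B cs h T X) : ℂ) ≠ 0 := by
    have : 0 < Nat.card (RGD.B cs h T X) := Nat.card_pos
    exact_mod_cast this.ne'
  apply mul_left_cancel₀ hB0
  have h8 : ((∏ i ∈ Finset.range m, gs q (i + 1) * (1 + q ^ i * q') : ℕ) : ℂ) =
      ∏ i ∈ Finset.range m, gs (q : ℂ) (i + 1) * (1 + (q : ℂ) ^ i * q') := by
    push_cast
    refine Finset.prod_congr rfl fun i _ => ?_
    congr 1
    unfold gs
    push_cast
    rfl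
  rw [← h8, mul_left_comm, h3]
  push_cast
  ring

/-- **the mixed linear case, type `B_m`** -/
theorem mixed (hG : GG cs h T X = ⊤) (hρ : ρ.IsIrreducible) (hd : finrank ℂ (fx ρ (RGD.B cs h T X)) = 1) {m : ℕ}
    (hm : 0 < m) {e : Fin m ≃ I} (hB : TypeB M e) {q : ℕ} (hq : ∀ i, qq X i = q)
    (h0 : ∀ i : Fin m, (i : ℕ) + 1 < m → finrank ℂ (fx ρ (PJ cs h T X {e i})) = 0)
    (h1 : ∀ i : Fin m, (i : ℕ) + 1 = m → finrank ℂ (fx ρ (PJ cs h T X {e i})) ≠ 0) :
    (finrank ℂ V : ℂ) * ∏ i ∈ Finset.range m, gs (q : ℂ)⁻¹ (i + 1) * (1 + ((q : ℂ)⁻¹) ^ i * q) =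
      ∏ i ∈ Finset.range m, gs (q : ℂ) (i + 1) * (1 + (q : ℂ) ^ i * q) := by
  refine deg_B R hG hρ hd hm hB (fun i _ => hq _) (fun i _ => hq _) (fun i hi => ?_) (fun i hi => ?_)
  · unfold yv
    rw [if_pos (h0 i hi), hq]
  · unfold yv
    rw [if_neg (h1 i hi), hq]

/-- type `B_3`/`C_3` -/
theorem mixed_three (hG : GG cs h T X = ⊤) (hρ : ρ.IsIrreducible) {e : Fin 3 ≃ I} (hB : TypeB M e) {q : ℕ}
    (hq : ∀ i, qq X i = q) (hd : finrank ℂ (fx ρ (RGD.B cs h T X)) = 1)
    (h0 : finrank ℂ (fx ρ (PJ cs h T X {e 0})) = 0) (h1 : finrank ℂ (fx ρ (PJ cs h T X {e 1})) = 0)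
    (h2 : finrank ℂ (fx ρ (PJ cs h T X {e 2})) = 1) :
    finrank ℂ V * (2 * (1 + q)) = q ^ 4 * (1 + q ^ 2) * (1 + q ^ 3) := by
  have hq0 : (q : ℂ) ≠ 0 := by rw [← hq (e 0)]; exact qq_ne (X := X) (e 0)
  have h3 := mixed R hG hρ hd (by norm_num) hB hq
    (fun i hi => by fin_cases i <;> [exact h0; exact h1; exact absurd hi (by decide)])
    (fun i hi => by
      fin_cases i <;> [exact absurd hi (by decide); exact absurd hi (by decide); exact (by change finrank ℂ (fx ρ (PJ cs h T X {e 2})) ≠ 0; rw [h2]; norm_num)])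
  simp only [Finset.prod_range_succ, Finset.prod_range_zero, gs, Finset.sum_range_succ, Finset.sum_range_zero] at h3
  have hq1 : (1 + q : ℂ) ≠ 0 := by
    have : ((1 + q : ℕ) : ℂ) ≠ 0 := Nat.cast_ne_zero.2 (by omega)
    simpa only [_root_.ne_eq, _root_.Nat.cast_add, _root_.Nat.cast_one] using this
  have hq2 : (1 + q + q ^ 2 : ℂ) ≠ 0 := by
    have : ((1 + q + q ^ 2 : ℕ) : ℂ) ≠ 0 := Nat.cast_ne_zero.2 (by omega)
    simpa only [_root_.ne_eq, _root_.Nat.cast_add, _root_.Nat.cast_one, _root_.Nat.cast_pow] using this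
  have h4 : (finrank ℂ V : ℂ) * (2 * (1 + q)) = q ^ 4 * (1 + q ^ 2) * (1 + q ^ 3) := by
    apply mul_left_cancel₀ (mul_ne_zero hq1 hq2)
    field_simp at h3
    linear_combination h3
  exact_mod_cast h4

/-- type `B_4`/`C_4` -/
theorem mixed_four (hG : GG cs h T X = ⊤) (hρ : ρ.IsIrreducible) {e : Fin 4 ≃ I} (hB : TypeB M e) {q : ℕ}
    (hq : ∀ i, qq X i = q) (hd : finrank ℂ (fx ρ (RGD.B cs h T X)) = 1)
    (h0 : finrank ℂ (fx ρ (PJ cs h T X {e 0})) = 0) (h1 : finrank ℂ (fx ρ (PJ cs h T X {e 1})) = 0)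
    (h2 : finrank ℂ (fx ρ (PJ cs h T X {e 2})) = 0) (h3 : finrank ℂ (fx ρ (PJ cs h T X {e 3})) = 1) :
    finrank ℂ V * (2 * (1 + q)) = q ^ 9 * (1 + q ^ 3) * (1 + q ^ 4) := by
  have hq0 : (q : ℂ) ≠ 0 := by rw [← hq (e 0)]; exact qq_ne (X := X) (e 0)
  have h5 := mixed R hG hρ hd (by norm_num) hB hq
    (fun i hi => by fin_cases i <;> [exact h0; exact h1; exact h2; exact absurd hi (by decide)])
    (fun i hi => by
      fin_cases i <;> [exact absurd hi (by decide); exact absurd hi (by decide); exact absurd hi (by decide);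
        exact (by change finrank ℂ (fx ρ (PJ cs h T X {e 3})) ≠ 0; rw [h3]; norm_num)])
  simp only [Finset.prod_range_succ, Finset.prod_range_zero, gs, Finset.sum_range_succ, Finset.sum_range_zero] at h5
  have hq1 : (1 + q : ℂ) ≠ 0 := by
    have : ((1 + q : ℕ) : ℂ) ≠ 0 := Nat.cast_ne_zero.2 (by omega)
    simpa only [_root_.ne_eq, _root_.Nat.cast_add, _root_.Nat.cast_one] using this
  have hq2 : (1 + q + q ^ 2 : ℂ) ≠ 0 := by
    have : ((1 + q + q ^ 2 : ℕ) : ℂ) ≠ 0 := Nat.cast_ne_zero.2 (by omega)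
    simpa only [_root_.ne_eq, _root_.Nat.cast_add, _root_.Nat.cast_one, _root_.Nat.cast_pow] using this
  have hq3 : (1 + q ^ 2 : ℂ) ≠ 0 := by
    have : ((1 + q ^ 2 : ℕ) : ℂ) ≠ 0 := Nat.cast_ne_zero.2 (by omega)
    simpa only [_root_.ne_eq, _root_.Nat.cast_add, _root_.Nat.cast_one, _root_.Nat.cast_pow] using this
  have hq4 : (1 + q + q ^ 2 + q ^ 3 : ℂ) ≠ 0 := by
    have : ((1 + q + q ^ 2 + q ^ 3 : ℕ) : ℂ) ≠ 0 := Nat.cast_ne_zero.2 (by omega)
    simpa only [_root_.ne_eq, _root_.Nat.cast_add, _root_.Nat.cast_one, _root_.Nat.cast_pow] using this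
  have h4 : (finrank ℂ V : ℂ) * (2 * (1 + q)) = q ^ 9 * (1 + q ^ 3) * (1 + q ^ 4) := by
    apply mul_left_cancel₀ (mul_ne_zero (mul_ne_zero (mul_ne_zero hq1 hq2) hq3) hq4)
    field_simp at h5
    linear_combination h5
  exact_mod_cast h4

end

/-- the final step: `r ∣ χ(1)` -/
theorem dvd_of_mul {d a b r : ℕ} (hr : r.Prime) (h : d * (2 * a) = b) (h2 : ¬ r ∣ 2 * a) (hb : r ∣ b) : r ∣ d := by
  rw [← h] at hb
  exact (hr.dvd_mul.1 hb).resolve_right h2

end Cfsg.Agent.H639.OZ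
end

-- part: H639/OZ/EndB
section
/-!
# S4842: the end of the middle case `x = 2 n` for `PSp_6`, `Ω_7`, `PSp_8`, `Ω_9` (helper639)

`V^B ≠ 0`, `∑ dim V^{P_i} = dim V^B`, `χ ≠ 0` on one elliptic element of each of `A_{n-1}`, `A_{n-2} × end`:

* `deg_three`, `deg_four` : the degree; `2 (1 + q) χ(1) = q^4 (1 + q²) (1 + q³)`, `2 (1 + q) χ(1) = q^9 (1 + q³) (1 + q⁴)`;
* `typeB_refl` : `CoxeterMatrix.B m`;
* `deg_three_B`, `deg_four_B` : `M = CoxeterMatrix.B m`, `J = {i}ᶜ`.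
-/

set_option autoImplicit false
set_option linter.unusedSectionVars false

open Cfsg

namespace Cfsg.Agent.H639.OZ

open CoxeterSystem Cfsg.Agent.ChevalleyStructure.CoxeterGeom Cfsg.Agent.Tits.Roots Cfsg.Agent.Tits.Core
  Cfsg.Agent.Tits.Exchange Cfsg.Agent.Nodes.Reps Cfsg.Agent.Nodes.BNOf Cfsg.Agent.Nodes.StabComb
  Cfsg.Agent.Nodes.Bruhat Cfsg.Agent.Nodes.OppDec Cfsg.Agent.Nodes.LeviDec Cfsg.Agent.H985.VZ Module
  Cfsg.Agent.H200.VZ Cfsg.Agent.H898.VZ Cfsg.Agent.H644.OZ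

universe u v

section

variable {I W : Type*} {Y : Type u} [Fintype I] [DecidableEq I] [Group W] [Group Y] {M : CoxeterMatrix I}
  {cs : CoxeterSystem M W} {A : I → I → ℤ} {h : IsCartan M A} {p : ℕ} {T : Subgroup Y} {n : I → Y}
  {X : (I → ℤ) → Subgroup Y} {V : Type v} [AddCommGroup V] [Module ℂ V] {ρ : Representation ℂ Y V}
  (R : RGD cs h p T n X) [Finite W] [Finite Y] [FiniteDimensional ℂ V]

include R

/-- **type `B_3`/`C_3`** -/
theorem deg_three (hG : GG cs h T X = ⊤) (hρ : ρ.IsIrreducible) (h0 : fx ρ (RGD.B cs h T X) ≠ ⊥)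
    {e : Fin 3 ≃ I} (hB : TypeB M e) {q : ℕ} (hq : ∀ i, qq X i = q)
    (hdet : ∑ i, finrank ℂ (fx ρ (PJ cs h T X {i})) = finrank ℂ (fx ρ (RGD.B cs h T X)))
    {t t' : Y} (ht : Ell cs h T X {e 0, e 1} t) (hχ : ρ.character t ≠ 0)
    (ht' : Ell cs h T X {e 0, e 2} t') (hχ' : ρ.character t' ≠ 0) :
    finrank ℂ V * (2 * (1 + q)) = q ^ 4 * (1 + q ^ 2) * (1 + q ^ 3) := by
  have hA11 : ∀ i j : Fin 2 × Fin 2, (nd cs ({e 0} ∪ {e 2})
      (((![∅, {e 0}] : Fin 2 → Set I) i.1) ∪ (![∅, {e 2}] : Fin 2 → Set I) i.2)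
      (((![∅, {e 0}] : Fin 2 → Set I) j.1) ∪ (![∅, {e 2}] : Fin 2 → Set I) j.2) : ℤ) =
        gA1 i.1 j.1 * gA1 i.2 j.2 := by
    intro i j
    have hs : ∀ (a : I) (k : Fin 2), (![∅, {a}] : Fin 2 → Set I) k ⊆ {a} := by
      intro a k
      fin_cases k <;> simp
    rw [nd_prod cs (J := {e 0}) (J' := {e 2}) ?_ (hs _ _) (hs _ _) (hs _ _) (hs _ _)]
    · push_cast
      rw [nd_A1 cs h, nd_A1 cs h]
    · rintro _ rfl _ rfl
      exact hB.two 0 2 (by decide)
  rcases end_three R hG hρ h0 e hB hdet (nd_A2 cs h (hB.three 0 1 rfl (by decide))) hA11 with h1 | h1 | h1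
  · exact mixed_three R hG hρ hB hq h1.1 h1.2.1 h1.2.2.1 h1.2.2.2
  · exact absurd (h1 t' ht') hχ'
  · exact absurd (h1 t ht) hχ

/-- **type `B_4`/`C_4`** -/
theorem deg_four (hG : GG cs h T X = ⊤) (hρ : ρ.IsIrreducible) (h0 : fx ρ (RGD.B cs h T X) ≠ ⊥)
    {e : Fin 4 ≃ I} (hB : TypeB M e) {q : ℕ} (hq : ∀ i, qq X i = q)
    (hdet : ∑ i, finrank ℂ (fx ρ (PJ cs h T X {i})) = finrank ℂ (fx ρ (RGD.B cs h T X)))
    {t t' : Y} (ht : Ell cs h T X {e 0, e 1, e 2} t) (hχ : ρ.character t ≠ 0)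
    (ht' : Ell cs h T X {e 0, e 1, e 3} t') (hχ' : ρ.character t' ≠ 0) :
    finrank ℂ V * (2 * (1 + q)) = q ^ 9 * (1 + q ^ 3) * (1 + q ^ 4) := by
  have hA21 : ∀ i j : Fin 3 × Fin 2, (nd cs ({e 0, e 1} ∪ {e 3})
      (((![∅, {e 0}, {e 0, e 1}] : Fin 3 → Set I) i.1) ∪ (![∅, {e 3}] : Fin 2 → Set I) i.2)
      (((![∅, {e 0}, {e 0, e 1}] : Fin 3 → Set I) j.1) ∪ (![∅, {e 3}] : Fin 2 → Set I) j.2) : ℤ) =
        gA2 i.1 j.1 * gA1 i.2 j.2 := by
    intro i j
    have hs : ∀ (a : I) (k : Fin 2), (![∅, {a}] : Fin 2 → Set I) k ⊆ {a} := by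
      intro a k
      fin_cases k <;> simp
    have hs' : ∀ (a b : I) (k : Fin 3), (![∅, {a}, {a, b}] : Fin 3 → Set I) k ⊆ {a, b} := by
      intro a b k
      fin_cases k
      · exact Set.empty_subset _
      · exact fun x hx => Or.inl hx
      · exact subset_rfl
    rw [nd_prod cs (J := {e 0, e 1}) (J' := {e 3}) ?_ (hs' _ _ _) (hs' _ _ _) (hs _ _) (hs _ _)]
    · push_cast
      rw [nd_A2 cs h (hB.three 0 1 rfl (by decide)), nd_A1 cs h]
    · rintro x (rfl | rfl) _ rfl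
      · exact hB.two 0 3 (by decide)
      · exact hB.two 1 3 (by decide)
  have hu : ({e 0, e 1} ∪ {e 3} : Set I) = {e 0, e 1, e 3} := by
    rw [Set.insert_union, Set.singleton_union]
  rcases end_four R hG hρ h0 e hB hdet
    (nd_A3 cs h (hB.three 0 1 rfl (by decide)) (hB.three 1 2 rfl (by decide)) (hB.two 0 2 (by decide))) hA21 with
    h1 | h1 | h1
  · exact mixed_four R hG hρ hB hq h1.1 h1.2.1 h1.2.2.1 h1.2.2.2.1 h1.2.2.2.2
  · exact absurd (h1 t' (by rw [hu]; exact ht')) hχ'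
  · exact absurd (h1 t ht) hχ

end

/-- the Coxeter matrix of type `B_m` -/
theorem typeB_refl (m : ℕ) : TypeB (CoxeterMatrix.B m) (Equiv.refl (Fin m)) where
  two i j hij := by
    have hne : i ≠ j := fun e => by rw [e] at hij; omega
    change (if i = j then 1 else if (i : ℕ) = m - 1 ∧ (j : ℕ) = m - 2 ∨ (j : ℕ) = m - 1 ∧ (i : ℕ) = m - 2 then 4
      else (if (j : ℕ) + 1 = i ∨ (i : ℕ) + 1 = j then 3 else 2)) = 2
    rw [if_neg hne, if_neg (by omega), if_neg (by omega)]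
  three i j hij hi := by
    have hne : i ≠ j := fun e => by rw [e] at hij; omega
    change (if i = j then 1 else if (i : ℕ) = m - 1 ∧ (j : ℕ) = m - 2 ∨ (j : ℕ) = m - 1 ∧ (i : ℕ) = m - 2 then 4
      else (if (j : ℕ) + 1 = i ∨ (i : ℕ) + 1 = j then 3 else 2)) = 3
    rw [if_neg hne, if_neg (by omega), if_pos (by omega)]
  four i j hij hi := by
    have hne : i ≠ j := fun e => by rw [e] at hij; omega
    change (if i = j then 1 else if (i : ℕ) = m - 1 ∧ (j : ℕ) = m - 2 ∨ (j : ℕ) = m - 1 ∧ (i : ℕ) = m - 2 then 4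
      else (if (j : ℕ) + 1 = i ∨ (i : ℕ) + 1 = j then 3 else 2)) = 4
    rw [if_neg hne, if_pos (by omega)]

section

variable {W : Type*} {Y : Type u} [Group W] [Group Y] [Finite W] [Finite Y] {p : ℕ} {T : Subgroup Y}
  {V : Type v} [AddCommGroup V] [Module ℂ V] {ρ : Representation ℂ Y V} [FiniteDimensional ℂ V]

/-- `M = CoxeterMatrix.B 3` -/
theorem deg_three_B {cs : CoxeterSystem (CoxeterMatrix.B 3) W} {A : Fin 3 → Fin 3 → ℤ}
    {h : IsCartan (CoxeterMatrix.B 3) A} {n : Fin 3 → Y} {X : (Fin 3 → ℤ) → Subgroup Y} (R : RGD cs h p T n X)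
    (hG : GG cs h T X = ⊤) (hρ : ρ.IsIrreducible) (h0 : fx ρ (RGD.B cs h T X) ≠ ⊥) {q : ℕ} (hq : ∀ i, qq X i = q)
    (hdet : ∑ i, finrank ℂ (fx ρ (PJ cs h T X {i})) = finrank ℂ (fx ρ (RGD.B cs h T X)))
    {t t' : Y} (ht : Ell cs h T X {2}ᶜ t) (hχ : ρ.character t ≠ 0)
    (ht' : Ell cs h T X {1}ᶜ t') (hχ' : ρ.character t' ≠ 0) :
    finrank ℂ V * (2 * (1 + q)) = q ^ 4 * (1 + q ^ 2) * (1 + q ^ 3) := by
  have e1 : ({2}ᶜ : Set (Fin 3)) = {(Equiv.refl (Fin 3)) 0, (Equiv.refl (Fin 3)) 1} := by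
    ext i
    (revert i; simp only [_root_.Fin.forall_fin_succ, Fin.isValue, _root_.Set.mem_compl_iff, _root_.Set.mem_singleton_iff, _root_.Equiv.refl_apply, _root_.Set.mem_insert_iff, Fin.reduceEq, _root_.not_false_eq_true, _root_.zero_ne_one, _root_.or_false, _root_.Fin.succ_ne_zero, _root_.false_or, _root_.Fin.succ_zero_eq_one, _root_.Fin.succ_one_eq_two, _root_.not_true_eq_false, _root_.IsEmpty.forall_iff, _root_.and_self])
  have e2 : ({1}ᶜ : Set (Fin 3)) = {(Equiv.refl (Fin 3)) 0, (Equiv.refl (Fin 3)) 2} := by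
    ext i
    (revert i; simp only [_root_.Fin.forall_fin_succ, Fin.isValue, _root_.Set.mem_compl_iff, _root_.Set.mem_singleton_iff, _root_.Equiv.refl_apply, _root_.Set.mem_insert_iff, _root_.zero_ne_one, _root_.not_false_eq_true, Fin.reduceEq, _root_.or_false, _root_.Fin.succ_ne_zero, _root_.false_or, _root_.Fin.succ_zero_eq_one, _root_.not_true_eq_false, _root_.Fin.succ_one_eq_two, _root_.IsEmpty.forall_iff, _root_.and_self])
  exact deg_three R hG hρ h0 (typeB_refl 3) hq hdet (e1 ▸ ht) hχ (e2 ▸ ht') hχ'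

/-- `M = CoxeterMatrix.B 4` -/
theorem deg_four_B {cs : CoxeterSystem (CoxeterMatrix.B 4) W} {A : Fin 4 → Fin 4 → ℤ}
    {h : IsCartan (CoxeterMatrix.B 4) A} {n : Fin 4 → Y} {X : (Fin 4 → ℤ) → Subgroup Y} (R : RGD cs h p T n X)
    (hG : GG cs h T X = ⊤) (hρ : ρ.IsIrreducible) (h0 : fx ρ (RGD.B cs h T X) ≠ ⊥) {q : ℕ} (hq : ∀ i, qq X i = q)
    (hdet : ∑ i, finrank ℂ (fx ρ (PJ cs h T X {i})) = finrank ℂ (fx ρ (RGD.B cs h T X)))
    {t t' : Y} (ht : Ell cs h T X {3}ᶜ t) (hχ : ρ.character t ≠ 0)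
    (ht' : Ell cs h T X {2}ᶜ t') (hχ' : ρ.character t' ≠ 0) :
    finrank ℂ V * (2 * (1 + q)) = q ^ 9 * (1 + q ^ 3) * (1 + q ^ 4) := by
  have e1 : ({3}ᶜ : Set (Fin 4)) = {(Equiv.refl (Fin 4)) 0, (Equiv.refl (Fin 4)) 1, (Equiv.refl (Fin 4)) 2} := by
    ext i
    (revert i; simp only [_root_.Fin.forall_fin_succ, Fin.isValue, _root_.Set.mem_compl_iff, _root_.Set.mem_singleton_iff, _root_.Equiv.refl_apply, _root_.Set.mem_insert_iff, Fin.reduceEq, _root_.not_false_eq_true, _root_.zero_ne_one, _root_.or_self, _root_.or_false, _root_.Fin.succ_ne_zero, _root_.false_or, _root_.Fin.succ_zero_eq_one, _root_.Fin.succ_one_eq_two, _root_.or_true, Fin.reduceSucc, _root_.not_true_eq_false, _root_.IsEmpty.forall_iff, _root_.and_self])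
  have e2 : ({2}ᶜ : Set (Fin 4)) = {(Equiv.refl (Fin 4)) 0, (Equiv.refl (Fin 4)) 1, (Equiv.refl (Fin 4)) 3} := by
    ext i
    (revert i; simp only [_root_.Fin.forall_fin_succ, Fin.isValue, _root_.Set.mem_compl_iff, _root_.Set.mem_singleton_iff, _root_.Equiv.refl_apply, _root_.Set.mem_insert_iff, Fin.reduceEq, _root_.not_false_eq_true, _root_.zero_ne_one, _root_.or_self, _root_.or_false, _root_.Fin.succ_ne_zero, _root_.false_or, _root_.Fin.succ_zero_eq_one, _root_.Fin.succ_one_eq_two, _root_.not_true_eq_false, Fin.reduceSucc, _root_.or_true, _root_.IsEmpty.forall_iff, _root_.and_self])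
  exact deg_four R hG hρ h0 (typeB_refl 4) hq hdet (e1 ▸ ht) hχ (e2 ▸ ht') hχ'

end

end Cfsg.Agent.H639.OZ
end

-- part: H639/OZ/EndC
section
/-!
# S4842: `PSp_6`, `Ω_7`, `PSp_8`, `Ω_9`: no character with `x = 2 n` and `V^B ≠ 0` (helper639)

* `word_cert` : a reduced word from the numbers game;
* `word_three`, `word_four` : `w0 = (s_0 s_1 ⋯ s_{n-1})^n` in type `B_n`, `n = 3, 4`;
* `hdet_three`, `hdet_four` : `∑ dim V^{P_i} = dim V^B` from the determinant formula;
* `no_mid_three`, `no_mid_four` : contradiction.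
-/

set_option autoImplicit false
set_option linter.unusedSectionVars false

open Cfsg

namespace Cfsg.Agent.H639.OZ

open CoxeterSystem Cfsg.Agent.ChevalleyStructure.CoxeterGeom Cfsg.Agent.Tits.Roots Cfsg.Agent.Tits.Core
  Cfsg.Agent.Tits.Exchange Cfsg.Agent.Nodes.Reps Cfsg.Agent.Nodes.BNOf Cfsg.Agent.Nodes.StabComb
  Cfsg.Agent.Nodes.Bruhat Cfsg.Agent.Nodes.OppDec Cfsg.Agent.Nodes.LeviDec Cfsg.Agent.H985.VZ Module
  Cfsg.Agent.H200.VZ Cfsg.Agent.H898.VZ Cfsg.Agent.H644.OZ Cfsg.Agent.H694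

universe u v

section words

variable {I W : Type*} [Fintype I] [DecidableEq I] [Group W] [Finite W] {M : CoxeterMatrix I}
  (cs : CoxeterSystem M W) {A : I → I → ℤ} (h : IsCartan M A)

include h in
/-- an element with all right descents is the longest element -/
theorem eq_w0_of_descents {w : W} (hw : ∀ i, ¬ cs.length w < cs.length (w * cs.simple i)) : w = w0 cs := by
  by_contra hne
  have h1 : w0 cs * w ≠ 1 := by
    intro h2
    apply hne
    have h3 := eq_inv_of_mul_eq_one_right h2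
    rw [h3, w0_inv]
  obtain ⟨i, hi⟩ := cs.exists_rightDescent_of_ne_one h1
  have hi' : cs.length (w0 cs * w * cs.simple i) < cs.length (w0 cs * w) := hi
  have h2 := length_w0_mul (cs := cs) (w * cs.simple i)
  have h3 := length_w0_mul (cs := cs) w
  rw [← mul_assoc] at h2
  exact hw i (by omega)

/-- a reduced word from the numbers game -/
theorem word_cert {N : ℕ} (w : ℕ → I) (st : ℕ → I → ℤ) (h0 : ∀ j, st 0 j = 1) (hpos : ∀ t < N, 0 < st t (w t))
    (hst : ∀ t < N, ∀ j, st (t + 1) j = st t j - A (w t) j * st t (w t)) :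
    cs.length (cs.wordProd ((List.range N).map w)) = N ∧
      mv cs h (cs.wordProd ((List.range N).map w)) (fun _ => 1) = st N := by
  induction N with
  | zero =>
    rw [List.range_zero, List.map_nil, wordProd_nil, cs.length_one, Cfsg.Agent.H694.mv_one]
    exact ⟨rfl, funext fun j => (h0 j).symm⟩
  | succ N ih =>
    obtain ⟨h1, h2⟩ := ih (fun t ht => hpos t (by omega)) (fun t ht => hst t (by omega))
    have h3 : cs.wordProd ((List.range (N + 1)).map w) = cs.wordProd ((List.range N).map w) * cs.simple (w N) := by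
      rw [List.range_succ, List.map_append, wordProd_append, List.map_singleton, wordProd_singleton]
    rw [h3]
    constructor
    · have h4 : cs.length (cs.wordProd ((List.range N).map w)) <
          cs.length (cs.wordProd ((List.range N).map w) * cs.simple (w N)) := by
        rw [lt_iff_mv cs h, h2]
        exact (hpos N (by omega)).le
      rcases cs.length_mul_simple (cs.wordProd ((List.range N).map w)) (w N) with h5 | h5
      · omega
      · omega
    · rw [mv_mul, h2, mv_simple]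
      exact funext fun j => (hst N (by omega) j).symm

include h in
theorem word_w0 {N : ℕ} (w : ℕ → I) (st : ℕ → I → ℤ) (h0 : ∀ j, st 0 j = 1) (hpos : ∀ t < N, 0 < st t (w t))
    (hst : ∀ t < N, ∀ j, st (t + 1) j = st t j - A (w t) j * st t (w t)) (hN : ∀ j, st N j < 0) :
    cs.IsReduced ((List.range N).map w) ∧ cs.wordProd ((List.range N).map w) = w0 cs := by
  obtain ⟨h1, h2⟩ := word_cert cs h w st h0 hpos hst
  refine ⟨?_, eq_w0_of_descents cs h fun i hi => ?_⟩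
  · unfold CoxeterSystem.IsReduced
    rw [h1, List.length_map, List.length_range]
  · rw [lt_iff_mv cs h, h2] at hi
    exact absurd hi (not_le.2 (hN i))

end words

/-- a Cartan matrix of type `C_3` -/
def cart3 : Fin 3 → Fin 3 → ℤ := ![![2, -1, 0], ![-1, 2, -1], ![0, -2, 2]]

theorem isCartan3 : IsCartan (CoxeterMatrix.B 3) cart3 := ⟨by decide, by intro i j hij; fin_cases i <;> fin_cases j <;> first | exact absurd rfl hij | decide⟩

/-- a Cartan matrix of type `C_4` -/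
def cart4 : Fin 4 → Fin 4 → ℤ := ![![2, -1, 0, 0], ![-1, 2, -1, 0], ![0, -1, 2, -1], ![0, 0, -2, 2]]

theorem isCartan4 : IsCartan (CoxeterMatrix.B 4) cart4 := ⟨by decide, by intro i j hij; fin_cases i <;> fin_cases j <;> first | exact absurd rfl hij | decide⟩

def let3 (t : ℕ) : Fin 3 := ⟨t % 3, Nat.mod_lt _ (by norm_num)⟩

def let4 (t : ℕ) : Fin 4 := ⟨t % 4, Nat.mod_lt _ (by norm_num)⟩

def st3 (t : ℕ) : Fin 3 → ℤ :=
  (![![1, 1, 1], ![-1, 2, 1], ![1, -2, 3], ![1, 4, -3], ![-1, 5, -3], ![4, -5, 2], ![4, -1, -2], ![-4, 3, -2],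
    ![-1, -3, 1], ![-1, -1, -1]] : Fin 10 → Fin 3 → ℤ) (Fin.ofNat 10 t)

def st4 (t : ℕ) : Fin 4 → ℤ :=
  (![![1, 1, 1, 1], ![-1, 2, 1, 1], ![1, -2, 3, 1], ![1, 1, -3, 4], ![1, 1, 5, -4], ![-1, 2, 5, -4], ![1, -2, 7, -4],
    ![1, 5, -7, 3], ![1, 5, -1, -3], ![-1, 6, -1, -3], ![5, -6, 5, -3], ![5, -1, -5, 2], ![5, -1, -1, -2],
    ![-5, 4, -1, -2], ![-1, -4, 3, -2], ![-1, -1, -3, 1], ![-1, -1, -1, -1]] : Fin 17 → Fin 4 → ℤ) (Fin.ofNat 17 t)

section

variable {W : Type*} [Group W] [Finite W]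

theorem word_three (cs : CoxeterSystem (CoxeterMatrix.B 3) W) :
    cs.IsReduced ((List.range 9).map let3) ∧ cs.wordProd ((List.range 9).map let3) = w0 cs :=
  word_w0 cs isCartan3 let3 st3 (by decide) (by decide) (by decide +kernel) (by decide)

theorem word_four (cs : CoxeterSystem (CoxeterMatrix.B 4) W) :
    cs.IsReduced ((List.range 16).map let4) ∧ cs.wordProd ((List.range 16).map let4) = w0 cs :=
  word_w0 cs isCartan4 let4 st4 (by decide) (by decide) (by decide +kernel) (by decide)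

theorem count_three : ∀ i, ((List.range 9).map let3).count i = 3 := by decide

theorem count_four : ∀ i, ((List.range 16).map let4).count i = 4 := by decide

end

section

variable {W : Type*} {Y : Type u} [Group W] [Group Y] [Finite W] [Finite Y] {p : ℕ} {T : Subgroup Y}
  {V : Type v} [AddCommGroup V] [Module ℂ V] {ρ : Representation ℂ Y V} [FiniteDimensional ℂ V]

theorem hdet_aux {N a d S m : ℕ} (hN : 0 < N) (ha : 0 < a) (hm : m = 2 * N * a) (h1 : m * d = 2 * (N * (a * S))) :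
    S = d := by
  have h2 : 0 < 2 * N * a := by positivity
  refine Nat.eq_of_mul_eq_mul_left h2 ?_
  rw [← hm, h1, hm]
  ring

/-- `M = CoxeterMatrix.B 3` -/
theorem hdet_three {cs : CoxeterSystem (CoxeterMatrix.B 3) W} {A : Fin 3 → Fin 3 → ℤ}
    {h : IsCartan (CoxeterMatrix.B 3) A} {n : Fin 3 → Y} {X : (Fin 3 → ℤ) → Subgroup Y} (R : RGD cs h p T n X)
    (hp : p.Prime) (hG : GG cs h T X = ⊤) (hρ : ρ.IsIrreducible) (h0 : fx ρ (RGD.B cs h T X) ≠ ⊥)
    {m : ℕ} {e : ℤ} (he : e = 1 ∨ e = -1)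
    (hS : ∑ᶠ g ∈ Cfsg.Agent.H730.OZ.pSet p Y, ρ.character g = (e : ℂ) * (p : ℂ) ^ m * ρ.character 1)
    {a : ℕ} (ha : 0 < a) (hq : ∀ i, qq X i = p ^ a) (hm : m = 2 * 3 * a) :
    ∑ i, finrank ℂ (fx ρ (PJ cs h T X {i})) = finrank ℂ (fx ρ (RGD.B cs h T X)) := by
  have h1 := (Cfsg.Agent.H695.OneZero.Det.det_formula_count R hp hG hρ h0 he hS (a := fun _ => a) hq).2 _
    (word_three cs).1 (word_three cs).2
  simp only [count_three, ← Finset.mul_sum] at h1
  exact hdet_aux (by norm_num) ha hm h1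

/-- `M = CoxeterMatrix.B 4` -/
theorem hdet_four {cs : CoxeterSystem (CoxeterMatrix.B 4) W} {A : Fin 4 → Fin 4 → ℤ}
    {h : IsCartan (CoxeterMatrix.B 4) A} {n : Fin 4 → Y} {X : (Fin 4 → ℤ) → Subgroup Y} (R : RGD cs h p T n X)
    (hp : p.Prime) (hG : GG cs h T X = ⊤) (hρ : ρ.IsIrreducible) (h0 : fx ρ (RGD.B cs h T X) ≠ ⊥)
    {m : ℕ} {e : ℤ} (he : e = 1 ∨ e = -1)
    (hS : ∑ᶠ g ∈ Cfsg.Agent.H730.OZ.pSet p Y, ρ.character g = (e : ℂ) * (p : ℂ) ^ m * ρ.character 1)
    {a : ℕ} (ha : 0 < a) (hq : ∀ i, qq X i = p ^ a) (hm : m = 2 * 4 * a) :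
    ∑ i, finrank ℂ (fx ρ (PJ cs h T X {i})) = finrank ℂ (fx ρ (RGD.B cs h T X)) := by
  have h1 := (Cfsg.Agent.H695.OneZero.Det.det_formula_count R hp hG hρ h0 he hS (a := fun _ => a) hq).2 _
    (word_four cs).1 (word_four cs).2
  simp only [count_four, ← Finset.mul_sum] at h1
  exact hdet_aux (by norm_num) ha hm h1

/-- **`PSp_6`, `Ω_7`: no character with `x = 6`, `V^B ≠ 0`** -/
theorem no_mid_three {cs : CoxeterSystem (CoxeterMatrix.B 3) W} {A : Fin 3 → Fin 3 → ℤ}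
    {h : IsCartan (CoxeterMatrix.B 3) A} {n : Fin 3 → Y} {X : (Fin 3 → ℤ) → Subgroup Y} (R : RGD cs h p T n X)
    (hp : p.Prime) (hG : GG cs h T X = ⊤) (hρ : ρ.IsIrreducible) (h0 : fx ρ (RGD.B cs h T X) ≠ ⊥)
    {m : ℕ} {e : ℤ} (he : e = 1 ∨ e = -1)
    (hS : ∑ᶠ g ∈ Cfsg.Agent.H730.OZ.pSet p Y, ρ.character g = (e : ℂ) * (p : ℂ) ^ m * ρ.character 1)
    {a : ℕ} (ha : 0 < a) (hq : ∀ i, qq X i = p ^ a) (hm : m = 2 * 3 * a)
    {t t' : Y} (ht : Ell cs h T X {2}ᶜ t) (hχ : ρ.character t ≠ 0)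
    (ht' : Ell cs h T X {1}ᶜ t') (hχ' : ρ.character t' ≠ 0)
    {r : ℕ} (hr : r.Prime) (hr1 : r ∣ (p ^ a) ^ 3 + 1) (hr2 : ¬ r ∣ 2 * (1 + p ^ a)) : r ∣ finrank ℂ V := by
  refine dvd_of_mul hr (deg_three_B R hG hρ h0 hq (hdet_three R hp hG hρ h0 he hS ha hq hm) ht hχ ht' hχ') hr2 ?_
  rw [add_comm] at hr1
  exact Dvd.dvd.mul_left hr1 _

/-- **`PSp_8`, `Ω_9`: no character with `x = 8`, `V^B ≠ 0`** -/
theorem no_mid_four {cs : CoxeterSystem (CoxeterMatrix.B 4) W} {A : Fin 4 → Fin 4 → ℤ}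
    {h : IsCartan (CoxeterMatrix.B 4) A} {n : Fin 4 → Y} {X : (Fin 4 → ℤ) → Subgroup Y} (R : RGD cs h p T n X)
    (hp : p.Prime) (hG : GG cs h T X = ⊤) (hρ : ρ.IsIrreducible) (h0 : fx ρ (RGD.B cs h T X) ≠ ⊥)
    {m : ℕ} {e : ℤ} (he : e = 1 ∨ e = -1)
    (hS : ∑ᶠ g ∈ Cfsg.Agent.H730.OZ.pSet p Y, ρ.character g = (e : ℂ) * (p : ℂ) ^ m * ρ.character 1)
    {a : ℕ} (ha : 0 < a) (hq : ∀ i, qq X i = p ^ a) (hm : m = 2 * 4 * a)
    {t t' : Y} (ht : Ell cs h T X {3}ᶜ t) (hχ : ρ.character t ≠ 0)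
    (ht' : Ell cs h T X {2}ᶜ t') (hχ' : ρ.character t' ≠ 0)
    {r : ℕ} (hr : r.Prime) (hr1 : r ∣ (p ^ a) ^ 4 + 1) (hr2 : ¬ r ∣ 2 * (1 + p ^ a)) : r ∣ finrank ℂ V := by
  refine dvd_of_mul hr (deg_four_B R hG hρ h0 hq (hdet_four R hp hG hρ h0 he hS ha hq hm) ht hχ ht' hχ') hr2 ?_
  rw [add_comm] at hr1
  exact Dvd.dvd.mul_left hr1 _

end

end Cfsg.Agent.H639.OZ
end
end

-- part: H477/OZ/SpC
section
prune_inst 0x43560513042c010000000050640201e76ce00040000080000088008400d892e204080a860a42031020a22000d00350048110000200200000000000000011d0481000012041140a000c20010000000000000000000000000000000000000000000200000000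
set_option linter.all false
open scoped Cfsg.Agent.FastGrp

-- part: H477/OZ/Tr
section
/-!
# The congruence through a central extension (S4842, helper477)

`π : G →* S` surjective with central kernel of order prime to `p` and `r`; `R` a cyclic Sylow `r`-subgroup of `G`,
`y ∈ R` of order `r` with `C(y) ≤ C(R)`, `K ≤ C(R)` with inner action of `N(R)` containing the `p`-elements of `C(y)`.
* `congr_w` : the weighted congruence;
* `tr_gen` : `e p^m ≡ c (mod r)`, `c` the sum of a linear character of `K` over the `p`-elements;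
* `tr_perfect` : `Cong p r N S` for perfect `K`, `|pSet p S| = p ^ N`.
-/

set_option autoImplicit false
set_option linter.unusedSectionVars false

open Cfsg Cfsg.Agent.Characters Cfsg.Agent.H730.OZ Cfsg.Agent.H732.VZ Cfsg.Agent.CharactersDeep Finset

namespace Cfsg.Agent.H477.OZ

universe u v

section

variable {G : Type v} [Group G] {S : Type u} [Group S] {π : G →* S}

theorem pSet_iff {p : ℕ} (hp : p.Prime) {g : G} : g ∈ pSet p G ↔ ∃ k : ℕ, g ^ p ^ k = 1 := by
  constructor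
  · rintro ⟨k, hk⟩
    exact ⟨k, by rw [← hk, pow_orderOf_eq_one]⟩
  · rintro ⟨k, hk⟩
    obtain ⟨j, -, hj⟩ := (Nat.dvd_prime_pow hp).1 (orderOf_dvd_of_pow_eq_one hk)
    exact ⟨j, hj⟩

theorem bijOn_pSet [Finite G] (hπ : Function.Surjective π) (hker : π.ker ≤ Subgroup.center G) {p : ℕ} (hp : p.Prime)
    (hkp : ¬ p ∣ Nat.card π.ker) : Set.BijOn π (pSet p G) (pSet p S) := by
  have hcop : ∀ k : ℕ, Nat.Coprime (p ^ k) (Nat.card π.ker) := fun k =>
    Nat.Coprime.pow_left _ ((Nat.Prime.coprime_iff_not_dvd hp).2 hkp)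
  have hker1 : ∀ c ∈ π.ker, c ^ Nat.card π.ker = 1 := by
    intro c hc
    have := pow_card_eq_one' (x := (⟨c, hc⟩ : π.ker))
    exact congrArg Subtype.val this
  refine ⟨?_, ?_, ?_⟩
  · intro g hg
    obtain ⟨k, hk⟩ := (pSet_iff hp).1 hg
    exact (pSet_iff hp).2 ⟨k, by rw [← map_pow, hk, map_one]⟩
  · intro g hg g' hg' h
    obtain ⟨k, hk⟩ := (pSet_iff hp).1 hg
    obtain ⟨k', hk'⟩ := (pSet_iff hp).1 hg'
    have hc : g⁻¹ * g' ∈ π.ker := by
      rw [MonoidHom.mem_ker, map_mul, map_inv, h, inv_mul_cancel]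
    set c := g⁻¹ * g' with hcdef
    have hgc : g' = g * c := by rw [hcdef]; group
    have hcomm : Commute g c := Subgroup.mem_center_iff.1 (hker hc) g
    have h1 : c ^ p ^ (k + k') = 1 := by
      have h2 : g ^ p ^ (k + k') = 1 := by rw [pow_add, pow_mul, hk, one_pow]
      have h3 : g' ^ p ^ (k + k') = 1 := by rw [pow_add, mul_comm, pow_mul, hk', one_pow]
      rw [hgc, hcomm.mul_pow, h2, one_mul] at h3
      exact h3
    have h2 : c = 1 := by
      have h3 := Nat.dvd_gcd (orderOf_dvd_of_pow_eq_one h1) (orderOf_dvd_of_pow_eq_one (hker1 c hc))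
      rw [(hcop (k + k')).gcd_eq_one] at h3
      exact orderOf_eq_one_iff.1 (Nat.dvd_one.1 h3)
    rw [hgc, h2, mul_one]
  · intro s hs
    obtain ⟨k, hk⟩ := (pSet_iff hp).1 hs
    obtain ⟨g, rfl⟩ := hπ s
    obtain ⟨m, hm1, hm2⟩ := Nat.chineseRemainder (hcop k) 1 0
    refine ⟨g ^ m, (pSet_iff hp).2 ⟨k, ?_⟩, ?_⟩
    · obtain ⟨m', rfl⟩ := (Nat.modEq_zero_iff_dvd).1 hm2
      have h1 : g ^ p ^ k ∈ π.ker := by rw [MonoidHom.mem_ker, map_pow, hk]
      rw [← pow_mul, mul_comm, pow_mul, pow_mul, hker1 _ h1, one_pow]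
    · rw [map_pow]
      conv_rhs => rw [← pow_one (π g)]
      exact pow_eq_pow_iff_modEq.2 (hm1.of_dvd (orderOf_dvd_of_pow_eq_one hk))

end

section

variable {G : Type v} [Group G] [Finite G]

/-- **The weighted congruence.** -/
theorem congr_w {p r : ℕ} (hp : p.Prime) (hr : r.Prime) (hrp : r ≠ p) {z : G} (hz : orderOf z = r)
    (χ : IrrCharacter G) {lam : ℤ} (hlam : ∑ᶠ u ∈ pSet p G, (χ : G → ℂ) u = lam * (χ : G → ℂ) 1) (w : G → AlgInt)
    (hK : ∀ v, Commute z v → v ∈ pSet p G → (χ : G → ℂ) (z * v) = (w v : ℂ) * (χ : G → ℂ) z)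
    (hdeg : ¬ r ∣ charDegree (χ : G → ℂ)) {c : ℤ}
    (hc : ∑ᶠ v ∈ {v : G | Commute z v ∧ v ∈ pSet p G}, (w v : ℂ) = c) : (r : ℤ) ∣ lam - c := by
  classical
  have := Fintype.ofFinite G
  have : Fact r.Prime := ⟨hr⟩
  obtain ⟨M, hM', hrM⟩ := BrauerLocal.exists_maximal r hr
  have hM : M.IsPrime := hM'.isPrime
  have hP : IsPGroup r (Subgroup.zpowers z) := IsPGroup.of_card (n := 1) (by
    rw [Nat.card_zpowers, hz, pow_one])
  have hnd : ∀ g ∈ pSet p G, ¬ r ∣ orderOf g := by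
    rintro g ⟨k, hk⟩ hd
    rw [hk] at hd
    exact hrp ((Nat.prime_dvd_prime_iff_eq hr hp).1 (hr.dvd_of_dvd_pow hd))
  have hconj : ∀ u x : G, u * x * u⁻¹ ∈ pSet p G ↔ x ∈ pSet p G := by
    intro u x
    rw [pSet_iff hp, pSet_iff hp]
    refine exists_congr fun k => ?_
    rw [conj_pow]
    constructor
    · intro h1
      have h2 : x ^ p ^ k = u⁻¹ * (u * x ^ p ^ k * u⁻¹) * u := by group
      rw [h2, h1]; group
    · intro h1
      rw [h1]; group
  obtain ⟨a, ha⟩ := Cfsg.Agent.Blocks.OrbitSum.sum_eq_sum_centralizer_add_smul (p := r)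
    (Subgroup.zpowers z) hP (fun g => if g ∈ pSet p G then av χ g else 0) (fun u _ x => by
      simp only [hconj u x]
      congr 1
      exact Subtype.ext (Core.isIrr_isClassFunction χ.2 x u))
  have hfil : univ.filter (· ∈ Subgroup.centralizer ((Subgroup.zpowers z : Subgroup G) : Set G))
      = univ.filter (Commute z) := by
    ext x
    simp only [mem_filter, mem_univ, true_and]
    rw [Subgroup.zpowers_eq_closure, Subgroup.centralizer_closure,
      Subgroup.mem_centralizer_singleton_iff]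
    exact ⟨fun h => h.symm, fun h => h.symm⟩
  rw [hfil, ← Finset.sum_filter, ← Finset.sum_filter, Finset.filter_filter] at ha
  have h0 : ∑ g ∈ univ.filter (· ∈ pSet p G), av χ g = (lam : AlgInt) * av χ 1 := by
    apply Subtype.ext
    push_cast
    simp only [av_coe]
    rw [← hlam, finsum_mem_eq_finite_toFinset_sum _ (Set.toFinite (pSet p G))]
    refine Finset.sum_congr ?_ fun g _ => rfl
    ext g
    simp only [mem_filter, mem_univ, true_and, Set.Finite.mem_toFinset]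
  -- `χ z ≡ χ 1`
  have hz1 : av χ z - av χ 1 ∈ M := by
    have := av_mul_sub_mem hr hM hrM χ hz (Commute.one_right z) (by
      rw [orderOf_one]
      exact fun h => hr.one_lt.ne' (Nat.dvd_one.1 h))
    rwa [mul_one] at this
  -- termwise congruence
  have hterm : ∀ g ∈ univ.filter (fun g => Commute z g ∧ g ∈ pSet p G),
      av χ g - w g * av χ 1 ∈ M := by
    intro g hg
    obtain ⟨hg1, hg2⟩ := (mem_filter.1 hg).2
    have h1 := av_mul_sub_mem hr hM hrM χ hz hg1 (hnd g hg2)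
    have h2 : av χ (z * g) = w g * av χ z := Subtype.ext (hK g hg1 hg2)
    rw [h2] at h1
    have h3 : w g * av χ z - w g * av χ 1 ∈ M := by
      rw [← mul_sub]
      exact M.mul_mem_left _ hz1
    have := M.sub_mem h3 h1
    rwa [sub_sub_sub_cancel_left] at this
  have hsum : (∑ g ∈ univ.filter (fun g => Commute z g ∧ g ∈ pSet p G), av χ g)
      - (∑ g ∈ univ.filter (fun g => Commute z g ∧ g ∈ pSet p G), w g) * av χ 1 ∈ M := by
    rw [Finset.sum_mul, ← Finset.sum_sub_distrib]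
    exact M.sum_mem hterm
  have hcw : ∑ g ∈ univ.filter (fun g => Commute z g ∧ g ∈ pSet p G), w g = (c : AlgInt) := by
    apply Subtype.ext
    push_cast
    rw [← hc, finsum_mem_eq_finite_toFinset_sum _ (Set.toFinite _)]
    refine Finset.sum_congr ?_ fun g _ => rfl
    ext g
    simp only [mem_filter, mem_univ, true_and, Set.Finite.mem_toFinset]
    rfl
  rw [hcw] at hsum
  have hfin : ((lam : AlgInt) - (c : AlgInt)) * av χ 1 ∈ M := by
    rw [sub_mul, ← h0, ha]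
    have : (∑ g ∈ univ.filter (fun g => Commute z g ∧ g ∈ pSet p G), av χ g) + r • a
        - (c : AlgInt) * av χ 1
        = ((∑ g ∈ univ.filter (fun g => Commute z g ∧ g ∈ pSet p G), av χ g)
          - (c : AlgInt) * av χ 1) + (r : AlgInt) * a := by
      rw [nsmul_eq_mul]; ring
    rw [this]
    exact M.add_mem hsum (M.mul_mem_right _ hrM)
  have hdegM : av χ 1 ∉ M := by
    have h1 : av χ 1 = ((charDegree (χ : G → ℂ) : ℤ) : AlgInt) := by
      apply Subtype.ext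
      push_cast
      exact (Cfsg.Agent.H686.CharKit.charDegree_irr χ).symm
    rw [h1, int_mem_iff hr hM hrM]
    intro h
    exact hdeg (by exact_mod_cast h)
  have hlast := (hM.mem_or_mem hfin).resolve_right hdegM
  have hcast : (lam : AlgInt) - (c : AlgInt) = ((lam - c : ℤ) : AlgInt) := by
    push_cast
    rfl
  rw [hcast, int_mem_iff hr hM hrM] at hlast
  exact hlast

end

section

variable {G : Type v} [Group G] [Finite G] {S : Type u} [Group S] [Finite S] {π : G →* S}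

theorem card_eq_mul_ker (hπ : Function.Surjective π) : Nat.card G = Nat.card S * Nat.card π.ker := by
  have h1 := Subgroup.card_mul_index π.ker
  rw [Subgroup.index_ker, MonoidHom.range_eq_top.2 hπ, Subgroup.card_top] at h1
  rw [← h1, mul_comm]

theorem cent_map (hπ : Function.Surjective π) (hker : π.ker ≤ Subgroup.center G) {r : ℕ} (hr : r.Prime)
    (hkr : ¬ r ∣ Nat.card π.ker) {y : G} (hy : orderOf y = r) :
    Subgroup.centralizer ({π y} : Set S) = (Subgroup.centralizer ({y} : Set G)).map π := by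
  apply le_antisymm
  · intro s hs
    obtain ⟨g, rfl⟩ := hπ s
    refine ⟨g, ?_, rfl⟩
    rw [Subgroup.mem_centralizer_singleton_iff] at hs
    rw [SetLike.mem_coe, Subgroup.mem_centralizer_singleton_iff]
    set c := g * y * g⁻¹ * y⁻¹ with hcdef
    have hc : c ∈ π.ker := by
      rw [MonoidHom.mem_ker, map_mul, map_inv, map_mul, map_mul, map_inv, hs]
      group
    have hgc : g * y * g⁻¹ = c * y := by rw [hcdef]; group
    have hcomm : Commute c y := (Subgroup.mem_center_iff.1 (hker hc) y).symm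
    have h1 : c ^ r = 1 := by
      have h2 : (g * y * g⁻¹) ^ r = 1 := by
        rw [conj_pow, ← hy, pow_orderOf_eq_one, mul_one, mul_inv_cancel]
      rw [hgc, hcomm.mul_pow, ← hy, pow_orderOf_eq_one, mul_one] at h2
      rw [← hy]; exact h2
    have h2 : c = 1 := by
      have h3 : orderOf c ∣ Nat.card π.ker := by
        have := orderOf_dvd_natCard (⟨c, hc⟩ : π.ker)
        rwa [Subgroup.orderOf_mk] at this
      rcases (Nat.dvd_prime hr).1 (orderOf_dvd_of_pow_eq_one h1) with h4 | h4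
      · exact orderOf_eq_one_iff.1 h4
      · rw [h4] at h3
        exact absurd h3 hkr
    rw [h2, one_mul] at hgc
    calc g * y = g * y * g⁻¹ * g := by group
      _ = y * g := by rw [hgc]
  · rintro _ ⟨g, hg, rfl⟩
    rw [SetLike.mem_coe, Subgroup.mem_centralizer_singleton_iff] at hg
    rw [Subgroup.mem_centralizer_singleton_iff, ← map_mul, ← map_mul, hg]

theorem orderOf_map {r : ℕ} (hr : r.Prime) (hkr : ¬ r ∣ Nat.card π.ker) {y : G} (hy : orderOf y = r) : orderOf (π y) = r := by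
  have h1 : orderOf (π y) ∣ r := by
    rw [← hy]
    exact orderOf_map_dvd π y
  rcases (Nat.dvd_prime hr).1 h1 with h2 | h2
  · exfalso
    have h3 : y ∈ π.ker := by rw [MonoidHom.mem_ker]; exact orderOf_eq_one_iff.1 h2
    have := orderOf_dvd_natCard (⟨y, h3⟩ : π.ker)
    rw [Subgroup.orderOf_mk, hy] at this
    exact hkr this
  · exact h2

variable (hπ : Function.Surjective π) (hker : π.ker ≤ Subgroup.center G) {p r : ℕ} (hp : p.Prime) [hr : Fact r.Prime]
  (hrp : r ≠ p) (hkp : ¬ p ∣ Nat.card π.ker) (hkr : ¬ r ∣ Nat.card π.ker) (R : Sylow r G)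
  (hcyc : IsCyclic (R : Subgroup G)) {y : G} (hy : orderOf y = r) (hyR : y ∈ (R : Subgroup G))
  (hC : Subgroup.centralizer ({y} : Set G) ≤ Subgroup.centralizer ((R : Subgroup G) : Set G))
  (hnd : Nat.card (Subgroup.centralizer ({y} : Set G)) ≠ r * Nat.card π.ker ∨
    ∃ m : ℕ, ¬ r ∣ m ∧ ¬ IsConj (π y) (π y ^ m))

include hπ hker hkr hcyc hy hyR hC hnd

/-- `r` does not divide the degree -/
theorem tr_not_dvd (χ : IrrCharacter S) (x : S) (h : _root_.Cfsg.Agent.H732.VZ.One χ x) : ¬ r ∣ charDegree (χ : S → ℂ) := by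
  have hR' : ((R.mapSurjective hπ : Sylow r S) : Subgroup S) = (R : Subgroup G).map π := rfl
  have hcm := cent_map hπ hker hr.out hkr hy
  refine not_dvd_of_sylow (R.mapSurjective hπ) ?_ (orderOf_map hr.out hkr hy) ?_ ?_ ?_ χ x h
  · have hs : Function.Surjective (π.subgroupMap (R : Subgroup G)) := π.subgroupMap_surjective _
    exact isCyclic_of_surjective _ hs
  · exact ⟨y, hyR, rfl⟩
  · rw [hcm, hR']
    rintro _ ⟨g, hg, rfl⟩
    rw [Subgroup.mem_centralizer_iff]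
    rintro _ ⟨t, ht, rfl⟩
    rw [← map_mul, ← map_mul, Subgroup.mem_centralizer_iff.1 (hC hg) t ht]
  · rcases hnd with h1 | h1
    · left
      intro h2
      apply h1
      have hle : π.ker ≤ Subgroup.centralizer ({y} : Set G) := fun c hc => by
        rw [Subgroup.mem_centralizer_singleton_iff]
        exact (Subgroup.mem_center_iff.1 (hker hc) y).symm
      have e1 := Subgroup.index_map_eq (Subgroup.centralizer ({y} : Set G)) hπ hle
      have e2 := Subgroup.card_mul_index (Subgroup.centralizer ({y} : Set G))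
      have e3 := Subgroup.card_mul_index ((Subgroup.centralizer ({y} : Set G)).map π)
      rw [e1, ← hcm, h2] at e3
      rw [card_eq_mul_ker hπ, ← e3] at e2
      have hpos : 0 < (Subgroup.centralizer ({y} : Set G)).index := Nat.pos_of_ne_zero Subgroup.index_ne_zero_of_finite
      apply Nat.eq_of_mul_eq_mul_right hpos
      rw [e2]; ring
    · exact Or.inr h1

omit hnd hy hyR hC hcyc hr hkr in
theorem tr_sum {χ : S → ℂ} (hkp : ¬ p ∣ Nat.card π.ker) (hp : p.Prime) :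
    ∑ᶠ u ∈ pSet p G, χ (π u) = ∑ᶠ u ∈ pSet p S, χ u :=
  finsum_mem_eq_of_bijOn π (bijOn_pSet hπ hker hp hkp) fun _ _ => rfl

variable (K : Subgroup G) (hKC : K ≤ Subgroup.centralizer ((R : Subgroup G) : Set G)) (hKr : ¬ r ∣ Nat.card K)
  (hKN : ∀ n ∈ Subgroup.normalizer ((R : Subgroup G) : Set G), ∃ c ∈ K, ∀ k ∈ K, n * k * n⁻¹ = c * k * c⁻¹)
  (hpK : ∀ v, Commute y v → v ∈ pSet p G → v ∈ K)
  (h2 : ∀ k₀ ∈ K, ∃ y₁ ∈ R, ∃ t₁ ∈ Subgroup.centralizer ((R : Subgroup G) : Set G),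
    ∃ y₂ ∈ R, ∃ t₂ ∈ Subgroup.centralizer ((R : Subgroup G) : Set G),
      Subgroup.centralizer ({y₁} : Set G) ≤ Subgroup.centralizer ((R : Subgroup G) : Set G) ∧
      (∀ x ∈ K, t₁ * x = x * t₁) ∧ ¬ r ∣ orderOf t₁ ∧
      Subgroup.centralizer ({y₂} : Set G) ≤ Subgroup.centralizer ((R : Subgroup G) : Set G) ∧
      (∀ x ∈ K, t₂ * x = x * t₂) ∧ ¬ r ∣ orderOf t₂ ∧
      ¬ IsConj (π (y₁ * t₁ * k₀)) (π (y₂ * t₂ * k₀)))

include hp hrp hkp hKC hKr hKN hpK h2

/-- **The congruence through the extension.** -/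
theorem tr_gen {χ : S → ℂ} (hχ : IsIrrCharacter S χ) (h0 : OneZero χ) {m : ℕ} {e : ℤ}
    (hs : ∑ᶠ u ∈ pSet p S, χ u = (e : ℂ) * (p : ℂ) ^ m * χ 1) :
    ∃ f : K →* ℂˣ, (∀ k : K, χ (π (y * k)) = f k * χ (π y)) ∧
      ∀ c : ℤ, ∑ᶠ k ∈ pSet p K, ((f k : ℂˣ) : ℂ) = c → (r : ℤ) ∣ e * (p : ℤ) ^ m - c := by
  classical
  have := Fintype.ofFinite G
  obtain ⟨x, hx⟩ := (oneZero_iff hχ).1 h0
  have hnd' := tr_not_dvd hπ hker hkr R hcyc hy hyR hC hnd ⟨χ, hχ⟩ x hx
  let ψ : IrrCharacter G := ⟨χ ∘ π, Core.isIrr_comp π hπ hχ⟩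
  have hψ : ∀ g, (ψ : G → ℂ) g = χ (π g) := fun _ => rfl
  have hψd : ¬ r ∣ charDegree (ψ : G → ℂ) := by
    have e1 : charDegree (ψ : G → ℂ) = charDegree χ := by
      have e2 := H686.CharKit.charDegree_irr ψ
      have e3 := H686.CharKit.charDegree_irr (⟨χ, hχ⟩ : IrrCharacter S)
      have e4 : (ψ : G → ℂ) 1 = χ 1 := by rw [hψ, map_one]
      rw [e4] at e2
      have : ((charDegree (ψ : G → ℂ) : ℕ) : ℂ) = ((charDegree χ : ℕ) : ℂ) := e2.trans e3.symm
      exact_mod_cast this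
    rw [e1]
    exact hnd'
  have hsum : ∑ᶠ u ∈ pSet p G, (ψ : G → ℂ) u = ((e * (p : ℤ) ^ m : ℤ) : ℂ) * (ψ : G → ℂ) 1 := by
    have h1 := tr_sum (χ := χ) hπ hker hkp hp
    rw [hs] at h1
    rw [hψ, map_one]
    push_cast
    exact h1
  have hab : (R : Subgroup G) ≤ Subgroup.centralizer ((R : Subgroup G) : Set G) := by
    intro a ha
    rw [Subgroup.mem_centralizer_iff]
    intro b hb
    have h1 : (⟨b, hb⟩ : (R : Subgroup G)) * ⟨a, ha⟩ = ⟨a, ha⟩ * ⟨b, hb⟩ := by
      have := hcyc.isMulCommutative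
      exact Std.Commutative.comm _ _
    exact congrArg Subtype.val h1
  rcases H279.OZ.alt_inner R hab K hKC hKr hKN ψ with ⟨f, hf⟩ | ⟨k₀, hk₀, hz⟩
  · refine ⟨f, fun k => hf y hyR hC k, fun c hc => ?_⟩
    have hint : ∀ k : K, IsIntegral ℤ ((f k : ℂˣ) : ℂ) := by
      intro k
      have h1 : ((f k : ℂˣ) : ℂ) ^ Nat.card K = 1 := by
        rw [← Units.val_pow_eq_pow_val, ← map_pow, pow_card_eq_one', map_one, Units.val_one]
      exact IsIntegral.of_pow (Nat.card_pos (α := K)) (by rw [h1]; exact isIntegral_one)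
    let w : G → AlgInt := fun g => if hg : g ∈ K then ⟨((f ⟨g, hg⟩ : ℂˣ) : ℂ), hint _⟩ else 0
    have hw : ∀ k : K, (w k : ℂ) = ((f k : ℂˣ) : ℂ) := by
      intro k
      simp only [w, dif_pos k.2]
    have hyK : ∀ k ∈ K, Commute y k := fun k hk => Subgroup.mem_centralizer_iff.1 (hKC hk) y hyR
    refine congr_w hp hr.out hrp hy ψ hsum w (fun v hv hvp => ?_) hψd ?_
    · have hvK := hpK v hv hvp
      have h1 := hf y hyR hC ⟨v, hvK⟩
      rw [h1, ← hw ⟨v, hvK⟩]
    · rw [← hc]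
      symm
      refine finsum_mem_eq_of_bijOn (fun k : K => (k : G)) ⟨?_, ?_, ?_⟩ fun k _ => (hw k).symm
      · intro k hk
        obtain ⟨j, hj⟩ := (pSet_iff hp).1 hk
        exact ⟨hyK k k.2, (pSet_iff hp).2 ⟨j, congrArg Subtype.val hj⟩⟩
      · exact fun a _ b _ hab => Subtype.ext hab
      · rintro v ⟨hv1, hv2⟩
        obtain ⟨j, hj⟩ := (pSet_iff hp).1 hv2
        exact ⟨⟨v, hpK v hv1 hv2⟩, (pSet_iff hp).2 ⟨j, Subtype.ext hj⟩, rfl⟩
  · exfalso
    obtain ⟨y₁, hy₁, t₁, ht₁, y₂, hy₂, t₂, ht₂, a1, a2, a3, b1, b2, b3, hno⟩ := h2 k₀ hk₀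
    have z1 := hz y₁ hy₁ a1 t₁ ht₁ a2 a3
    have z2 := hz y₂ hy₂ b1 t₂ ht₂ b2 b3
    exact hno ((hx.uniq _ z1).symm.trans (hx.uniq _ z2))

theorem tr_perfect (hKp : commutator K = ⊤) {N : ℕ} (hcard : (pSet p S).ncard = p ^ N) : Cong p r N S := by
  classical
  have := Fintype.ofFinite G
  intro χ hχ h0 m e he hs
  obtain ⟨f, hf, -⟩ := tr_gen hπ hker hp hrp hkp hkr R hcyc hy hyR hC hnd K hKC hKr hKN hpK h2 hχ h0 hs
  have hf1 : ∀ k : K, f k = 1 := by
    intro k
    have h1 : f.ker = ⊤ := by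
      rw [eq_top_iff, ← hKp]
      exact Abelianization.commutator_subset_ker f
    exact (MonoidHom.mem_ker).1 (h1 ▸ Subgroup.mem_top k)
  obtain ⟨x, hx⟩ := (oneZero_iff hχ).1 h0
  have hnd' := tr_not_dvd hπ hker hkr R hcyc hy hyR hC hnd ⟨χ, hχ⟩ x hx
  let ψ : IrrCharacter G := ⟨χ ∘ π, Core.isIrr_comp π hπ hχ⟩
  have hψ : ∀ g, (ψ : G → ℂ) g = χ (π g) := fun _ => rfl
  have hψd : ¬ r ∣ charDegree (ψ : G → ℂ) := by
    have e1 : charDegree (ψ : G → ℂ) = charDegree χ := by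
      have e2 := H686.CharKit.charDegree_irr ψ
      have e3 := H686.CharKit.charDegree_irr (⟨χ, hχ⟩ : IrrCharacter S)
      have e4 : (ψ : G → ℂ) 1 = χ 1 := by rw [hψ, map_one]
      rw [e4] at e2
      have : ((charDegree (ψ : G → ℂ) : ℕ) : ℂ) = ((charDegree χ : ℕ) : ℂ) := e2.trans e3.symm
      exact_mod_cast this
    rw [e1]
    exact hnd'
  have h3 := (basic hp hr.out hrp hy ψ hψd (m := m) (e := e) (fun v hv hvp => by
    have h4 := hf ⟨v, hpK v hv hvp⟩
    rw [hf1, Units.val_one, one_mul] at h4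
    exact h4) (by
      rw [hψ, map_one, ← hs]
      exact tr_sum hπ hker hkp hp)).1
  rw [(bijOn_pSet hπ hker hp hkp).ncard_eq, hcard] at h3
  exact_mod_cast h3

end

end Cfsg.Agent.H477.OZ
end

-- part: H845/OZ/SpW
section
/-!
# The isometries trivial on a non-degenerate subspace of a symplectic space (S4842, helper845)

* `triv F U` : the isometries which are trivial on `U`;
* `exists_equiv_sp` : for `V = U ⊥ W`, `F` alternating, `dim W = 2 k` it is isomorphic to `Matrix.symplecticGroup (Fin k) K`;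
* `commutator_eq_top` : it is perfect, unless `(k, |K|)` is `(1, 2)`, `(1, 3)`, `(2, 2)`.
-/

set_option autoImplicit false
set_option linter.unusedSectionVars false

open Cfsg

namespace Cfsg.Agent.H845.OZ

open Module Cfsg.Agent.H477.HC Cfsg.Agent.H477.OZ

universe u v w

section general

variable {K : Type u} [Field K] {V : Type v} [AddCommGroup V] [Module K V] (F : CForm K V)

/-- the restriction of an alternating form -/
def bil (hσ : ∀ a, F.σ a = a) (W : Submodule K V) : LinearMap.BilinForm K W :=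
  LinearMap.mk₂ K (fun x y : W => F.B x y) (fun x y z => F.B_add_left x y z) (fun c x y => F.B_smul_left c x y)
    (fun x y z => F.B_add_right x y z) (fun c x y => by
      change F.B x (c • (y : V)) = _
      rw [F.B_smul_right, hσ, smul_eq_mul])

/-- coordinates -/
theorem exists_coords [FiniteDimensional K V] {W U : Submodule K V} (hc : IsCompl U W)
    (ho : ∀ u ∈ U, ∀ w ∈ W, F.B u w = 0) (hσ : ∀ a, F.σ a = a) (hQ : ∀ v, F.Q v = 0) {k : ℕ}
    (hd : finrank K W = 2 * k) :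
    ∃ e : W ≃ₗ[K] (Fin k ⊕ Fin k → K), ∀ x y : W, (CForm.spF K k).B (e x) (e y) = F.B x y := by
  have hA : (bil F hσ W).IsAlt := fun x => F.alt x (hQ x)
  have hnd : ∀ u, (∀ v, bil F hσ W u v = 0) → u = 0 := by
    intro x hx
    apply Subtype.ext
    refine F.nondeg x fun v => ?_
    obtain ⟨a, ha, b, hb, rfl⟩ := Submodule.mem_sup.1 (hc.sup_eq_top ▸ Submodule.mem_top : v ∈ U ⊔ W)
    rw [F.B_add_right, F.B_eq_zero (ho a ha x x.2), zero_add]
    exact hx ⟨b, hb⟩
  obtain ⟨m, b, h1, h2, h3⟩ := H953.exists_symplectic_basis (bil F hσ W) hA hnd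
  have hm : m = k := by
    have h4 := Module.finrank_eq_card_basis b
    rw [hd, Fintype.card_sum, Fintype.card_fin] at h4
    omega
  subst hm
  refine ⟨b.equivFun, ?_⟩
  let S : LinearMap.BilinForm K (Fin m ⊕ Fin m → K) :=
    LinearMap.mk₂ K (CForm.spF K m).B (CForm.spF K m).B_add_left (CForm.spF K m).B_smul_left
      (CForm.spF K m).B_add_right (fun c x y => (CForm.spF K m).B_smul_right c x y)
  have h4 : S.compl₁₂ (b.equivFun : W →ₗ[K] (Fin m ⊕ Fin m → K)) (b.equivFun : W →ₗ[K] (Fin m ⊕ Fin m → K)) =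
      bil F hσ W := by
    refine LinearMap.BilinForm.ext_basis b fun i j => ?_
    rw [LinearMap.compl₁₂_apply]
    change (CForm.spF K m).B (b.equivFun (b i)) (b.equivFun (b j)) = _
    have hskew : ∀ x y, bil F hσ W x y = - bil F hσ W y x := fun x y => (hA.neg_eq y x).symm
    rw [CForm.spF_B]
    rcases i with i | i <;> rcases j with j | j
    · rw [h2]
      simp only [Basis.equivFun_self, _root_.Sum.inl.injEq, _root_.reduceCtorEq, ↓ _root_.reduceIte, _root_.MulZeroClass.mul_zero, _root_.Finset.sum_const_zero, _root_.mul_ite, _root_.mul_one, _root_.ite_self, _root_.sub_self]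
    · rw [h1]
      simp only [Basis.equivFun_self, _root_.Sum.inl.injEq, _root_.Sum.inr.injEq, _root_.mul_ite, _root_.mul_one, _root_.MulZeroClass.mul_zero, _root_.Finset.sum_ite_eq, _root_.Finset.mem_univ, ↓ _root_.reduceIte, _root_.reduceCtorEq, _root_.Finset.sum_const_zero, _root_.sub_zero]
    · rw [hskew, h1]
      simp only [Basis.equivFun_self, eq_comm, _root_.reduceCtorEq, ↓ _root_.reduceIte, _root_.MulZeroClass.mul_zero, _root_.Finset.sum_const_zero, _root_.Sum.inr.injEq, _root_.Sum.inl.injEq, _root_.mul_ite, _root_.mul_one, _root_.Finset.sum_ite_eq, _root_.Finset.mem_univ, _root_.zero_sub]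
    · rw [h3]
      simp only [Basis.equivFun_self, _root_.reduceCtorEq, ↓ _root_.reduceIte, _root_.Sum.inr.injEq, _root_.mul_ite, _root_.mul_one, _root_.MulZeroClass.mul_zero, _root_.ite_self, _root_.Finset.sum_const_zero, _root_.sub_self]
  intro x y
  exact LinearMap.congr_fun₂ h4 x y

/-- **The isometries trivial on `U`.** -/
theorem exists_equiv_sp [FiniteDimensional K V] {W U : Submodule K V} (hc : IsCompl U W)
    (ho : ∀ u ∈ U, ∀ w ∈ W, F.B u w = 0) (hσ : ∀ a, F.σ a = a) (hQ : ∀ v, F.Q v = 0) {k : ℕ}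
    (hd : finrank K W = 2 * k) {L : Subgroup F.iso} (hL : ∀ g : F.iso, g ∈ L ↔ ∀ u ∈ U, (g : V ≃ₗ[K] V) u = u) :
    Nonempty (L ≃* Matrix.symplecticGroup (Fin k) K) := by
  obtain ⟨e, he⟩ := exists_coords F hc ho hσ hQ hd
  have he' : ∀ x y, F.B (e.symm x) (e.symm y) = (CForm.spF K k).B x y := by
    intro x y
    rw [← he, e.apply_symm_apply, e.apply_symm_apply]
  let P : (U × W) ≃ₗ[K] V := Submodule.prodEquivOfIsCompl U W hc
  have hP : ∀ x : U × W, P x = (x.1 : V) + x.2 := fun x => rfl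
  let f : ((Fin k ⊕ Fin k → K) ≃ₗ[K] (Fin k ⊕ Fin k → K)) → (V ≃ₗ[K] V) := fun h =>
    (P.symm.trans ((LinearEquiv.refl K U).prodCongr (e.trans (h.trans e.symm)))).trans P
  have hf : ∀ h x, f h (P x) = (x.1 : V) + (e.symm (h (e x.2)) : W) := by
    intro h x
    change P (((LinearEquiv.refl K U).prodCongr (e.trans (h.trans e.symm))) (P.symm (P x))) = _
    rw [P.symm_apply_apply, hP]
    rfl
  have hBP : ∀ x y : U × W, F.B (P x) (P y) = F.B x.1 y.1 + F.B x.2 y.2 := by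
    intro x y
    rw [hP, hP, F.B_add_left, F.B_add_right, F.B_add_right, ho _ x.1.2 _ y.2.2, F.B_eq_zero (ho _ y.1.2 _ x.2.2),
      add_zero, zero_add]
  have hmem : ∀ h : (CForm.spF K k).iso, f h ∈ F.iso := by
    intro h
    refine ⟨fun x y => ?_, fun x => by rw [hQ, hQ]⟩
    obtain ⟨x, rfl⟩ := P.surjective x
    obtain ⟨y, rfl⟩ := P.surjective y
    have h1 : ∀ x : U × W, f h (P x) = P (x.1, e.symm ((h : (Fin k ⊕ Fin k → K) ≃ₗ[K] _) (e x.2))) := fun x => hf h x
    rw [h1, h1, hBP, hBP]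
    change _ + F.B (e.symm _) (e.symm _) = _
    rw [he', CForm.iso_B, he]
  let Φ : (CForm.spF K k).iso →* F.iso :=
    { toFun := fun h => ⟨f h, hmem h⟩
      map_one' := by
        apply Subtype.ext
        apply LinearEquiv.ext
        intro x
        obtain ⟨x, rfl⟩ := P.surjective x
        change f 1 (P x) = P x
        rw [hf, hP]
        change (x.1 : V) + (e.symm (e x.2) : W) = _
        rw [e.symm_apply_apply]
      map_mul' := by
        intro h h'
        apply Subtype.ext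
        apply LinearEquiv.ext
        intro x
        obtain ⟨x, rfl⟩ := P.surjective x
        change f (h * h') (P x) = f h (f h' (P x))
        have h1 : f h' (P x) = P (x.1, e.symm ((h' : (Fin k ⊕ Fin k → K) ≃ₗ[K] _) (e x.2))) := hf h' x
        rw [h1, hf, hf]
        change _ = (x.1 : V) + (e.symm ((h : (Fin k ⊕ Fin k → K) ≃ₗ[K] _) (e (e.symm _))) : W)
        rw [e.apply_symm_apply]
        rfl }
  have hΦ : ∀ (h : (CForm.spF K k).iso) (x : U × W), ((Φ h : F.iso) : V ≃ₗ[K] V) (P x) =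
      (x.1 : V) + (e.symm ((h : (Fin k ⊕ Fin k → K) ≃ₗ[K] _) (e x.2)) : W) := fun h x => hf h x
  have hΦL : ∀ h, Φ h ∈ L := by
    intro h
    rw [hL]
    intro u hu
    have h1 := hΦ h (⟨u, hu⟩, 0)
    have h2 : P (⟨u, hu⟩, 0) = u := by
      rw [hP]
      simp
    rw [h2] at h1
    rw [h1]
    simp only [_root_.map_zero, _root_.ZeroMemClass.coe_zero, _root_.add_zero]
  have hinj : Function.Injective (Φ.codRestrict L hΦL) := by
    intro h h' hh
    have h1 : Φ h = Φ h' := congrArg Subtype.val hh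
    apply Subtype.ext
    apply LinearEquiv.ext
    intro x
    have h2 := hΦ h (0, e.symm x)
    rw [h1, hΦ h' (0, e.symm x)] at h2
    have h3 : e.symm ((h' : (Fin k ⊕ Fin k → K) ≃ₗ[K] _) (e (e.symm x))) =
        e.symm ((h : (Fin k ⊕ Fin k → K) ≃ₗ[K] _) (e (e.symm x))) := by
      apply Subtype.ext
      exact add_left_cancel h2
    rw [e.apply_symm_apply] at h3
    exact (e.symm.injective h3).symm
  have hsurj : Function.Surjective (Φ.codRestrict L hΦL) := by
    rintro ⟨g, hg⟩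
    rw [hL] at hg
    have hW : ∀ w : V, w ∈ W → (g : V ≃ₗ[K] V) w ∈ W := by
      intro w hw
      obtain ⟨a, ha, b, hb, hab⟩ := Submodule.mem_sup.1 (hc.sup_eq_top ▸ Submodule.mem_top :
        (g : V ≃ₗ[K] V) w ∈ U ⊔ W)
      have ha0 : a = 0 := by
        refine F.nondeg a fun x => ?_
        obtain ⟨c, hc', d, hd', rfl⟩ := Submodule.mem_sup.1 (hc.sup_eq_top ▸ Submodule.mem_top : x ∈ U ⊔ W)
        have h1 : F.B a c = 0 := by
          have h2 : a = (g : V ≃ₗ[K] V) w - b := by rw [← hab]; abel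
          rw [h2, F.B_sub_left, F.B_eq_zero (ho c hc' b hb), sub_zero]
          have h3 : F.B ((g : V ≃ₗ[K] V) w) c = F.B ((g : V ≃ₗ[K] V) w) ((g : V ≃ₗ[K] V) c) := by rw [hg c hc']
          rw [h3, F.iso_B]
          exact F.B_eq_zero (ho c hc' w hw)
        rw [F.B_add_right, h1, ho a ha d hd', add_zero]
      rw [← hab, ha0, zero_add]
      exact hb
    let q : (Fin k ⊕ Fin k → K) →ₗ[K] (Fin k ⊕ Fin k → K) :=
      (e : W →ₗ[K] (Fin k ⊕ Fin k → K)) ∘ₗ (((g : V ≃ₗ[K] V) : V →ₗ[K] V).restrict hW) ∘ₗ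
        (e.symm : (Fin k ⊕ Fin k → K) →ₗ[K] W)
    have hq : ∀ x, (e.symm (q x) : V) = (g : V ≃ₗ[K] V) (e.symm x) := by
      intro x
      change ((e.symm (e _) : W) : V) = _
      rw [e.symm_apply_apply]
      rfl
    obtain ⟨h, hh⟩ := (CForm.spF K k).exists_iso q (by
      intro x y
      rw [← he', ← he', hq, hq, F.iso_B]) (fun x => rfl)
    refine ⟨h, ?_⟩
    apply Subtype.ext
    apply Subtype.ext
    apply LinearEquiv.ext
    intro x
    obtain ⟨x, rfl⟩ := P.surjective x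
    change ((Φ h : F.iso) : V ≃ₗ[K] V) (P x) = _
    rw [hΦ, hh, hq, e.symm_apply_apply, hP, map_add, hg _ x.1.2]
  exact ⟨((MulEquiv.ofBijective _ ⟨hinj, hsurj⟩).symm).trans (isoSp k K).symm⟩

theorem commutator_top_of_equiv {G : Type*} {H : Type*} [Group G] [Group H] (e : G ≃* H) (h : commutator H = ⊤) :
    commutator G = ⊤ := by
  have h1 : (commutator H).map e.symm.toMonoidHom = commutator G := by
    rw [commutator_def, commutator_def, Subgroup.map_commutator]
    have h2 : (⊤ : Subgroup H).map e.symm.toMonoidHom = ⊤ :=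
      Subgroup.map_top_of_surjective _ e.symm.surjective
    rw [h2]
  rw [← h1, h]
  exact Subgroup.map_top_of_surjective _ e.symm.surjective

/-- **Perfectness.** -/
theorem commutator_eq_top [Finite K] [FiniteDimensional K V] {W U : Submodule K V} (hc : IsCompl U W)
    (ho : ∀ u ∈ U, ∀ w ∈ W, F.B u w = 0) (hσ : ∀ a, F.σ a = a) (hQ : ∀ v, F.Q v = 0) {k : ℕ}
    (hd : finrank K W = 2 * k) {L : Subgroup F.iso} (hL : ∀ g : F.iso, g ∈ L ↔ ∀ u ∈ U, (g : V ≃ₗ[K] V) u = u)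
    (h12 : ¬ (k = 1 ∧ Nat.card K = 2)) (h13 : ¬ (k = 1 ∧ Nat.card K = 3)) (h22 : ¬ (k = 2 ∧ Nat.card K = 2)) :
    commutator L = ⊤ := by
  obtain ⟨e⟩ := exists_equiv_sp F hc ho hσ hQ hd hL
  have := Fintype.ofFinite K
  rcases Nat.eq_zero_or_pos k with rfl | hk
  · apply commutator_top_of_equiv e
    have : Subsingleton (Matrix.symplecticGroup (Fin 0) K) := by
      constructor
      intro a b
      apply Subtype.ext
      ext i
      rcases i with i | i <;> exact i.elim0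
    exact Subsingleton.elim _ _
  · apply commutator_top_of_equiv e
    apply LieClassical.SympPerfect.commutator_eq_top
    have h2 : 2 ≤ Nat.card K := Finite.one_lt_card
    rw [Nat.card_eq_fintype_card] at *
    by_cases h4 : 4 ≤ Fintype.card K
    · exact Or.inr (Or.inr h4)
    by_cases h3 : 3 ≤ k
    · exact Or.inl h3
    right
    left
    obtain h5 | h5 : k = 1 ∨ k = 2 := by omega
    · exfalso
      obtain h6 | h6 : Fintype.card K = 2 ∨ Fintype.card K = 3 := by omega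
      · exact h12 ⟨h5, h6⟩
      · exact h13 ⟨h5, h6⟩
    · refine ⟨h5, ?_⟩
      by_contra h6
      exact h22 ⟨h5, by omega⟩

end general

end Cfsg.Agent.H845.OZ
end

-- part: H845/OZ/SixCard
section
/-!
# The 2-elements of `S₆` (S4842, helper845)
-/

set_option autoImplicit false

namespace Cfsg.Agent.H845.OZ

/-- The cycle types of the 2-elements of `S₆`. -/
theorem six_types {σ : Equiv.Perm (Fin 6)} (h : σ ^ 2 ^ 4 = 1) :
    σ.cycleType = 0 ∨ σ.cycleType = {2, 2} ∨ σ.cycleType = {4, 2} ∨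
      σ.cycleType = {2} ∨ σ.cycleType = {2, 2, 2} ∨ σ.cycleType = {4} := by
  have hsum : σ.cycleType.sum ≤ 6 := by simpa using σ.sum_cycleType_le
  have hmem : ∀ n ∈ σ.cycleType, n = 2 ∨ n = 4 := by
    intro n hn
    have h1 : n ∣ 2 ^ 4 :=
      (Equiv.Perm.dvd_of_mem_cycleType hn).trans (orderOf_dvd_of_pow_eq_one h)
    have h2 : 2 ≤ n := Equiv.Perm.two_le_of_mem_cycleType hn
    have h3 : n ≤ 6 := (Multiset.le_sum_of_mem hn).trans hsum
    interval_cases n <;> first | (left; rfl) | (right; rfl) | (exfalso; revert h1; decide)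
  set m := σ.cycleType with hm
  obtain ⟨a, b, hab⟩ : ∃ a b : ℕ, m = Multiset.replicate a 4 + Multiset.replicate b 2 := by
    refine ⟨m.count 4, m.count 2, Multiset.ext.2 fun n => ?_⟩
    rw [Multiset.count_add, Multiset.count_replicate, Multiset.count_replicate]
    by_cases h4 : n = 4
    · subst h4; simp
    · by_cases h2 : n = 2
      · subst h2; simp
      · rw [if_neg (fun hh => h4 hh.symm), if_neg (fun hh => h2 hh.symm)]
        exact Multiset.count_eq_zero.2 fun hn => (hmem n hn).elim h2 h4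
  have hs : 4 * a + 2 * b ≤ 6 := by
    rw [hab] at hsum
    simpa only [mul_comm, _root_.Multiset.sum_add, _root_.Multiset.sum_replicate, _root_.smul_eq_mul] using hsum
  have ha : a ≤ 1 := by omega
  have hb : b ≤ 3 := by omega
  rw [hab]
  interval_cases a <;> interval_cases b <;> first | omega | decide

theorem six_card (m : Multiset ℕ) (k : ℕ) (h : m.sum ≤ 6 ∧ ∀ a ∈ m, 2 ≤ a)
    (hk : Nat.factorial 6 / (Nat.factorial (6 - m.sum) * m.prod *
      (∏ n ∈ m.toFinset, Nat.factorial (m.count n))) = k) :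
    (Finset.univ.filter (fun σ : Equiv.Perm (Fin 6) => σ.cycleType = m)).card = k := by
  rw [Equiv.Perm.card_of_cycleType, if_pos (by simpa only [_root_.Fintype.card_fin] using h), ← hk, Fintype.card_fin]

theorem six_pow {σ : Equiv.Perm (Fin 6)} {m : Multiset ℕ} (hm : ∀ n ∈ m, n ∣ 2 ^ 4)
    (h : σ.cycleType = m) : σ ^ 2 ^ 4 = 1 := by
  apply orderOf_dvd_iff_pow_eq_one.1
  rw [← Equiv.Perm.lcm_cycleType, h]
  exact Multiset.lcm_dvd.2 hm

theorem card_even : (Finset.univ.filter (fun σ : Equiv.Perm (Fin 6) =>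
    σ ^ 2 ^ 4 = 1 ∧ Equiv.Perm.sign σ = 1)).card = 136 := by
  have e : Finset.univ.filter (fun σ : Equiv.Perm (Fin 6) =>
      σ ^ 2 ^ 4 = 1 ∧ Equiv.Perm.sign σ = 1) =
      (Finset.univ.filter (fun σ : Equiv.Perm (Fin 6) => σ.cycleType = 0)) ∪
      ((Finset.univ.filter (fun σ : Equiv.Perm (Fin 6) => σ.cycleType = {2, 2})) ∪
      (Finset.univ.filter (fun σ : Equiv.Perm (Fin 6) => σ.cycleType = {4, 2}))) := by
    ext σ
    simp only [Finset.mem_union, Finset.mem_filter, Finset.mem_univ, true_and]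
    constructor
    · rintro ⟨h, hs⟩
      rw [Equiv.Perm.sign_of_cycleType] at hs
      rcases six_types h with h | h | h | h | h | h
      · exact Or.inl h
      · exact Or.inr (Or.inl h)
      · exact Or.inr (Or.inr h)
      all_goals
        rw [h] at hs
        exact absurd hs (by decide)
    · rintro (h | h | h)
      all_goals
        refine ⟨six_pow (by decide) h, ?_⟩
        rw [Equiv.Perm.sign_of_cycleType, h]
        decide
  rw [e, Finset.card_union_of_disjoint, Finset.card_union_of_disjoint,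
    six_card 0 1 (by decide) (by decide), six_card {2, 2} 45 (by decide) (by decide),
    six_card {4, 2} 90 (by decide) (by decide)]
  · rw [Finset.disjoint_filter]
    intro σ _ h1 h2
    rw [h1] at h2
    exact absurd h2 (by decide)
  · rw [Finset.disjoint_union_right, Finset.disjoint_filter, Finset.disjoint_filter]
    refine ⟨fun σ _ h1 h2 => ?_, fun σ _ h1 h2 => ?_⟩
    all_goals
      rw [h1] at h2
      exact absurd h2 (by decide)

theorem card_odd : (Finset.univ.filter (fun σ : Equiv.Perm (Fin 6) =>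
    σ ^ 2 ^ 4 = 1 ∧ ¬ Equiv.Perm.sign σ = 1)).card = 120 := by
  have e : Finset.univ.filter (fun σ : Equiv.Perm (Fin 6) =>
      σ ^ 2 ^ 4 = 1 ∧ ¬ Equiv.Perm.sign σ = 1) =
      (Finset.univ.filter (fun σ : Equiv.Perm (Fin 6) => σ.cycleType = {2})) ∪
      ((Finset.univ.filter (fun σ : Equiv.Perm (Fin 6) => σ.cycleType = {2, 2, 2})) ∪
      (Finset.univ.filter (fun σ : Equiv.Perm (Fin 6) => σ.cycleType = {4}))) := by
    ext σ
    simp only [Finset.mem_union, Finset.mem_filter, Finset.mem_univ, true_and]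
    constructor
    · rintro ⟨h, hs⟩
      rw [Equiv.Perm.sign_of_cycleType] at hs
      rcases six_types h with h | h | h | h | h | h
      · exact absurd (by rw [h]; decide) hs
      · exact absurd (by rw [h]; decide) hs
      · exact absurd (by rw [h]; decide) hs
      · exact Or.inl h
      · exact Or.inr (Or.inl h)
      · exact Or.inr (Or.inr h)
    · rintro (h | h | h)
      all_goals
        refine ⟨six_pow (by decide) h, ?_⟩
        rw [Equiv.Perm.sign_of_cycleType, h]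
        decide
  rw [e, Finset.card_union_of_disjoint, Finset.card_union_of_disjoint,
    six_card {2} 15 (by decide) (by decide), six_card {2, 2, 2} 15 (by decide) (by decide),
    six_card {4} 90 (by decide) (by decide)]
  · rw [Finset.disjoint_filter]
    intro σ _ h1 h2
    rw [h1] at h2
    exact absurd h2 (by decide)
  · rw [Finset.disjoint_union_right, Finset.disjoint_filter, Finset.disjoint_filter]
    refine ⟨fun σ _ h1 h2 => ?_, fun σ _ h1 h2 => ?_⟩
    all_goals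
      rw [h1] at h2
      exact absurd h2 (by decide)

end Cfsg.Agent.H845.OZ
end

-- part: H845/OZ/SpSix
section
/-!
# The sum of a linear character over the `p`-elements; `S₆` (S4842, helper845)

* `psum p f` : the sum of the linear character `f` over the elements of `p`-power order;
* `psum_perm` : `256` or `16` for `S₆`, `p = 2`.
-/

set_option autoImplicit false
set_option linter.unusedSectionVars false

open Cfsg

namespace Cfsg.Agent.H845.OZ

open Cfsg.Agent.H730.OZ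

universe u v w

/-- the sum of a linear character over the elements of `p`-power order -/
noncomputable def psum (p : ℕ) {G : Type u} [Group G] (f : G →* ℂˣ) : ℂ := ∑ᶠ g ∈ pSet p G, ((f g : ℂˣ) : ℂ)

theorem psum_congr (p : ℕ) {G : Type u} {H : Type v} [Group G] [Group H] (e : G ≃* H) (f : G →* ℂˣ) :
    psum p f = psum p (f.comp e.symm.toMonoidHom) := by
  refine finsum_mem_eq_of_bijOn e ⟨?_, e.injective.injOn, ?_⟩ ?_
  · rintro x ⟨k, hk⟩
    exact ⟨k, by rw [← hk]; exact MulEquiv.orderOf_eq e x⟩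
  · rintro x ⟨k, hk⟩
    refine ⟨e.symm x, ⟨k, ?_⟩, e.apply_symm_apply x⟩
    rw [← hk]
    exact MulEquiv.orderOf_eq e.symm x
  · intro x _
    change _ = ((f (e.symm (e x)) : ℂˣ) : ℂ)
    rw [e.symm_apply_apply]

theorem mem_pSet_iff {G : Type u} [Group G] [Finite G] {p N m : ℕ} (hp : p.Prime) (hG : Nat.card G = p ^ N * m)
    (hm : ¬ p ∣ m) (g : G) : g ∈ pSet p G ↔ g ^ p ^ N = 1 := by
  constructor
  · rintro ⟨k, hk⟩
    have h1 : p ^ k ∣ p ^ N * m := by
      rw [← hk, ← hG]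
      exact orderOf_dvd_natCard g
    have h2 : p ^ k ∣ p ^ N :=
      (Nat.Coprime.pow_left k ((Nat.Prime.coprime_iff_not_dvd hp).2 hm)).dvd_of_dvd_mul_right h1
    rw [← orderOf_dvd_iff_pow_eq_one, hk]
    exact h2
  · intro h
    obtain ⟨k, -, hk⟩ := (Nat.dvd_prime_pow hp).1 (orderOf_dvd_of_pow_eq_one h)
    exact ⟨k, hk⟩

theorem psum_eq {G : Type u} [Group G] [Fintype G] [DecidableEq G] {p N m : ℕ} (hp : p.Prime)
    (hG : Nat.card G = p ^ N * m) (hm : ¬ p ∣ m) (f : G →* ℂˣ) :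
    psum p f = ∑ g ∈ Finset.univ.filter (fun g : G => g ^ p ^ N = 1), ((f g : ℂˣ) : ℂ) := by
  have h1 : pSet p G = ((Finset.univ.filter (fun g : G => g ^ p ^ N = 1) : Finset G) : Set G) := by
    ext g
    rw [mem_pSet_iff hp hG hm]
    simp
  rw [psum, h1, finsum_mem_coe_finset]

theorem sq_units {c : ℂˣ} (h : c ^ 2 = 1) : ((c : ℂˣ) : ℂ) = 1 ∨ ((c : ℂˣ) : ℂ) = -1 := by
  have h1 : ((c : ℂˣ) : ℂ) ^ 2 = 1 := by rw [← Units.val_pow_eq_pow_val, h, Units.val_one]
  rw [sq] at h1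
  exact mul_self_eq_one_iff.1 h1

/-! ### `S₆` -/

theorem lin_perm (f : Equiv.Perm (Fin 6) →* ℂˣ) :
    ∃ c : ℂˣ, c ^ 2 = 1 ∧ ∀ σ, f σ = if Equiv.Perm.sign σ = 1 then 1 else c := by
  let s : Equiv.Perm (Fin 6) := Equiv.swap 0 1
  have hs : ∀ x y : Fin 6, x ≠ y → f (Equiv.swap x y) = f s := by
    intro x y hxy
    obtain ⟨g, hg⟩ := isConj_iff.1 (Equiv.Perm.isConj_swap hxy (show (0 : Fin 6) ≠ 1 by decide))
    have h1 := congrArg f hg
    rw [map_mul, map_mul, map_inv, mul_comm, inv_mul_cancel_left] at h1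
    exact h1
  have hc : f s ^ 2 = 1 := by
    rw [← map_pow, sq, Equiv.swap_mul_self, map_one]
  refine ⟨f s, hc, fun σ => ?_⟩
  refine Equiv.Perm.swap_induction_on (motive := fun σ => f σ = if Equiv.Perm.sign σ = 1 then 1 else f s) σ ?_ ?_
  · rw [map_one, map_one, if_pos rfl]
  · intro τ x y hxy ih
    rw [map_mul, ih, hs x y hxy, map_mul, Equiv.Perm.sign_swap hxy]
    rcases Int.units_eq_one_or (Equiv.Perm.sign τ) with h | h
    · rw [h, if_pos rfl, if_neg (by decide), mul_one]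
    · rw [h, if_neg (by decide), if_pos (by decide), ← sq, hc]

theorem psum_perm (f : Equiv.Perm (Fin 6) →* ℂˣ) : psum 2 f = 256 ∨ psum 2 f = 16 := by
  obtain ⟨c, hc, hf⟩ := lin_perm f
  have hcard : Nat.card (Equiv.Perm (Fin 6)) = 2 ^ 4 * 45 := by
    rw [Nat.card_eq_fintype_card, Fintype.card_perm, Fintype.card_fin]
    decide
  have h1 : psum 2 f = 136 + 120 * (c : ℂ) := by
    rw [psum_eq Nat.prime_two hcard (by norm_num) f,
      ← Finset.sum_filter_add_sum_filter_not _ (fun σ : Equiv.Perm (Fin 6) => Equiv.Perm.sign σ = 1),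
      Finset.filter_filter, Finset.filter_filter]
    refine congrArg₂ (· + ·) ?_ ?_
    · rw [Finset.sum_congr rfl (g := fun _ => (1 : ℂ)), Finset.sum_const, card_even]
      · norm_num
      · intro σ hσ
        rw [hf, if_pos (Finset.mem_filter.1 hσ).2.2, Units.val_one]
    · rw [Finset.sum_congr rfl (g := fun _ => (c : ℂ)), Finset.sum_const, card_odd]
      · norm_num
      · intro σ hσ
        rw [hf, if_neg (Finset.mem_filter.1 hσ).2.2]
  rcases sq_units hc with h | h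
  · left; rw [h1, h]; norm_num
  · right; rw [h1, h]; norm_num

end Cfsg.Agent.H845.OZ
end

-- part: H845/OZ/SpSum
section
/-!
# Linear characters of `Sp₂(2)`, `Sp₂(3)`, `Sp₄(2)`: the sum over the `p`-elements (S4842, helper845)

* `psum_12` : `4` or `-2`; `psum_13` : `9` or `-3`; `psum_22` : `256` or `16`.
-/

set_option autoImplicit false
set_option linter.unusedSectionVars false

open Cfsg

namespace Cfsg.Agent.H845.OZ

open Module Cfsg.Agent.H477.HC Cfsg.Agent.H477.OZ Cfsg.Agent.H730.OZ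

universe u v w

/-! ### `SL₂(2)`, `SL₂(3)` -/

/-- `SL₂(2)` -/
abbrev G2 := Matrix.SpecialLinearGroup (Fin 2) (ZMod 2)
/-- `SL₂(3)` -/
abbrev G3 := Matrix.SpecialLinearGroup (Fin 2) (ZMod 3)

/-- a transvection -/
def t2 : G2 := ⟨!![1, 1; 0, 1], by decide⟩
/-- a transvection -/
def t3 : G3 := ⟨!![1, 1; 0, 1], by decide⟩

theorem G2_a : ∀ g : G2, g ^ 2 ^ 1 = 1 → g = 1 ∨ ∃ h : G2, h * t2 * h⁻¹ = g := by decide +kernel
theorem G2_c : (Finset.univ.filter (fun g : G2 => g ^ 2 ^ 1 = 1 ∧ ¬ g = 1)).card = 3 := by decide +kernel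
theorem G2_card : Fintype.card G2 = 6 := by decide +kernel
theorem G2_t : t2 ^ 2 = 1 := by decide +kernel
theorem G3_a : ∀ g : G3, g ^ 3 ^ 1 = 1 → g = 1 ∨ (∃ h : G3, h * t3 * h⁻¹ = g) ∨
    (∃ h : G3, h * t3⁻¹ * h⁻¹ = g) := by decide +kernel
theorem G3_c : (Finset.univ.filter (fun g : G3 => g ^ 3 ^ 1 = 1 ∧ ∃ h : G3, h * t3 * h⁻¹ = g)).card = 4 := by
  decide +kernel
theorem G3_d : (Finset.univ.filter (fun g : G3 => (g ^ 3 ^ 1 = 1 ∧ ¬ ∃ h : G3, h * t3 * h⁻¹ = g) ∧ ¬ g = 1)).card = 4 := by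
  decide +kernel
theorem G3_e : (Finset.univ.filter (fun g : G3 => (g ^ 3 ^ 1 = 1 ∧ ¬ ∃ h : G3, h * t3 * h⁻¹ = g) ∧ g = 1)).card = 1 := by
  decide +kernel
theorem G3_card : Fintype.card G3 = 24 := by decide +kernel
theorem G3_t : t3 ^ 3 = 1 := by decide +kernel

theorem conj_eq {G : Type u} [Group G] (f : G →* ℂˣ) (h t : G) : f (h * t * h⁻¹) = f t := by
  rw [map_mul, map_mul, map_inv, mul_comm, inv_mul_cancel_left]

theorem psum_G2 (f : G2 →* ℂˣ) : psum 2 f = 4 ∨ psum 2 f = -2 := by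
  have hcard : Nat.card G2 = 2 ^ 1 * 3 := by
    rw [Nat.card_eq_fintype_card, G2_card]
    norm_num
  have h1 : psum 2 f = 1 + 3 * (f t2 : ℂ) := by
    rw [psum_eq Nat.prime_two hcard (by norm_num) f,
      ← Finset.sum_filter_add_sum_filter_not _ (fun g : G2 => g = 1), Finset.filter_filter, Finset.filter_filter]
    congr 1
    · have h2 : (Finset.univ.filter (fun g : G2 => g ^ 2 ^ 1 = 1 ∧ g = 1)) = {1} := by
        ext g
        simp only [Finset.mem_filter, Finset.mem_univ, true_and, Finset.mem_singleton]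
        constructor
        · exact fun h => h.2
        · rintro rfl
          exact ⟨one_pow _, rfl⟩
      rw [h2, Finset.sum_singleton, map_one, Units.val_one]
    · rw [Finset.sum_congr rfl (g := fun _ => (f t2 : ℂ)), Finset.sum_const, G2_c]
      · norm_num
      · intro g hg
        obtain ⟨h, rfl⟩ := (G2_a g (Finset.mem_filter.1 hg).2.1).resolve_left (Finset.mem_filter.1 hg).2.2
        rw [conj_eq]
  have hc : f t2 ^ 2 = 1 := by rw [← map_pow, G2_t, map_one]
  rcases sq_units hc with h | h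
  · left; rw [h1, h]; norm_num
  · right; rw [h1, h]; norm_num

theorem psum_G3 (f : G3 →* ℂˣ) : psum 3 f = 9 ∨ psum 3 f = -3 := by
  have hcard : Nat.card G3 = 3 ^ 1 * 8 := by
    rw [Nat.card_eq_fintype_card, G3_card]
    norm_num
  have h1 : psum 3 f = 4 * (f t3 : ℂ) + (1 + 4 * ((f t3)⁻¹ : ℂˣ)) := by
    rw [psum_eq Nat.prime_three hcard (by norm_num) f,
      ← Finset.sum_filter_add_sum_filter_not _ (fun g : G3 => ∃ h : G3, h * t3 * h⁻¹ = g), Finset.filter_filter,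
      Finset.filter_filter]
    congr 1
    · rw [Finset.sum_congr rfl (g := fun _ => (f t3 : ℂ)), Finset.sum_const, G3_c]
      · norm_num
      · intro g hg
        obtain ⟨h, rfl⟩ := (Finset.mem_filter.1 hg).2.2
        rw [conj_eq]
    · rw [← Finset.sum_filter_add_sum_filter_not _ (fun g : G3 => g = 1), Finset.filter_filter, Finset.filter_filter]
      congr 1
      · rw [Finset.sum_congr rfl (g := fun _ => (1 : ℂ)), Finset.sum_const, G3_e]
        · norm_num
        · intro g hg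
          rw [(Finset.mem_filter.1 hg).2.2, map_one, Units.val_one]
      · rw [Finset.sum_congr rfl (g := fun _ => (((f t3)⁻¹ : ℂˣ) : ℂ)), Finset.sum_const, G3_d]
        · norm_num
        · intro g hg
          obtain ⟨⟨h2, h3⟩, h4⟩ := (Finset.mem_filter.1 hg).2
          obtain ⟨h, rfl⟩ := ((G3_a g h2).resolve_left h4).resolve_left h3
          rw [conj_eq, map_inv]
  have hc : (f t3 : ℂ) ^ 3 = 1 := by
    rw [← Units.val_pow_eq_pow_val, ← map_pow, G3_t, map_one, Units.val_one]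
  have h0 : (f t3 : ℂ) ≠ 0 := Units.ne_zero _
  have hi : (((f t3)⁻¹ : ℂˣ) : ℂ) = (f t3 : ℂ) ^ 2 := by
    rw [Units.val_inv_eq_inv_val]
    field_simp
    exact hc.symm
  rw [h1, hi]
  by_cases h : (f t3 : ℂ) = 1
  · left; rw [h]; norm_num
  · right
    have h2 : (f t3 : ℂ) ^ 2 + (f t3 : ℂ) + 1 = 0 := by
      have h3 : ((f t3 : ℂ) - 1) * ((f t3 : ℂ) ^ 2 + (f t3 : ℂ) + 1) = 0 := by
        linear_combination hc
      exact (mul_eq_zero.1 h3).resolve_left (sub_ne_zero.2 h)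
    linear_combination 4 * h2

/-- `Sp₂ = SL₂` -/
def spTwo (F : Type u) [Field F] : Matrix.symplecticGroup (Fin 1) F ≃* Matrix.SpecialLinearGroup (Fin 2) F where
  toFun A := ⟨Matrix.reindex finSumFinEquiv finSumFinEquiv (A : Matrix (Fin 1 ⊕ Fin 1) (Fin 1 ⊕ Fin 1) F), by
    rw [Matrix.det_reindex_self]
    exact (S0244.result _).1 A.2⟩
  invFun A := ⟨Matrix.reindex finSumFinEquiv.symm finSumFinEquiv.symm (A : Matrix (Fin 2) (Fin 2) F), by
    rw [S0244.result, Matrix.det_reindex_self]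
    exact A.2⟩
  left_inv A := by
    apply Subtype.ext
    ext i j
    simp
  right_inv A := by
    apply Subtype.ext
    ext i j
    simp
  map_mul' A B := by
    apply Subtype.ext
    change Matrix.reindex finSumFinEquiv finSumFinEquiv (A.1 * B.1) =
      Matrix.reindex finSumFinEquiv finSumFinEquiv A.1 * Matrix.reindex finSumFinEquiv finSumFinEquiv B.1
    rw [Matrix.reindex_apply, Matrix.reindex_apply, Matrix.reindex_apply, Matrix.submatrix_mul_equiv]

section general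

variable {K : Type u} [Field K] {V : Type v} [AddCommGroup V] [Module K V] (F : CForm K V)

/-- **`Sp₂(2)`** -/
theorem psum_12 [Finite K] [FiniteDimensional K V] {W U : Submodule K V} (hc : IsCompl U W)
    (ho : ∀ u ∈ U, ∀ w ∈ W, F.B u w = 0) (hσ : ∀ a, F.σ a = a) (hQ : ∀ v, F.Q v = 0)
    (hd : finrank K W = 2) {L : Subgroup F.iso} (hL : ∀ g : F.iso, g ∈ L ↔ ∀ u ∈ U, (g : V ≃ₗ[K] V) u = u)
    (hK : Nat.card K = 2) (f : L →* ℂˣ) : psum 2 f = 4 ∨ psum 2 f = -2 := by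
  obtain ⟨e⟩ := exists_equiv_sp F hc ho hσ hQ (k := 1) hd hL
  have := Fintype.ofFinite K
  rw [Nat.card_eq_fintype_card] at hK
  let e' := (e.trans (LieClassical.SpFourTwo.symplecticCongr (ZMod.ringEquivOfPrime K Nat.prime_two hK).symm)).trans
    (spTwo (ZMod 2))
  rw [psum_congr 2 e' f]
  exact psum_G2 _

/-- **`Sp₂(3)`** -/
theorem psum_13 [Finite K] [FiniteDimensional K V] {W U : Submodule K V} (hc : IsCompl U W)
    (ho : ∀ u ∈ U, ∀ w ∈ W, F.B u w = 0) (hσ : ∀ a, F.σ a = a) (hQ : ∀ v, F.Q v = 0)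
    (hd : finrank K W = 2) {L : Subgroup F.iso} (hL : ∀ g : F.iso, g ∈ L ↔ ∀ u ∈ U, (g : V ≃ₗ[K] V) u = u)
    (hK : Nat.card K = 3) (f : L →* ℂˣ) : psum 3 f = 9 ∨ psum 3 f = -3 := by
  obtain ⟨e⟩ := exists_equiv_sp F hc ho hσ hQ (k := 1) hd hL
  have := Fintype.ofFinite K
  rw [Nat.card_eq_fintype_card] at hK
  let e' := (e.trans (LieClassical.SpFourTwo.symplecticCongr (ZMod.ringEquivOfPrime K Nat.prime_three hK).symm)).trans
    (spTwo (ZMod 3))
  rw [psum_congr 3 e' f]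
  exact psum_G3 _

/-- **`Sp₄(2)`** -/
theorem psum_22 [Finite K] [FiniteDimensional K V] {W U : Submodule K V} (hc : IsCompl U W)
    (ho : ∀ u ∈ U, ∀ w ∈ W, F.B u w = 0) (hσ : ∀ a, F.σ a = a) (hQ : ∀ v, F.Q v = 0)
    (hd : finrank K W = 4) {L : Subgroup F.iso} (hL : ∀ g : F.iso, g ∈ L ↔ ∀ u ∈ U, (g : V ≃ₗ[K] V) u = u)
    (hK : Nat.card K = 2) (f : L →* ℂˣ) : psum 2 f = 256 ∨ psum 2 f = 16 := by
  obtain ⟨e⟩ := exists_equiv_sp F hc ho hσ hQ (k := 2) hd hL
  have := Fintype.ofFinite K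
  rw [Nat.card_eq_fintype_card] at hK
  obtain ⟨e2⟩ := LieClassical.SpFourTwo.nonempty_equiv_perm hK
  rw [psum_congr 2 (e.trans e2) f]
  exact psum_perm _

end general

end Cfsg.Agent.H845.OZ
end

-- part: H845/OZ/SpY
section
/-!
# The isometries fixing `[V, y]` pointwise, `y` big, `F` alternating (S4842, helper845)

For `y : F.iso`, `Big y r`, `dim C_V(y) = 2 k`, `L = {g ∈ F.iso | g = 1 on [V, y]}`:
* `Big.commutator_fix_eq_top` : `L` is perfect unless `(k, |K|)` is `(1, 2)`, `(1, 3)`, `(2, 2)`;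
* `Big.fix_eq_bot` : `L = ⊥` for `k = 0`;
* `Big.sum_mem_cSet` : in the exceptional cases, the sum of a linear character of `L` over the `p`-elements is in `cSet`;
-/

set_option autoImplicit false
set_option linter.unusedSectionVars false

open Cfsg

namespace Cfsg.Agent.H845.OZ

open Module Cfsg.Agent.H477.HC Cfsg.Agent.H477.OZ Cfsg.Agent.H730.OZ

universe u v

variable {K : Type u} [Field K] [Finite K] {V : Type v} [AddCommGroup V] [Module K V] [FiniteDimensional K V]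
  {F : CForm K V} {y : F.iso} {r : ℕ}

theorem Big.commutator_fix_eq_top (h : Big (y : V ≃ₗ[K] V) r) (hσ : ∀ a, F.σ a = a) (hQ : ∀ v, F.Q v = 0) {k : ℕ}
    (hd : finrank K (fixS (y : V ≃ₗ[K] V)) = 2 * k) {L : Subgroup F.iso}
    (hL : ∀ g : F.iso, g ∈ L ↔ ∀ u ∈ comS (y : V ≃ₗ[K] V), (g : V ≃ₗ[K] V) u = u)
    (h12 : ¬ (k = 1 ∧ Nat.card K = 2)) (h13 : ¬ (k = 1 ∧ Nat.card K = 3)) (h22 : ¬ (k = 2 ∧ Nat.card K = 2)) :
    commutator L = ⊤ :=
  commutator_eq_top F h.isCompl (fun _ hu _ hw => B_com_fix F hu hw) hσ hQ hd hL h12 h13 h22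

theorem Big.fix_eq_bot (h : Big (y : V ≃ₗ[K] V) r) (hd : finrank K (fixS (y : V ≃ₗ[K] V)) = 0) {L : Subgroup F.iso}
    (hL : ∀ g : F.iso, g ∈ L ↔ ∀ u ∈ comS (y : V ≃ₗ[K] V), (g : V ≃ₗ[K] V) u = u) : L = ⊥ := by
  rw [Subgroup.eq_bot_iff_forall]
  intro g hg
  apply Subtype.ext
  apply LinearEquiv.ext
  intro v
  have h1 : comS (y : V ≃ₗ[K] V) = ⊤ := by
    have h2 := h.isCompl.sup_eq_top
    rwa [Submodule.finrank_eq_zero.1 hd, sup_bot_eq] at h2
  exact (hL g).1 hg v (h1 ▸ Submodule.mem_top)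

/-- The exceptional cases. -/
theorem Big.sum_mem_cSet (h : Big (y : V ≃ₗ[K] V) r) (hσ : ∀ a, F.σ a = a) (hQ : ∀ v, F.Q v = 0) {k : ℕ}
    (hd : finrank K (fixS (y : V ≃ₗ[K] V)) = 2 * k) {L : Subgroup F.iso}
    (hL : ∀ g : F.iso, g ∈ L ↔ ∀ u ∈ comS (y : V ≃ₗ[K] V), (g : V ≃ₗ[K] V) u = u) {p : ℕ} [CharP K p] (v : ℕ)
    (hex : (k = 1 ∧ Nat.card K = 2) ∨ (k = 1 ∧ Nat.card K = 3) ∨ (k = 2 ∧ Nat.card K = 2)) (f : L →* ℂˣ) :
    ∃ c ∈ cSet p v (Nat.card K) k, ∑ᶠ g ∈ pSet p L, ((f g : ℂˣ) : ℂ) = (c : ℂ) := by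
  have hp : ∀ l : ℕ, l.Prime → Nat.card K = l → p = l := by
    intro l hl hK
    have := Fintype.ofFinite K
    have h1 := FiniteField.card K p
    obtain ⟨n, hn, hn'⟩ := h1
    rw [Nat.card_eq_fintype_card, hn'] at hK
    have h2 : p ∣ l := by rw [← hK]; exact dvd_pow_self p n.2.ne'
    exact (Nat.prime_dvd_prime_iff_eq hn hl).1 h2
  have ho : ∀ u ∈ comS (y : V ≃ₗ[K] V), ∀ w ∈ fixS (y : V ≃ₗ[K] V), F.B u w = 0 := fun _ hu _ hw => B_com_fix F hu hw
  rcases hex with ⟨hk, hK⟩ | ⟨hk, hK⟩ | ⟨hk, hK⟩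
  · subst hk
    obtain rfl := hp 2 Nat.prime_two hK
    rcases psum_12 F h.isCompl ho hσ hQ hd hL hK f with h1 | h1
    · exact ⟨4, Or.inr (Or.inl ⟨rfl, hK, Or.inl rfl⟩), by rw [← psum, h1]; norm_num⟩
    · exact ⟨-2, Or.inr (Or.inl ⟨rfl, hK, Or.inr rfl⟩), by rw [← psum, h1]; norm_num⟩
  · subst hk
    obtain rfl := hp 3 Nat.prime_three hK
    rcases psum_13 F h.isCompl ho hσ hQ hd hL hK f with h1 | h1
    · exact ⟨9, Or.inr (Or.inr (Or.inl ⟨rfl, hK, Or.inl rfl⟩)), by rw [← psum, h1]; norm_num⟩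
    · exact ⟨-3, Or.inr (Or.inr (Or.inl ⟨rfl, hK, Or.inr rfl⟩)), by rw [← psum, h1]; norm_num⟩
  · subst hk
    obtain rfl := hp 2 Nat.prime_two hK
    rcases psum_22 F h.isCompl ho hσ hQ hd hL hK f with h1 | h1
    · exact ⟨256, Or.inr (Or.inr (Or.inr (Or.inl ⟨rfl, hK, Or.inl rfl⟩))), by rw [← psum, h1]; norm_num⟩
    · exact ⟨16, Or.inr (Or.inr (Or.inr (Or.inl ⟨rfl, hK, Or.inr rfl⟩))), by rw [← psum, h1]; norm_num⟩

end Cfsg.Agent.H845.OZ
end

-- part: H477/OZ/SpC
section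
/-!
# `PSp_{2n}(q)`, `n ≥ 5` (S4842, helper477)

* `finite_iso` : finiteness of the isometry group;
* `congS_psp` : one congruence, any `n`; `spCong_psp` : the congruences `SpCong p n q (PSp_{2n}(q))`;
* `congS_psp_two` : `n - k = 2`, `q ≥ 4` (`PSp_4`, `PSp_6`);
* `row_psp_five` : the row.
-/

set_option autoImplicit false

open Cfsg Cfsg.Agent.H730.OZ

namespace Cfsg.Agent.H477.OZ

open Module Cfsg.Agent.H477.HC

universe u v

theorem finite_iso {K : Type u} [Field K] {V : Type v} [AddCommGroup V] [Module K V] [Finite K] [FiniteDimensional K V]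
    (F : CForm K V) : Finite F.iso := by
  have : Finite V := Module.finite_of_finite K
  have : Finite (V ≃ₗ[K] V) :=
    Finite.of_injective (fun e => (e : V → V)) (fun a b hab => LinearEquiv.ext fun v => congrFun hab v)
  exact Subtype.finite

theorem num_ineq {q j ν : ℕ} (hj : 3 ≤ j) (h : (ν = 1 ∧ 2 ≤ q) ∨ (ν = 2 ∧ 3 ≤ q)) :
    ν * (ν * (2 * j) + 1) < q ^ j + 1 := by
  have h2 : ∀ j : ℕ, 3 ≤ j → 2 * j < 2 ^ j := by
    intro j hj
    induction j, hj using Nat.le_induction with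
    | base => norm_num
    | succ j hj ih => rw [pow_succ]; omega
  have h3 : ∀ j : ℕ, 3 ≤ j → 8 * j + 2 < 3 ^ j + 1 := by
    intro j hj
    induction j, hj using Nat.le_induction with
    | base => norm_num
    | succ j hj ih => rw [pow_succ]; omega
  rcases h with ⟨rfl, hq⟩ | ⟨rfl, hq⟩
  · have := (h2 j hj).trans_le (Nat.pow_le_pow_left hq j)
    omega
  · have := (h3 j hj).trans_le (Nat.succ_le_succ (Nat.pow_le_pow_left hq j))
    omega

/-- **One congruence for `PSp_{2n}(q)`**, any `n`. -/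
theorem congS_psp {S : Type u} [Group S] [Finite S] {F : Type} [Field F] [Fintype F] {n : ℕ} (e : S ≃* PSp n F)
    (hn : 1 ≤ n) {p : ℕ} [CharP F p] {k r : ℕ} (hk : 2 * k < n) (hr : r.Prime)
    (hord : orderOf ((Fintype.card F : ℕ) : ZMod r) = 2 * (n - k))
    (hnum0 : ∀ ν : ℕ, ν = Nat.gcd 2 (Fintype.card F - 1) →
      ν * (ν * (2 * (n - k)) + 1) < Fintype.card F ^ (n - k) + 1) :
    CongS p r (cSet p ((Nat.card S).factorization p) (Fintype.card F) k) S := by
  intro χ hχ h0 m ε hε hs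
  obtain ⟨hp, a, ha, hq⟩ := H366.OZ.exists_pow F p
  have hpf : Fact p.Prime := ⟨hp⟩
  have hrf : Fact r.Prime := ⟨hr⟩
  obtain ⟨π, hπ, hker, hkc⟩ := H366.OZ.exists_pi e hn
  set q := Fintype.card F with hqdef
  have hqN : Nat.card F = q := Nat.card_eq_fintype_card
  have hq1 : 1 < q := Fintype.one_lt_card
  have hfin : Finite (CForm.spF F n).iso := finite_iso _
  -- numbers
  have hrq : ¬ r ∣ q := by
    intro hd
    have h1 : ((q : ℕ) : ZMod r) = 0 := (ZMod.natCast_eq_zero_iff q r).2 hd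
    have h2 := pow_orderOf_eq_one ((q : ℕ) : ZMod r)
    rw [hord, h1, zero_pow (by omega)] at h2
    exact zero_ne_one h2
  have hle := le_sub_one (q := q) hr hrq
  rw [hord] at hle
  have hrp : r ≠ p := by
    rintro rfl
    exact hrq (by rw [hq]; exact dvd_pow_self r (by omega))
  have hkr : ¬ r ∣ Nat.card π.ker := by
    rw [hkc]
    intro hd
    have := Nat.le_of_dvd two_pos (hd.trans (Nat.gcd_dvd_left _ _))
    omega
  have hkp : ¬ p ∣ Nat.card π.ker := by
    rw [hkc]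
    intro hd
    have h2 : p ∣ q - 1 := hd.trans (Nat.gcd_dvd_right _ _)
    have h3 : p ∣ q := by rw [hq]; exact dvd_pow_self p (by omega)
    have h4 := Nat.dvd_sub h3 h2
    rw [Nat.sub_sub_self hq1.le] at h4
    exact hp.one_lt.ne' (Nat.dvd_one.1 h4)
  have hnum : Nat.card π.ker * (Nat.card π.ker * (2 * (n - k)) + 1) < q ^ (n - k) + 1 := hnum0 _ hkc
  have hnum' : Nat.card π.ker * (2 * (n - k) + 1) < q ^ (n - k) + 1 := by
    refine lt_of_le_of_lt ?_ hnum
    refine Nat.mul_le_mul_left _ ?_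
    have : 1 ≤ Nat.card π.ker := Nat.card_pos
    have := Nat.le_mul_of_pos_left (2 * (n - k)) (Nat.card_pos (α := π.ker))
    omega
  -- geometry
  have hfr : finrank F (Fin n ⊕ Fin n → F) = 2 * n := by
    rw [Module.finrank_fintype_fun_eq_card, Fintype.card_sum, Fintype.card_fin]; ring
  have hordN : orderOf ((Nat.card F : ℕ) : ZMod r) = 2 * (n - k) := by rw [hqN]; exact hord
  have hdG : r ∣ Nat.card (CForm.spF F n).iso := by
    rw [card_spF, hqN]
    refine Dvd.dvd.mul_left ?_ _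
    have h1 : r ∣ q ^ (2 * (n - k - 1 + 1)) - 1 := by
      have h2 : ((q ^ (2 * (n - k - 1 + 1)) : ℕ) : ZMod r) = ((1 : ℕ) : ZMod r) := by
        push_cast
        rw [show n - k - 1 + 1 = n - k by (clear * - hk; omega), ← hord, pow_orderOf_eq_one]
      have h3 := (ZMod.natCast_eq_natCast_iff _ _ _).1 h2
      exact (Nat.modEq_iff_dvd' (Nat.one_le_pow _ _ (by omega))).1 h3.symm
    exact h1.trans (Finset.dvd_prod_of_mem _ (Finset.mem_range.2 (by omega : n - k - 1 < n)))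
  let R : Sylow r (CForm.spF F n).iso := default
  obtain ⟨y, hyR, h, hRT, hC, hcyc⟩ := exists_big (F := CForm.spF F n) (r := r) (by rw [hqN]; exact hrq)
    (by rw [hfr, hordN]; (clear * - hk; omega)) R hdG
  have hσ : ∀ a, (CForm.spF F n).σ a = a := fun a => by simp
  have hQ0 : ∀ v, (CForm.spF F n).Q v = 0 := fun v => by simp
  have hQ : ∀ a : (Fin n ⊕ Fin n → F) →ₗ[F] (Fin n ⊕ Fin n → F),
      (∀ v, a ((y : (Fin n ⊕ Fin n → F) ≃ₗ[F] (Fin n ⊕ Fin n → F)) v) =
        (y : (Fin n ⊕ Fin n → F) ≃ₗ[F] (Fin n ⊕ Fin n → F)) (a v)) →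
      (∀ u ∈ comS (y : (Fin n ⊕ Fin n → F) ≃ₗ[F] (Fin n ⊕ Fin n → F)),
        ∀ v ∈ comS (y : (Fin n ⊕ Fin n → F) ≃ₗ[F] (Fin n ⊕ Fin n → F)),
          (CForm.spF F n).B (a u) (a v) = (CForm.spF F n).B u v) →
      ∀ u ∈ comS (y : (Fin n ⊕ Fin n → F) ≃ₗ[F] (Fin n ⊕ Fin n → F)),
        (CForm.spF F n).Q (a u) = (CForm.spF F n).Q u := fun a _ _ u _ => by rw [hQ0, hQ0]
  have hfix : finrank F (fixS (y : (Fin n ⊕ Fin n → F) ≃ₗ[F] (Fin n ⊕ Fin n → F))) = 2 * k := by
    have h1 := Submodule.finrank_add_eq_of_isCompl h.isCompl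
    rw [h.finrank_comS, hordN, hfr] at h1
    (clear * - hk h1; omega)
  have hKC : Ky (CForm.spF F n) y ≤ Subgroup.centralizer ((R : Subgroup (CForm.spF F n).iso) : Set _) := by
    intro g hg
    exact hC (Subgroup.mem_centralizer_singleton_iff.2 (h.Ky_comm hg).eq)
  have hKN : ∀ g ∈ Subgroup.normalizer ((R : Subgroup (CForm.spF F n).iso) : Set _), ∃ c ∈ Ky (CForm.spF F n) y,
      ∀ x ∈ Ky (CForm.spF F n) y, g * x * g⁻¹ = c * x * c⁻¹ := fun g hg => h.inner (h.norm_pow hRT hyR hg)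
  have hpK : ∀ v, Commute y v → v ∈ pSet p (CForm.spF F n).iso → v ∈ Ky (CForm.spF F n) y :=
    fun v hv hvp => h.mem_Ky_of_char hv.symm hvp
  have hjn : 1 ≤ n - k := by (clear * - hk; omega)
  have h2 := h.two_good hσ hjn hordN hQ hRT hyR hC hπ hker hkr (by rw [hqN]; exact hnum')
  have hnd := h.card_cent_or hσ hjn hordN hQ hπ hker hkr (by rw [hqN]; exact hnum)
  have hKmem : ∀ g : (CForm.spF F n).iso, g ∈ Ky (CForm.spF F n) y ↔
      ∀ u ∈ comS (y : (Fin n ⊕ Fin n → F) ≃ₗ[F] (Fin n ⊕ Fin n → F)),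
        (g : (Fin n ⊕ Fin n → F) ≃ₗ[F] (Fin n ⊕ Fin n → F)) u = u := fun g => Iff.rfl
  obtain ⟨f, -, hf⟩ := tr_gen hπ hker hp hrp hkp hkr R hcyc h.orderOf_eq hyR hC hnd _ hKC h.not_dvd_Ky hKN hpK h2 hχ h0 hs
  by_cases hk0 : k = 0
  · -- `K = 1`
    have hbot : Ky (CForm.spF F n) y = ⊥ := H845.OZ.Big.fix_eq_bot h (by rw [hfix, hk0]) hKmem
    refine ⟨1, Or.inl ⟨hk0, rfl⟩, hf 1 ?_⟩
    have h1 : ∀ x : Ky (CForm.spF F n) y, x = 1 := by
      intro x
      apply Subtype.ext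
      exact Subgroup.mem_bot.1 (hbot.le x.2)
    have h3 : pSet p (Ky (CForm.spF F n) y) = {1} := by
      ext x
      rw [Set.mem_singleton_iff]
      exact ⟨fun _ => h1 x, fun hx => ⟨0, by rw [hx, orderOf_one, pow_zero]⟩⟩
    rw [h3, finsum_mem_singleton, map_one, Units.val_one, Int.cast_one]
  by_cases hex : (k = 1 ∧ Nat.card F = 2) ∨ (k = 1 ∧ Nat.card F = 3) ∨ (k = 2 ∧ Nat.card F = 2)
  · obtain ⟨c, hc, hcs⟩ := H845.OZ.Big.sum_mem_cSet (p := p) h hσ hQ0 hfix hKmem ((Nat.card S).factorization p) hex f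
    rw [hqN] at hc
    exact ⟨c, hc, hf c hcs⟩
  · have hex1 : ¬ (k = 1 ∧ Nat.card F = 2) := fun hh => hex (Or.inl hh)
    have hex2 : ¬ (k = 1 ∧ Nat.card F = 3) := fun hh => hex (Or.inr (Or.inl hh))
    have hex3 : ¬ (k = 2 ∧ Nat.card F = 2) := fun hh => hex (Or.inr (Or.inr hh))
    have hKp := H845.OZ.Big.commutator_fix_eq_top h hσ hQ0 hfix hKmem hex1 hex2 hex3
    have hcong := tr_perfect hπ hker hp hrp hkp hkr R hcyc h.orderOf_eq hyR hC hnd _ hKC h.not_dvd_Ky hKN hpK h2 hKp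
      (H366.OZ.kaw_psp e hn (p := p)).card χ hχ h0 m ε hε hs
    rw [hqN] at hex1 hex2 hex3
    refine ⟨_, Or.inr (Or.inr (Or.inr (Or.inr ⟨hk0, ?_, hex3, rfl⟩))), hcong⟩
    rintro ⟨h3, h4 | h4⟩
    · exact hex1 ⟨h3, h4⟩
    · exact hex2 ⟨h3, h4⟩

/-- **The congruences for `PSp_{2n}(q)`.** -/
theorem spCong_psp {S : Type u} [Group S] [Finite S] {F : Type} [Field F] [Fintype F] {n : ℕ} (e : S ≃* PSp n F)
    (hn : 1 ≤ n) {p : ℕ} [CharP F p] : SpCong p n (Fintype.card F) S := by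
  intro k r hk hnk hr hord
  refine congS_psp e hn hk hr hord fun ν hν => num_ineq hnk ?_
  have hq1 : 1 < Fintype.card F := Fintype.one_lt_card
  have h1 : Nat.gcd 2 (Fintype.card F - 1) ∣ 2 := Nat.gcd_dvd_left _ _
  rcases (Nat.dvd_prime Nat.prime_two).1 h1 with h2 | h2
  · exact Or.inl ⟨hν.trans h2, hq1⟩
  · right
    refine ⟨hν.trans h2, ?_⟩
    have h3 : 2 ∣ Fintype.card F - 1 := h2 ▸ Nat.gcd_dvd_right 2 (Fintype.card F - 1)
    omega

/-- The case `n - k = 2`, `q ≥ 4`. -/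
theorem congS_psp_two {S : Type u} [Group S] [Finite S] {F : Type} [Field F] [Fintype F] {n : ℕ} (e : S ≃* PSp n F)
    {p : ℕ} [CharP F p] {k r : ℕ} (hk : 2 * k < n) (hnk : n - k = 2) (hq : 4 ≤ Fintype.card F) (hr : r.Prime)
    (hord : orderOf ((Fintype.card F : ℕ) : ZMod r) = 4) :
    CongS p r (cSet p ((Nat.card S).factorization p) (Fintype.card F) k) S := by
  refine congS_psp e (by omega) hk hr (by rw [hnk, hord]) fun ν hν => ?_
  have h1 : Nat.gcd 2 (Fintype.card F - 1) ∣ 2 := Nat.gcd_dvd_left _ _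
  rw [hnk]
  have h4 := Nat.pow_le_pow_left hq 2
  rcases (Nat.dvd_prime Nat.prime_two).1 h1 with h2 | h2
  · rw [hν, h2]
    omega
  · have h3 : 2 ∣ Fintype.card F - 1 := h2 ▸ Nat.gcd_dvd_right 2 (Fintype.card F - 1)
    have h5 : 5 ≤ Fintype.card F := by omega
    have h6 := Nat.pow_le_pow_left h5 2
    rw [hν, h2]
    omega

end Cfsg.Agent.H477.OZ
end

private theorem dce_005ffa7041fb : _root_.True := by
  try have : _root_.True := by simp only [_root_.Cfsg.Agent.H845.OZ.psum.eq_1]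
  exact _root_.True.intro
end

-- part: H366/OZ/NotDvd_mg
section
prune_inst 0x63420552106e212000000050240200030690000000000000000820a000b00a0200080a000048000000a2200890004002000000020400000000a000000000504010000140401400008c20018000000010000000000000000000000000000000000204010000
set_option linter.all false
open scoped Cfsg.Agent.FastGrp

-- part: H559/OZ/SpIso
section
/-!
# S4842: the isolated primes of `PSp_{2n}(q)` (helper559)

* `cong_psp` : `Cong p r 0 S` for a prime `r` with `orderOf (q : ZMod r) = 2 n`, `n ≥ 2`, not (`n = 2` and `q ≤ 3`);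
* `cp_psp` : `CP p (a * (2 * n)) S`, `q = p ^ a`.
-/

set_option autoImplicit false

open Cfsg Cfsg.Agent.Characters Cfsg.Agent.H730.OZ Cfsg.Agent.H477.OZ Cfsg.Agent.H53.HC Cfsg.Agent.H477.HC
open Cfsg.Agent.H366.OZ Cfsg.Agent.H732.VZ Cfsg.Agent.H364.OZ

namespace Cfsg.Agent.H559.OZ

universe u

theorem not_dvd_of_order {q r d : ℕ} (hr : r.Prime) (hd : d ≠ 0) (h : orderOf (q : ZMod r) = d) : ¬ r ∣ q := by
  have := Fact.mk hr
  intro h1
  rw [(ZMod.natCast_eq_zero_iff _ _).2 h1] at h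
  apply hd
  rw [← h, orderOf_eq_zero_iff']
  intro n hn h2
  rw [zero_pow hn.ne'] at h2
  exact zero_ne_one h2

theorem numSp {q n ν : ℕ} (hn : 2 ≤ n) (hq : 2 ≤ q) (hν : ν = Nat.gcd 2 (q - 1)) (hex : ¬ (n = 2 ∧ q ≤ 3)) :
    ν * (ν * (2 * n) + 1) < q ^ n + 1 := by
  rcases Nat.even_or_odd q with he | ho
  · have h1 : ν = 1 := by
      rw [hν]
      have h2 : Odd (q - 1) := Nat.Even.sub_odd (by omega) he odd_one
      exact (Nat.coprime_two_left).2 h2
    rw [h1]
    rcases Nat.eq_or_lt_of_le hn with rfl | h3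
    · have h4 : 4 ≤ q := by
        have h5 : ¬ q ≤ 3 := fun h => hex ⟨rfl, h⟩
        omega
      have h5 : 4 ^ 2 ≤ q ^ 2 := Nat.pow_le_pow_left h4 2
      omega
    · have h4 : 2 ^ n ≤ q ^ n := Nat.pow_le_pow_left hq n
      have h5 : 2 * n < 2 ^ n := by
        clear h4 hex hn
        induction n, h3 using Nat.le_induction with
        | base => norm_num
        | succ k hk ih => rw [pow_succ]; omega
      omega
  · have h1 : ν = 2 := by
      rw [hν]
      exact Nat.gcd_eq_left (Nat.Odd.sub_odd ho odd_one).two_dvd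
    rw [h1]
    have hq3 : 3 ≤ q := by
      rcases ho with ⟨k, hk⟩
      omega
    rcases Nat.eq_or_lt_of_le hn with rfl | h3
    · have h4 : 5 ≤ q := by
        have h5 : ¬ q ≤ 3 := fun h => hex ⟨rfl, h⟩
        rcases ho with ⟨k, hk⟩
        omega
      have h5 : 5 ^ 2 ≤ q ^ 2 := Nat.pow_le_pow_left h4 2
      omega
    · have h4 : 3 ^ n ≤ q ^ n := Nat.pow_le_pow_left hq3 n
      have h5 : 8 * n + 2 < 3 ^ n + 1 := by
        clear h4 hex hn
        induction n, h3 using Nat.le_induction with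
        | base => norm_num
        | succ k hk ih => rw [pow_succ]; omega
      omega

/-- **Primes of order `2 n`.** -/
theorem cong_psp {S : Type u} [Group S] [Finite S] {F : Type} [Field F] [Fintype F] {n : ℕ} (e : S ≃* PSp n F)
    (hn : 2 ≤ n) {p : ℕ} [hp : Fact p.Prime] [CharP F p] {r : ℕ} (hr : r.Prime)
    (hD : orderOf ((Fintype.card F : ℕ) : ZMod r) = 2 * n) (hex : ¬ (n = 2 ∧ Fintype.card F ≤ 3)) : Cong p r 0 S := by
  classical
  have hrf := Fact.mk hr
  obtain ⟨π, hπ, hker, hcard⟩ := Cfsg.Agent.H366.OZ.exists_pi e (by omega : 1 ≤ n)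
  have hcF : Nat.card F = Fintype.card F := Nat.card_eq_fintype_card
  have hF : 2 ≤ Fintype.card F := Fintype.one_lt_card
  have hrq : ¬ r ∣ Fintype.card F := not_dvd_of_order hr (by omega) hD
  obtain ⟨-, a, ha, hqa⟩ := exists_pow F p
  have hfin : Finite (CForm.spF F n).iso := by
    have : Finite ((Fin n ⊕ Fin n → F) ≃ₗ[F] (Fin n ⊕ Fin n → F)) :=
      Finite.of_injective (fun e => (e : (Fin n ⊕ Fin n → F) → (Fin n ⊕ Fin n → F)))
        (fun a b hab => LinearEquiv.ext fun v => congrFun hab v)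
    exact Subtype.finite
  have hfd : Module.finrank F (Fin n ⊕ Fin n → F) = 2 * n := by
    rw [Module.finrank_fintype_fun_eq_card, Fintype.card_sum, Fintype.card_fin]
    ring
  have hrp : r ≠ p := by
    rintro rfl
    apply hrq
    rw [hqa]
    exact dvd_pow_self r (by omega)
  have hr2 : 2 * n + 1 ≤ r := by
    have := le_sub_one (q := Fintype.card F) hr hrq
    rw [hD] at this
    exact this
  -- the kernel
  have hν : Nat.card π.ker ∣ 2 := by rw [hcard]; exact Nat.gcd_dvd_left _ _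
  have hν2 : Nat.card π.ker ≤ 2 := Nat.le_of_dvd two_pos hν
  have hkr : ¬ r ∣ Nat.card π.ker := fun h => by
    have := Nat.le_of_dvd two_pos (h.trans hν)
    omega
  have hkp : ¬ p ∣ Nat.card π.ker := by
    rw [hcard]
    intro h
    have h2 : p ∣ Fintype.card F - 1 := h.trans (Nat.gcd_dvd_right _ _)
    have h3 : p ∣ Fintype.card F := by rw [hqa]; exact dvd_pow_self p (by omega)
    have h4 := Nat.dvd_sub h3 h2
    rw [Nat.sub_sub_self Fintype.card_pos] at h4
    exact hp.out.one_lt.ne' (Nat.dvd_one.1 h4)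
  -- `r` divides the order
  have hrG : r ∣ Nat.card (CForm.spF F n).iso := by
    rw [card_eq_mul_ker hπ, hcard, mul_comm, card_psp e (by omega)]
    refine Dvd.dvd.mul_left ?_ _
    have h1 : r ∣ Fintype.card F ^ (2 * n) - 1 := by
      have h2 : 1 ≤ Fintype.card F ^ (2 * n) := Nat.one_le_pow _ _ (by omega)
      rw [← ZMod.natCast_eq_zero_iff, Nat.cast_sub h2]
      push_cast
      rw [← hD, pow_orderOf_eq_one, sub_self]
    refine h1.trans ?_
    have h3 := Finset.dvd_prod_of_mem (fun i => Fintype.card F ^ (2 * (i + 1)) - 1)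
      (Finset.mem_range.2 (by omega : n - 1 < n))
    simpa only [show n - 1 + 1 = n by omega] using h3
  obtain ⟨y, hyR, hbig, hRT, hC, hcyc⟩ := exists_big (F := CForm.spF F n) (by rw [hcF]; exact hrq)
    (by rw [hfd, hcF, hD]; omega) (default : Sylow r (CForm.spF F n).iso) hrG
  have hcom : comS (y : (Fin n ⊕ Fin n → F) ≃ₗ[F] (Fin n ⊕ Fin n → F)) = ⊤ := by
    apply Submodule.eq_top_of_finrank_eq
    rw [hbig.finrank_comS, hcF, hD, hfd]
  have hnd : Nat.card (Subgroup.centralizer ({y} : Set (CForm.spF F n).iso)) ≠ r * Nat.card π.ker ∨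
      ∃ m : ℕ, ¬ r ∣ m ∧ ¬ IsConj (π y) (π y ^ m) := by
    refine hbig.card_cent_or (fun a => rfl) (j := n) (by omega) (by rw [hcF, hD]) (fun a _ _ u _ => rfl) hπ hker hkr ?_
    rw [hcF]
    exact numSp hn hF hcard hex
  -- the centralizer has no `p`-elements
  have hnop : ∀ v, Commute (π y) v → (∃ k : ℕ, orderOf v = p ^ k) → v = 1 := by
    intro v hv hvp
    obtain ⟨g, hg, rfl⟩ := (bijOn_pSet hπ hker hp.out hkp).surjOn (show v ∈ pSet p S from hvp)
    have h1 : π g ∈ Subgroup.centralizer ({π y} : Set S) := by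
      rw [Subgroup.mem_centralizer_singleton_iff]
      exact hv.symm.eq
    rw [cent_map hπ hker hr hkr hbig.orderOf_eq] at h1
    obtain ⟨g', hg', h2⟩ := h1
    rw [SetLike.mem_coe, Subgroup.mem_centralizer_singleton_iff] at hg'
    have hk : g * g'⁻¹ ∈ π.ker := by rw [MonoidHom.mem_ker, map_mul, map_inv, h2, mul_inv_cancel]
    have h3 : Commute (g * g'⁻¹) y := (Subgroup.mem_center_iff.1 (hker hk) y).symm
    have h4 : Commute g y := by
      have h5 := h3.mul_left (show Commute g' y from hg')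
      rwa [inv_mul_cancel_right] at h5
    have h6 := hbig.mem_Ky_of_char (p := p) h4 hg
    have h7 : g = 1 := by
      apply Subtype.ext
      refine LinearEquiv.ext fun v => ?_
      exact h6 v (by rw [hcom]; exact Submodule.mem_top)
    rw [h7, map_one]
  refine cong_of_const hp.out hr hrp (orderOf_map hr hkr hbig.orderOf_eq) ?_ fun χ x hx => ⟨?_, ?_⟩
  · rw [pow_zero, Nat.card_eq_one_iff_unique]
    refine ⟨⟨fun v w => Subtype.ext ?_⟩, ⟨1, Commute.one_right _, 0, by simp⟩⟩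
    rw [hnop v.1 v.2.1 v.2.2, hnop w.1 w.2.1 w.2.2]
  · exact tr_not_dvd hπ hker hkr _ hcyc hbig.orderOf_eq hyR hC hnd χ x hx
  · intro v hv hvp
    rw [hnop v hv hvp, mul_one]

theorem orderOf_of_pow {p a q r d : ℕ} (ha : 0 < a) (hq : q = p ^ a) (h : orderOf (p : ZMod r) = a * d) :
    orderOf (q : ZMod r) = d := by
  rw [hq, Nat.cast_pow, orderOf_pow_of_dvd ha.ne' (by rw [h]; exact Dvd.intro _ rfl), h,
    Nat.mul_div_cancel_left _ ha]

/-- `CP` for the order `2 n`. -/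
theorem cp_psp {S : Type u} [Group S] [Finite S] {F : Type} [Field F] [Fintype F] {n : ℕ} (e : S ≃* PSp n F)
    (hn : 2 ≤ n) {p a : ℕ} (hp : p.Prime) (hcard : Fintype.card F = p ^ a) (hex : ¬ (n = 2 ∧ Fintype.card F ≤ 3))
    (hex' : ¬ (n = 3 ∧ Fintype.card F = 2)) : CP p (a * (2 * n)) S := by
  have hpf := Fact.mk hp
  have hF : 2 ≤ Fintype.card F := Fintype.one_lt_card
  have ha : 0 < a := Nat.pos_of_ne_zero (by rintro rfl; rw [hcard, pow_zero] at hF; omega)
  have hch : CharP F p := by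
    obtain ⟨p', hp'⟩ := CharP.exists F
    obtain ⟨⟨f', hf'⟩, hpp', hcard'⟩ := FiniteField.card F p'
    simp only [PNat.mk_coe] at hcard'
    rw [hcard] at hcard'
    have h1 : p ∣ p' ^ f' := by rw [← hcard']; exact dvd_pow_self p ha.ne'
    have h2 : p = p' := (Nat.prime_dvd_prime_iff_eq hp hpp').1 (hp.dvd_of_dvd_pow h1)
    rw [h2]
    exact hp'
  have h4 : 2 * 2 ≤ 2 * n := Nat.mul_le_mul_left 2 hn
  have h5 : 2 * n ≤ a * (2 * n) := Nat.le_mul_of_pos_left _ ha
  obtain ⟨r, hr, hord⟩ := Cfsg.Agent.Lib.Zsigmondy.exists_prime_orderOf (a := p) (n := a * (2 * n)) hp.two_le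
    (by omega) (by omega) (by
      rintro ⟨rfl, h6⟩
      apply hex'
      have h7 : a * n = 3 := by
        have : 2 * (a * n) = 6 := by rw [← h6]; ring
        omega
      have h8 : n = 3 := by
        rcases (Nat.dvd_prime Nat.prime_three).1 (Dvd.intro_left _ h7) with h | h
        · omega
        · exact h
      have h9 : a = 1 := by
        rw [h8] at h7
        omega
      exact ⟨h8, by rw [hcard, h9]; norm_num⟩)
  exact ⟨r, hr, hord, cong_psp e hn hr (orderOf_of_pow ha hcard hord) hex⟩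

end Cfsg.Agent.H559.OZ
end

-- part: H128/OZ/OddIso
section
/-!
# S4842: isolated primes of `Ω_{2n+1} (q)`, `q` odd (helper128)

* `iso_orth1` : helper530's `iso_orth` with a one-dimensional complement;
* `isoMO` : a prime dividing `q ^ n + 1` and no `q ^ i - 1`, `i < 2n`;
* `isoPO` : a prime dividing `q ^ n - 1`, `n` odd, and no `q ^ i - 1`, `i < n`.
-/

set_option autoImplicit false

namespace Cfsg.Agent.H128.OZ

open Module QuadraticMap Cfsg Subgroup
open Cfsg.Agent.LieClassical.OrthCore Cfsg.Agent.LieClassical.OrthTrans Cfsg.Agent.H890.SpParity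
open Cfsg.Agent.LieClassical.OrthFinite Cfsg.Agent.LieClassical.OrthForms
open Cfsg.Agent.H182.Sign Cfsg.Agent.H182.Orth Cfsg.Agent.H530.CJ Cfsg.Agent.H93.CJ Cfsg.Agent.H93.PReg
open Cfsg.Agent.H730.OZ Cfsg.Agent.H530.OZ

section one

theorem eq_one_of_one {F P : Type*} [Field F] [AddCommGroup P] [Module F P] {p : ℕ} [Fact p.Prime] [CharP F p]
    (hP : finrank F P = 1) {s : P ≃ₗ[F] P} (hs : s ^ p = 1) : s = 1 := by
  obtain ⟨w, hw0, hw⟩ := finrank_eq_one_iff'.1 hP
  obtain ⟨c, hc⟩ := hw (s w)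
  have hsv : ∀ v, s v = c • v := by
    intro v
    obtain ⟨a, rfl⟩ := hw v
    rw [map_smul, ← hc, smul_comm]
  have hpow : ∀ (k : ℕ) (v : P), (s ^ k) v = c ^ k • v := by
    intro k
    induction k with
    | zero => intro v; rw [pow_zero, pow_zero, one_smul]; rfl
    | succ k ih => intro v; rw [pow_succ', LinearEquiv.mul_apply, ih, hsv, smul_smul, pow_succ']
  have h1 : c ^ p = 1 := by
    have h2 := hpow p w
    rw [hs] at h2
    have h3 : (c ^ p - 1) • w = 0 := by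
      rw [sub_smul, one_smul, ← h2]
      exact sub_self w
    exact sub_eq_zero.1 ((smul_eq_zero.1 h3).resolve_right hw0)
  have h2 : c = 1 := by
    have h3 : (c - 1) ^ p = 0 := by rw [sub_pow_char, one_pow, h1, sub_self]
    exact sub_eq_zero.1 (pow_eq_zero_iff (Fact.out : p.Prime).ne_zero |>.1 h3)
  ext v
  rw [hsv, h2, one_smul]
  rfl

end one

section main

variable {F : Type*} [Field F] [Finite F] {U P L : Type*} [AddCommGroup U] [Module F U] [Finite U] [AddCommGroup P]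
  [Module F P] [Finite P] [Field L] [Algebra F L] {Q : QuadraticForm F U} {Q' : QuadraticForm F P}
  {r : ℕ} {z : U ≃ₗ[F] U} {j : L →ₗ[F] U} {lam : L}

/-- **Isolated primes in orthogonal groups, odd dimension.** -/
theorem iso_orth1 {p : ℕ} [Fact p.Prime] [CharP F p] (hr : r.Prime) (hT : TorU Q r z j lam)
    (hnd : Nondeg (prodForm Q Q')) (hP : finrank F P = 1)
    (hq : ¬ r ∣ Nat.card F) (hq1 : ¬ r ∣ Nat.card F - 1) (hq2 : ¬ r ∣ Nat.card F ^ 2 - 1)
    (hzE : zz P z ∈ E (prodForm Q Q')) {S : Type*} [Group S] (π : E (prodForm Q Q') →* S)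
    (hπ : Function.Surjective π)
    (hker : ∀ k : E (prodForm Q Q'), k ∈ π.ker ↔ ∃ a : F, ∀ v, (k : (U × P) ≃ₗ[F] (U × P)) v = a • v)
    (hnot : ¬ ((∀ x : E (prodForm Q Q'), Commute (⟨zz P z, hzE⟩ : E (prodForm Q Q')) x → (π x) ^ r = 1) ∧
      r ≤ finrank F (U × P) + 1)) : IsoAt p r S := by
  classical
  have hfr : Fact r.Prime := ⟨hr⟩
  have hfdU : FiniteDimensional F U := Module.Finite.of_finite
  have hfdP : FiniteDimensional F P := Module.Finite.of_finite
  have hfin : Finite (E (prodForm Q Q')) := by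
    have : Finite ((U × P) ≃ₗ[F] (U × P)) :=
      Finite.of_injective (fun g : (U × P) ≃ₗ[F] (U × P) => (g : U × P → U × P)) DFunLike.coe_injective
    infer_instance
  have hchL : CharP L p := charP_of_injective_algebraMap (algebraMap F L).injective p
  have hr2 : r ≠ 2 := by
    rintro rfl
    rcases Nat.even_or_odd (Nat.card F) with h | h
    · exact hq h.two_dvd
    · exact hq1 ((Nat.Odd.sub_odd h odd_one).two_dvd)
  set z' : E (prodForm Q Q') := ⟨zz P z, hzE⟩ with hz'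
  have hfix := hT.fix_eq hr.one_lt
  -- the order of `z'`
  have hU1 : ∃ v : U, v ≠ 0 := ⟨j 1, fun h => one_ne_zero (hT.inj (h.trans (map_zero j).symm))⟩
  have hz'r : z' ^ r = 1 := by
    apply Subtype.ext
    show zz P z ^ r = 1
    rw [zz_pow, hT.pow_eq]
    rfl
  have hz'1 : z' ≠ 1 := by
    intro h
    obtain ⟨v, hv⟩ := hU1
    apply hv
    apply hfix
    have h1 : zz P z = 1 := congrArg Subtype.val h
    exact congrArg Prod.fst (LinearEquiv.congr_fun h1 (v, 0))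
  have hz'o : orderOf z' = r := orderOf_eq_prime hz'r hz'1
  have hmem : ∀ {x : E (prodForm Q Q')}, x ∈ Subgroup.centralizer ({z'} : Set (E (prodForm Q Q'))) ↔ Commute z' x := by
    intro x
    rw [Subgroup.mem_centralizer_singleton_iff]
    exact ⟨fun h => h.symm, fun h => h.symm⟩
  -- the blocks
  have hblock : ∀ x : E (prodForm Q Q'), Commute z' x → ∃ (t : U ≃ₗ[F] U) (s : P ≃ₗ[F] P),
      (x : (U × P) ≃ₗ[F] (U × P)) = t.prodCongr s ∧ t ∈ O Q ∧ Commute t z := by
    intro x hx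
    have h1 : Commute (x : (U × P) ≃ₗ[F] (U × P)) (z.prodCongr (LinearEquiv.refl F P)) :=
      (congrArg Subtype.val hx.eq).symm
    obtain ⟨t, s, hts⟩ := block hfix h1
    refine ⟨t, s, hts, ?_, ?_⟩
    · intro v
      have h2 := E_le_O x.2 (v, 0)
      rw [hts, prodForm_apply, prodForm_apply] at h2
      change Q (t v) + Q' (s 0) = Q v + Q' 0 at h2
      rw [map_zero, QuadraticMap.map_zero, add_zero, add_zero] at h2
      exact h2
    · ext v
      have h2 := LinearEquiv.congr_fun h1.eq (v, 0)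
      rw [hts] at h2
      exact congrArg Prod.fst h2
  choose! tt ss hts htO htz using hblock
  -- powers
  have hpw : ∀ (x : E (prodForm Q Q')), Commute z' x → ∀ k : ℕ, x ^ k = 1 → tt x ^ k = 1 ∧ ss x ^ k = 1 := by
    intro x hx k hk
    have h1 : (x : (U × P) ≃ₗ[F] (U × P)) ^ k = 1 := congrArg Subtype.val hk
    have h2 : ∀ k : ℕ, (x : (U × P) ≃ₗ[F] (U × P)) ^ k = (tt x ^ k).prodCongr (ss x ^ k) := by
      intro k
      induction k with
      | zero => rfl
      | succ k ih =>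
        rw [pow_succ, ih, hts x hx]
        rfl
    rw [h2] at h1
    constructor
    · ext v
      exact congrArg Prod.fst (LinearEquiv.congr_fun h1 (v, 0))
    · ext v
      exact congrArg Prod.snd (LinearEquiv.congr_fun h1 (0, v))
  have hex : ∀ x : E (prodForm Q Q'), Commute z' x → ∃ a : L, (∀ l, tt x (j l) = j (a * l)) ∧ (a = 1 → tt x = 1) ∧
      (a ≠ 1 → ∀ v, tt x v = v → v = 0) := fun x hx => hT.cen _ (htO x hx) (htz x hx)
  choose! aa haa haa1 haa2 using hex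
  have haa0 : ∀ x : E (prodForm Q Q'), Commute z' x → aa x ≠ 0 := by
    intro x hx h0
    have h4 := haa x hx 1
    rw [h0, zero_mul, map_zero, LinearEquiv.map_eq_zero_iff] at h4
    exact one_ne_zero (hT.inj (h4.trans (map_zero j).symm))
  have hmul : ∀ x y : E (prodForm Q Q'), Commute z' x → Commute z' y → tt (x * y) = tt x * tt y := by
    intro x y hx hy
    ext v
    have h1 := hts (x * y) (hx.mul_right hy)
    have h2 : ((x * y : E (prodForm Q Q')) : (U × P) ≃ₗ[F] (U × P)) = (x : (U × P) ≃ₗ[F] (U × P)) * y := rfl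
    rw [h2, hts x hx, hts y hy] at h1
    exact (congrArg Prod.fst (LinearEquiv.congr_fun h1 (v, 0))).symm
  have hamul : ∀ x y : E (prodForm Q Q'), Commute z' x → Commute z' y → aa (x * y) = aa x * aa y := by
    intro x y hx hy
    have h1 := haa (x * y) (hx.mul_right hy) 1
    rw [hmul x y hx hy, LinearEquiv.mul_apply, haa y hy, haa x hx] at h1
    have h2 := hT.inj h1
    rw [mul_one, mul_one] at h2
    exact h2.symm
  let τ : Subgroup.centralizer ({z'} : Set (E (prodForm Q Q'))) →* Lˣ :=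
    MonoidHom.mk' (fun x => Units.mk0 (aa x) (haa0 x (hmem.1 x.2))) (fun x y => Units.ext (by
      show aa (x * y : E (prodForm Q Q')) = aa x * aa y
      exact hamul _ _ (hmem.1 x.2) (hmem.1 y.2)))
  have hss : ∀ x : E (prodForm Q Q'), Commute z' x → (∃ i : ℕ, x ^ (r ^ i) = 1) → ss x = 1 := by
    rintro x hx ⟨i, hi⟩
    exact eq_one_of_order (F := F) hr (by omega) hq hq1 hq2 ⟨i, (hpw x hx _ hi).2⟩
  have hone : ∀ x : E (prodForm Q Q'), Commute z' x → tt x = 1 → ss x = 1 → x = 1 := by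
    intro x hx h1 h2
    apply Subtype.ext
    rw [hts x hx, h1, h2]
    rfl
  -- the kernel
  have hkc : ∀ k ∈ π.ker, ∀ h : E (prodForm Q Q'), k * h = h * k := by
    intro k hk h
    obtain ⟨a, ha⟩ := (hker k).1 hk
    apply Subtype.ext
    ext v
    · show ((k : (U × P) ≃ₗ[F] (U × P)) ((h : (U × P) ≃ₗ[F] (U × P)) v)).1 = _
      rw [ha]
      show _ = ((h : (U × P) ≃ₗ[F] (U × P)) ((k : (U × P) ≃ₗ[F] (U × P)) v)).1
      rw [ha, map_smul]
    · show ((k : (U × P) ≃ₗ[F] (U × P)) ((h : (U × P) ≃ₗ[F] (U × P)) v)).2 = _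
      rw [ha]
      show _ = ((h : (U × P) ≃ₗ[F] (U × P)) ((k : (U × P) ≃ₗ[F] (U × P)) v)).2
      rw [ha, map_smul]
  have hk2 : ∀ k ∈ π.ker, (k ^ 2 = 1) ∧ (p = 2 → k = 1) := by
    intro k hk
    obtain ⟨a, ha⟩ := (hker k).1 hk
    -- a vector with nonzero value
    obtain ⟨w, hw⟩ : ∃ w : U × P, prodForm Q Q' w ≠ 0 := by
      by_contra hcon
      push Not at hcon
      obtain ⟨v, hv⟩ := hU1
      apply hv
      have h1 : ((v, 0) : U × P) = 0 := hnd _ fun y => by
        rw [QuadraticMap.polar, hcon, hcon, hcon, sub_zero, sub_zero]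
      exact congrArg Prod.fst h1
    have h1 := E_le_O k.2 w
    rw [ha, QuadraticMap.map_smul, smul_eq_mul] at h1
    have h2 : a * a = 1 := by
      apply mul_right_cancel₀ hw
      rw [h1, one_mul]
    constructor
    · apply Subtype.ext
      show (k : (U × P) ≃ₗ[F] (U × P)) ^ 2 = 1
      ext v
      · rw [pow_two, LinearEquiv.mul_apply, ha, ha, smul_smul, h2, one_smul]
        rfl
      · rw [pow_two, LinearEquiv.mul_apply, ha, ha, smul_smul, h2, one_smul]
        rfl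
    · rintro rfl
      have h3 : a = 1 := by
        have h4 : (a - 1) ^ 2 = 0 := by
          rw [sub_pow_char, one_pow, pow_two, h2, sub_self]
        exact sub_eq_zero.1 (pow_eq_zero_iff two_ne_zero |>.1 h4)
      apply Subtype.ext
      ext v
      · rw [ha, h3, one_smul]
        rfl
      · rw [ha, h3, one_smul]
        rfl
  set c : ℕ := if p = 2 then 1 else 2 with hcdef
  have hcc : ∀ k ∈ π.ker, k ^ c = 1 := by
    intro k hk
    rw [hcdef]
    split_ifs with hp2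
    · rw [pow_one]; exact (hk2 k hk).2 hp2
    · exact (hk2 k hk).1
  have hpp : p.Prime := Fact.out
  have hcr : c.Coprime r := by
    rw [hcdef]
    split_ifs with hp2
    · exact Nat.coprime_one_left r
    · exact (Nat.coprime_primes Nat.prime_two hr).2 (Ne.symm hr2)
  have hcp : c.Coprime p := by
    rw [hcdef]
    split_ifs with hp2
    · exact Nat.coprime_one_left p
    · exact (Nat.coprime_primes Nat.prime_two hpp).2 (Ne.symm hp2)
  refine isoAt_of_cover (c := c) (z := z') hπ hr hpp hkc hcc hcr hcp hz'o τ ?_ ?_ ?_ ?_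
  · rintro x ⟨i, hi⟩ hx
    have hxz := hmem.1 x.2
    have hx' : (x : E (prodForm Q Q')) ^ (r ^ i) = 1 := congrArg Subtype.val hi
    have h1 : aa (x : E (prodForm Q Q')) = 1 := congrArg Units.val hx
    exact Subtype.ext (hone _ hxz (haa1 _ hxz h1) (hss _ hxz ⟨i, hx'⟩))
  · rintro x y ⟨i, hi⟩
    have hxz := hmem.1 x.2
    have hyz := hmem.1 y.2
    have hx' : (x : E (prodForm Q Q')) ^ (r ^ i) = 1 := congrArg Subtype.val hi
    have h1 := hss _ hxz ⟨i, hx'⟩
    have h2 := hT.comm (htO _ hxz) (htO _ hyz) (htz _ hxz) (htz _ hyz)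
    apply Subtype.ext
    apply Subtype.ext
    show ((x : E (prodForm Q Q')) : (U × P) ≃ₗ[F] (U × P)) * ((y : E (prodForm Q Q')) : (U × P) ≃ₗ[F] (U × P)) =
      ((y : E (prodForm Q Q')) : (U × P) ≃ₗ[F] (U × P)) * ((x : E (prodForm Q Q')) : (U × P) ≃ₗ[F] (U × P))
    rw [hts _ hxz, hts _ hyz, h1]
    have h3 : ∀ (t t' : U ≃ₗ[F] U) (s s' : P ≃ₗ[F] P), t.prodCongr s * t'.prodCongr s' =
        (t * t').prodCongr (s * s') := fun _ _ _ _ => rfl
    rw [h3, h3, h2.eq, one_mul, mul_one]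
  · intro x hx hxp
    obtain ⟨h1, h2⟩ := hpw x hx p hxp
    have h3 : aa x = 1 := by
      have h4 : aa x ^ p = 1 := by
        have hpow : ∀ k : ℕ, (tt x ^ k) (j 1) = j (aa x ^ k) := by
          intro k
          induction k with
          | zero => simp only [_root_.pow_zero, _root_.LinearEquiv.coe_one, _root_.id_eq]
          | succ k ih =>
            rw [pow_succ', LinearEquiv.mul_apply, ih, haa x hx, pow_succ']
        have h5 := hpow p
        rw [h1] at h5
        exact (hT.inj h5).symm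
      have h5 : (aa x - 1) ^ p = 0 := by rw [sub_pow_char, one_pow, h4, sub_self]
      exact sub_eq_zero.1 (pow_eq_zero_iff hpp.ne_zero |>.1 h5)
    have h4 := haa1 x hx h3
    refine hone x hx h4 ?_
    exact eq_one_of_one (F := F) (p := p) hP h2
  · rintro ⟨h1, h2⟩
    refine hnot ⟨h1, ?_⟩
    -- the eigenvalues
    have hjj : Function.Injective ((LinearMap.inl F U P).comp j) := fun a b hab => hT.inj (congrArg Prod.fst hab)
    refine le_of_roots (L := L) (zz P z).toLinearMap hT.ord ?_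
    intro m hm0 hm
    have hrm : ¬ r ∣ m := fun h => absurd (Nat.le_of_dvd hm0 h) (not_le.2 hm)
    obtain ⟨g, hg⟩ := isConj_iff.1 (h2 m hrm)
    have hg' : (g : (U × P) ≃ₗ[F] (U × P)) * zz P z * (g : (U × P) ≃ₗ[F] (U × P))⁻¹ = zz P z ^ m :=
      congrArg Subtype.val hg
    have h3 : (zz P z ^ m).toLinearMap.charpoly = (zz P z).toLinearMap.charpoly := by
      rw [← hg']
      exact LinearEquiv.charpoly_conj (g : (U × P) ≃ₗ[F] (U × P)) (zz P z).toLinearMap
    rw [← h3]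
    refine root_charpoly _ (lam ^ m) ((LinearMap.inl F U P).comp j) hjj ?_
    have hpow : ∀ (k : ℕ) (l : L), (zz P z ^ k) (j l, 0) = (j (lam ^ k * l), 0) := by
      intro k
      induction k with
      | zero => intro l; simp only [_root_.pow_zero, _root_.LinearEquiv.coe_one, _root_.id_eq, _root_.one_mul]
      | succ k ih =>
        intro l
        have h4 : zz P z (j l, 0) = (j (lam * l), 0) := Prod.ext (hT.eig l) rfl
        rw [pow_succ, LinearEquiv.mul_apply, h4, ih, pow_succ, mul_assoc]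
    exact fun l => hpow m l

end main

section geo

/-- the projection, odd dimension -/
theorem exists_piO {F : Type} [Field F] [Fintype F] (hodd : Odd (Fintype.card F)) {U : Type} [AddCommGroup U] [Module F U]
    [Finite U] {Q : QuadraticForm F U} {n : ℕ} (hn : 3 ≤ n) {ε : ℤ} (hQ : Sg Q n ε) {S : Type*} [Group S]
    (i : POmega F (quadFormOdd n F) ≃* S) :
    Nondeg (prodForm Q (H160.QDisc.oneF (1 : F))) ∧ Good (prodForm Q (H160.QDisc.oneF (1 : F))) ∧
    ∃ π : E (prodForm Q (H160.QDisc.oneF (1 : F))) →* S, Function.Surjective π ∧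
      ∀ z : E (prodForm Q (H160.QDisc.oneF (1 : F))), z ∈ π.ker ↔ ∃ a : F, ∀ v, (z : (U × F) ≃ₗ[F] (U × F)) v = a • v := by
  have h2 : (2 : F) ≠ 0 := by
    intro h
    have h3 : CharP F 2 := CharTwo.of_one_ne_zero_of_two_eq_zero one_ne_zero h
    have h4 := FiniteField.even_card_of_char_two (ringChar.eq_iff.2 h3)
    exact (Nat.not_even_iff_odd.2 hodd) (Nat.even_iff.2 h4)
  rw [← coe_oddForm] at i
  have hfin : FiniteDimensional F U := Module.Finite.of_finite
  have hd : finrank F U = 2 * n := hQ.dim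
  have hW : finrank F (U × F) = 2 * n + 1 := by
    rw [finrank_prod, finrank_self, hd]
  have heq : prodForm Q (H160.QDisc.oneF (1 : F)) = Q.prod (H160.QDisc.oneF (1 : F)) := by
    ext v
    rfl
  have hnd : Nondeg (prodForm Q (H160.QDisc.oneF (1 : F))) := by
    rw [heq]
    exact H160.QSpin.nondeg_prod hQ.nondeg (H160.QDisc.nondeg_oneF h2 one_ne_zero)
  have hG : Good (prodForm Q (H160.QDisc.oneF (1 : F))) := good_of_finite hnd (by omega)
  have hRn : Nondeg (oddForm n F) := nondeg_oddForm n F h2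
  have hRd : finrank F (Unit ⊕ (Fin n ⊕ Fin n) → F) = 2 * n + 1 := by
    rw [finrank_fintype_fun_eq_card]
    simp only [Fintype.card_sum, Fintype.card_fin, Fintype.card_unit]
    omega
  obtain ⟨d, e, hd0, he⟩ := Cfsg.Agent.H377.exists_similar_odd (m := n) hW _ hnd
  exact ⟨hnd, hG, exists_pi (R := oddForm n F) (c := d) (good_of_finite hRn (by omega))
    (good_of_finite (nondeg_smul hRn hd0) (by omega)) e hd0 he hG i⟩

/-- **Primes dividing `q ^ n + 1`.** -/
theorem isoMO {F : Type} [Field F] [Fintype F] {p : ℕ} [Fact p.Prime] [CharP F p] (hoddF : Odd (Fintype.card F))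
    {k : ℕ} (hk : 3 ≤ k) {S : Type*} [Group S] (i : POmega F (quadFormOdd k F) ≃* S) {r : ℕ} (hr : r.Prime)
    (hr1 : r ∣ Fintype.card F ^ k + 1) (hr2 : ∀ i : ℕ, 0 < i → i < 2 * k → ¬ r ∣ Fintype.card F ^ i - 1) :
    IsoAt p r S := by
  obtain ⟨L, _, _, _, Q, u, hQ, hu, huQ⟩ := exists_torusM F (k := k) (by omega)
  obtain ⟨hnd, hG, π, hπ, hker⟩ := exists_piO hoddF hk hQ i
  have hdL : finrank F L = 2 * k := hQ.dim
  have hcF : Nat.card F = Fintype.card F := Nat.card_eq_fintype_card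
  have hF : 2 ≤ Fintype.card F := Fintype.one_lt_card
  have hF3 : 3 ≤ Fintype.card F := by
    rcases hoddF with ⟨m, hm⟩
    omega
  have hu0 : u ≠ 0 := by
    rintro rfl
    have h1 := pow_orderOf_eq_one (0 : L)
    rw [hu, pow_succ, mul_zero] at h1
    exact zero_ne_one h1
  obtain ⟨s, hs⟩ := hr1
  have hs0 : s ≠ 0 := by
    rintro rfl
    omega
  set lam : L := u ^ s with hlam
  have hlam0 : lam ≠ 0 := pow_ne_zero _ hu0
  have hlamo : orderOf lam = r := by
    rw [hlam, orderOf_pow_of_dvd hs0 (by rw [hu, hs]; exact Dvd.intro_left r rfl), hu, hs,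
      Nat.mul_div_cancel _ (Nat.pos_of_ne_zero hs0)]
  have hpowQ : ∀ (m : ℕ) (v : L), Q (u ^ m * v) = Q v := by
    intro m
    induction m with
    | zero => intro v; rw [pow_zero, one_mul]
    | succ m ih => intro v; rw [pow_succ', mul_assoc, huQ, ih]
  have hT := torU_minus hlam0 hlamo (by
    intro i hi hi2
    rw [hcF]
    rw [hdL] at hi2
    exact hr2 i hi hi2) (hpowQ s)
  have hr2' : r ≠ 2 := by
    rintro rfl
    have h1 := hr2 1 one_pos (by omega)
    rw [pow_one] at h1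
    exact h1 (Nat.Odd.sub_odd hoddF odd_one).two_dvd
  have hodd : Odd r := hr.odd_of_ne_two hr2'
  refine iso_orth1 (p := p) hr hT hnd (finrank_self F) ?_ ?_ ?_
    (mem_of_odd hG hT.memO hodd hT.pow_eq) π hπ hker ?_
  · rw [hcF]
    intro h1
    have h2 : r ∣ 1 := (Nat.dvd_add_right (Dvd.dvd.pow h1 (by omega))).1 ⟨s, hs⟩
    exact hr.one_lt.ne' (Nat.dvd_one.1 h2)
  · rw [hcF]
    have h1 := hr2 1 one_pos (by omega)
    rwa [pow_one] at h1
  · rw [hcF]
    exact hr2 2 two_pos (by omega)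
  · rintro ⟨h1, h2⟩
    have hmO : mulL F u hu0 ∈ O Q := huQ
    have h3 := h1 ⟨zz F (mulL F u hu0 ^ 2), sq_mem hG hmO⟩ (by
      apply Subtype.ext
      show zz F (mulL F lam hlam0) * zz F (mulL F u hu0 ^ 2) = zz F (mulL F u hu0 ^ 2) * zz F (mulL F lam hlam0)
      refine LinearEquiv.ext fun v => Prod.ext ?_ rfl
      show lam * (u * (u * v.1)) = u * (u * (lam * v.1))
      ring)
    have hnt' : Nontrivial (L × F) := inferInstance
    obtain ⟨a, ha2, ha, haP⟩ := scal hker hnd hnt' _ h3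
    have hpw : ∀ (m : ℕ) (v : L), (mulL F u hu0 ^ m) v = u ^ m * v := by
      intro m
      induction m with
      | zero => intro v; rw [pow_zero, pow_zero, one_mul]; rfl
      | succ m ih =>
        intro v
        rw [pow_succ', LinearEquiv.mul_apply, ih, mulL_apply, pow_succ', mul_assoc]
    have h4 : u ^ (2 * r) = a • (1 : L) := by
      have h5 := ha 1
      rw [← pow_mul, hpw, mul_one] at h5
      exact h5
    rw [haP inferInstance, one_smul] at h4
    have h5 : Fintype.card F ^ k + 1 ∣ 2 * r := by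
      rw [← hu]
      exact orderOf_dvd_of_pow_eq_one h4
    have h6 := Nat.le_of_dvd (Nat.mul_pos two_pos hr.pos) h5
    have h7 : 3 ^ k ≤ Fintype.card F ^ k := Nat.pow_le_pow_left hF3 k
    have h8 := num2 hk
    rw [finrank_prod, hdL, finrank_self] at h2
    omega

/-- **Primes dividing `q ^ n - 1`, `n` odd.** -/
theorem isoPO {F : Type} [Field F] [Fintype F] {p : ℕ} [Fact p.Prime] [CharP F p] (hoddF : Odd (Fintype.card F))
    {k : ℕ} (hk : 3 ≤ k) (hodd : Odd k) {S : Type*} [Group S] (i : POmega F (quadFormOdd k F) ≃* S) {r : ℕ}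
    (hr : r.Prime) (hr1 : r ∣ Fintype.card F ^ k - 1)
    (hr2 : ∀ i : ℕ, 0 < i → i < k → ¬ r ∣ Fintype.card F ^ i - 1) : IsoAt p r S := by
  obtain ⟨K, _, _, b, hKf, y, hK, hy⟩ := Singer.exists_ext F k (by omega)
  have hrk : Module.finrank F K = k := by rw [Module.finrank_eq_card_basis b, Fintype.card_fin]
  have hQ := sg_tq F K hrk
  obtain ⟨hnd, hG, π, hπ, hker⟩ := exists_piO hoddF hk hQ i
  have hcF : Nat.card F = Fintype.card F := Nat.card_eq_fintype_card
  have hF : 2 ≤ Fintype.card F := Fintype.one_lt_card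
  have hF3 : 3 ≤ Fintype.card F := by
    rcases hoddF with ⟨m, hm⟩
    omega
  have hFk : 3 ^ k ≤ Fintype.card F ^ k := Nat.pow_le_pow_left hF3 k
  have h2k := num2 hk
  obtain ⟨s, hs⟩ := hr1
  have hs0 : s ≠ 0 := by
    rintro rfl
    omega
  set lam : Kˣ := y ^ s with hlam
  have hlamo : orderOf (lam : K) = r := by
    rw [orderOf_units, hlam, orderOf_pow_of_dvd hs0 (by rw [hy, hs]; exact Dvd.intro_left r rfl), hy, hs,
      Nat.mul_div_cancel _ (Nat.pos_of_ne_zero hs0)]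
  have hr2' : r ≠ 2 := by
    rintro rfl
    have h1 := hr2 1 one_pos (by omega)
    rw [pow_one] at h1
    exact h1 (Nat.Odd.sub_odd hoddF odd_one).two_dvd
  have hT := torU_plus (F := F) (r := r) (lam := lam) (by omega) (tor_of_odd hr hr2' lam.ne_zero hlamo (by rwa [hrk]) (by
    intro i hi hi2
    rw [hcF]
    rw [hrk] at hi2
    exact hr2 i hi hi2)) hlamo
  have hr2'' : Odd r := hr.odd_of_ne_two hr2'
  refine iso_orth1 (p := p) hr hT hnd (finrank_self F) ?_ ?_ ?_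
    (mem_of_odd hG hT.memO hr2'' hT.pow_eq) π hπ hker ?_
  · rw [hcF]
    intro h1
    have h3 : Fintype.card F ^ k = r * s + 1 := by (clear * - hFk h2k hs; omega)
    have h2 : r ∣ 1 := (Nat.dvd_add_right (Dvd.intro s rfl)).1 (h3 ▸ Dvd.dvd.pow h1 (by omega))
    exact hr.one_lt.ne' (Nat.dvd_one.1 h2)
  · rw [hcF]
    have h1 := hr2 1 one_pos (by omega)
    rwa [pow_one] at h1
  · rw [hcF]
    exact hr2 2 two_pos (by omega)
  · rintro ⟨h1, h2⟩
    have h3 := h1 ⟨zz F (dw y ^ 2), sq_mem hG (dw_mem_O y)⟩ (by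
      apply Subtype.ext
      show zz F (dw lam) * zz F (dw y ^ 2) = zz F (dw y ^ 2) * zz F (dw lam)
      refine LinearEquiv.ext fun v => Prod.ext ?_ rfl
      show (dw lam : (K × K) ≃ₗ[F] (K × K)) ((dw y ^ 2 : (K × K) ≃ₗ[F] (K × K)) v.1) =
        (dw y ^ 2 : (K × K) ≃ₗ[F] (K × K)) ((dw lam : (K × K) ≃ₗ[F] (K × K)) v.1)
      rw [dw_pow, dw_apply, dw_apply, dw_apply, dw_apply]
      refine Prod.ext ?_ ?_
      · show (lam : K) * (((y ^ 2 : Kˣ) : K) * v.1.1) = ((y ^ 2 : Kˣ) : K) * ((lam : K) * v.1.1)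
        ring
      · show ((lam⁻¹ : Kˣ) : K) * ((((y ^ 2)⁻¹ : Kˣ) : K) * v.1.2) = (((y ^ 2)⁻¹ : Kˣ) : K) * (((lam⁻¹ : Kˣ) : K) * v.1.2)
        ring)
    have hnt' : Nontrivial ((K × K) × F) := inferInstance
    obtain ⟨a, ha2, ha, haP⟩ := scal hker hnd hnt' _ h3
    have h4 : ((y ^ (2 * r) : Kˣ) : K) = a • (1 : K) := by
      have h5 := ha (1, 0)
      rw [← pow_mul, dw_pow, dw_apply] at h5
      have h6 := congrArg Prod.fst h5
      rw [mul_one] at h6
      exact h6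
    rw [haP inferInstance, one_smul] at h4
    have h5 : Fintype.card F ^ k - 1 ∣ 2 * r := by
      rw [← hy]
      exact orderOf_dvd_of_pow_eq_one (Units.ext h4)
    have h6 := Nat.le_of_dvd (Nat.mul_pos two_pos hr.pos) h5
    rw [finrank_prod, finrank_self, hQ.dim] at h2
    omega

end geo

end Cfsg.Agent.H128.OZ
end

-- part: H128/OZ/OddCong
section
/-!
# S4842: the isolated primes of `Ω_{2n+1} (q)`, `q` odd, `n ≥ 3`, in the form `Cong`, `CP` (helper128)
-/

set_option autoImplicit false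

namespace Cfsg.Agent.H128.OZ

open Cfsg Cfsg.Agent.H730.OZ Cfsg.Agent.H530.OZ

universe u

variable {S : Type u} [Group S] [Finite S] {F : Type} [Field F] [Fintype F] {n : ℕ}

theorem charP_of {p f : ℕ} (hp : p.Prime) (hcard : Fintype.card F = p ^ f) : CharP F p := by
  have : Fact p.Prime := ⟨hp⟩
  obtain ⟨r, hr⟩ := CharP.exists F
  have hrp : r.Prime := (CharP.char_is_prime_or_zero F r).resolve_right (CharP.char_ne_zero_of_finite F r)
  obtain ⟨m, -, hm⟩ := FiniteField.card F r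
  have h1 : r ∣ p ^ f := by
    rw [← hcard, hm]
    exact dvd_pow_self r m.pos.ne'
  have h2 : r = p := (Nat.prime_dvd_prime_iff_eq hrp hp).1 (hrp.dvd_of_dvd_pow h1)
  rwa [← h2]

/-- a primitive prime for `q ^ (2n) - 1` divides `q ^ n + 1` -/
theorem prim_minus {p n f r : ℕ} (h : Prim p (2 * n * f) r) (hp : 1 ≤ p) (hn : 0 < n) (hf : 0 < f) :
    r ∣ (p ^ f) ^ n + 1 ∧ ∀ i : ℕ, 0 < i → i < 2 * n → ¬ r ∣ (p ^ f) ^ i - 1 := by
  constructor
  · have h1 : r ∣ (p ^ (f * n)) ^ 2 - 1 := by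
      rw [← pow_mul, h.iff]
      exact ⟨1, by ring⟩
    have h2 := Nat.sq_sub_sq (p ^ (f * n)) 1
    rw [one_pow] at h2
    rw [h2] at h1
    rcases h.prime.dvd_mul.1 h1 with h3 | h3
    · rw [← pow_mul]
      exact h3
    · rw [h.iff] at h3
      have h4 := Nat.le_of_dvd (Nat.mul_pos hf hn) h3
      have h5 : 2 * n * f = f * n + f * n := by ring
      have h6 := Nat.mul_pos hf hn
      omega
  · intro i hi hin
    rw [← pow_mul, h.iff]
    intro h1
    have h3 := Nat.le_of_dvd (Nat.mul_pos hf hi) h1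
    have h4 : f * i < f * (2 * n) := Nat.mul_lt_mul_of_pos_left hin hf
    have h5 : 2 * n * f = f * (2 * n) := by ring
    omega

/-- a primitive prime for `q ^ n - 1` -/
theorem prim_plus {p n f r : ℕ} (h : Prim p (n * f) r) (hf : 0 < f) :
    r ∣ (p ^ f) ^ n - 1 ∧ ∀ i : ℕ, 0 < i → i < n → ¬ r ∣ (p ^ f) ^ i - 1 := by
  constructor
  · rw [← pow_mul, h.iff]
    exact ⟨1, by ring⟩
  · intro i hi hin
    rw [← pow_mul, h.iff]
    intro h1
    have h3 := Nat.le_of_dvd (Nat.mul_pos hf hi) h1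
    have h4 : f * i < f * n := Nat.mul_lt_mul_of_pos_left hin hf
    have h5 : n * f = f * n := by ring
    omega

theorem prim_orderOf {p n r : ℕ} (h : Prim p n r) (hp : 1 ≤ p) : orderOf (p : ZMod r) = n := by
  have hr : Fact r.Prime := ⟨h.prime⟩
  have key : ∀ m : ℕ, (p : ZMod r) ^ m = 1 ↔ n ∣ m := by
    intro m
    rw [← h.iff, ← ZMod.natCast_eq_zero_iff, Nat.cast_sub (Nat.one_le_pow _ _ hp), Nat.cast_pow, Nat.cast_one,
      sub_eq_zero]
  refine Nat.dvd_antisymm (orderOf_dvd_of_pow_eq_one ((key n).2 dvd_rfl)) ?_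
  exact (key _).1 (pow_orderOf_eq_one _)

/-- **`d = 2n`** -/
theorem cong_oodd_minus (hodd : Odd (Fintype.card F)) (hn : 3 ≤ n) (e : S ≃* POmega F (quadFormOdd n F)) {p f r : ℕ}
    (hp : p.Prime) (hcard : Fintype.card F = p ^ f) (h : Prim p (2 * n * f) r) : Cong p r 0 S := by
  have : Fact p.Prime := ⟨hp⟩
  have hch : CharP F p := charP_of hp hcard
  have hf : 0 < f := by
    rcases Nat.eq_zero_or_pos f with rfl | hf
    · have h1 : 1 < Fintype.card F := Fintype.one_lt_card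
      rw [hcard, pow_zero] at h1
      exact absurd h1 (lt_irrefl _)
    · exact hf
  obtain ⟨h1, h2⟩ := prim_minus h hp.one_le (by omega) hf
  exact IsoAt.cong hp h.prime (fun h0 => h.nd (h0 ▸ dvd_rfl))
    (isoMO (p := p) hodd hn e.symm h.prime (by rw [hcard]; exact h1) (by rw [hcard]; exact h2))

/-- **`d = n`, `n` odd** -/
theorem cong_oodd_plus (hodd : Odd (Fintype.card F)) (hn : 3 ≤ n) (hno : Odd n) (e : S ≃* POmega F (quadFormOdd n F))
    {p f r : ℕ} (hp : p.Prime) (hcard : Fintype.card F = p ^ f) (h : Prim p (n * f) r) : Cong p r 0 S := by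
  have : Fact p.Prime := ⟨hp⟩
  have hch : CharP F p := charP_of hp hcard
  have hf : 0 < f := by
    rcases Nat.eq_zero_or_pos f with rfl | hf
    · have h1 : 1 < Fintype.card F := Fintype.one_lt_card
      rw [hcard, pow_zero] at h1
      exact absurd h1 (lt_irrefl _)
    · exact hf
  obtain ⟨h1, h2⟩ := prim_plus h hf
  exact IsoAt.cong hp h.prime (fun h0 => h.nd (h0 ▸ dvd_rfl))
    (isoPO (p := p) hodd hn hno e.symm h.prime (by rw [hcard]; exact h1) (by rw [hcard]; exact h2))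

/-- **`CP`, `d = 2n`** -/
theorem cp_oodd_minus (hodd : Odd (Fintype.card F)) (hn : 3 ≤ n) (e : S ≃* POmega F (quadFormOdd n F)) {p f : ℕ}
    (hp : p.Prime) (hcard : Fintype.card F = p ^ f) : H364.OZ.CP p (2 * n * f) S := by
  have hf : 0 < f := by
    rcases Nat.eq_zero_or_pos f with rfl | hf
    · have h1 : 1 < Fintype.card F := Fintype.one_lt_card
      rw [hcard, pow_zero] at h1
      exact absurd h1 (lt_irrefl _)
    · exact hf
  have h3 : 3 ≤ 2 * n * f := by
    have : 2 * n * 1 ≤ 2 * n * f := Nat.mul_le_mul_left _ hf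
    omega
  obtain ⟨r, hr⟩ := exists_prim (p := p) hp.two_le h3 (by
    rintro ⟨rfl, -⟩
    rw [hcard] at hodd
    exact (Nat.not_odd_iff_even.2 ((even_two).pow_of_ne_zero hf.ne')) hodd)
  exact ⟨r, hr.prime, prim_orderOf hr hp.one_le, cong_oodd_minus hodd hn e hp hcard hr⟩

/-- **`CP`, `d = n`, `n` odd** -/
theorem cp_oodd_plus (hodd : Odd (Fintype.card F)) (hn : 3 ≤ n) (hno : Odd n) (e : S ≃* POmega F (quadFormOdd n F))
    {p f : ℕ} (hp : p.Prime) (hcard : Fintype.card F = p ^ f) : H364.OZ.CP p (n * f) S := by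
  have hf : 0 < f := by
    rcases Nat.eq_zero_or_pos f with rfl | hf
    · have h1 : 1 < Fintype.card F := Fintype.one_lt_card
      rw [hcard, pow_zero] at h1
      exact absurd h1 (lt_irrefl _)
    · exact hf
  have h3 : 3 ≤ n * f := by
    have : n * 1 ≤ n * f := Nat.mul_le_mul_left _ hf
    omega
  obtain ⟨r, hr⟩ := exists_prim (p := p) hp.two_le h3 (by
    rintro ⟨rfl, -⟩
    rw [hcard] at hodd
    exact (Nat.not_odd_iff_even.2 ((even_two).pow_of_ne_zero hf.ne')) hodd)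
  exact ⟨r, hr.prime, prim_orderOf hr hp.one_le, cong_oodd_plus hodd hn hno e hp hcard hr⟩

end Cfsg.Agent.H128.OZ
end

-- part: H366/OZ/NotDvd
section
/-!
# S4842: primes `r ∣ q ^ n + 1` not dividing the degree of a character with one zero (helper366)

* `nd_psp` : `PSp_{2n}(q)`;
* `nd_oodd` : `Ω_{2n+1}(q)`, `q` odd, `n ≥ 3`.
-/

set_option autoImplicit false

open Cfsg Cfsg.Agent.Characters Cfsg.Agent.H730.OZ Cfsg.Agent.H477.OZ Cfsg.Agent.H53.HC Cfsg.Agent.H477.HC
open Cfsg.Agent.H366.OZ Cfsg.Agent.H732.VZ Cfsg.Agent.H364.OZ Cfsg.Agent.H559.OZ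

namespace Cfsg.Agent.H366.OZ

universe u

theorem dvd_of_orderOf {q r n : ℕ} (hr : r.Prime) (hn : 2 ≤ n) (h : orderOf (q : ZMod r) = 2 * n) :
    r ∣ q ^ n + 1 ∧ ¬ r ∣ 2 * (1 + q) := by
  have hrf := Fact.mk hr
  have hrq : ¬ r ∣ q := not_dvd_of_order hr (by omega) h
  have hle : 2 * n + 1 ≤ r := by
    have := le_sub_one (q := q) hr hrq
    rw [h] at this
    exact this
  constructor
  · have h1 : ((q : ZMod r) ^ n - 1) * ((q : ZMod r) ^ n + 1) = 0 := by
      have h2 : (q : ZMod r) ^ (2 * n) = 1 := by rw [← h]; exact pow_orderOf_eq_one _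
      have h3 : (q : ZMod r) ^ (2 * n) = ((q : ZMod r) ^ n) * ((q : ZMod r) ^ n) := by rw [two_mul, pow_add]
      rw [h3] at h2
      linear_combination h2
    rcases mul_eq_zero.1 h1 with h2 | h2
    · exfalso
      have h3 : orderOf (q : ZMod r) ∣ n := orderOf_dvd_of_pow_eq_one (sub_eq_zero.1 h2)
      rw [h] at h3
      have := Nat.le_of_dvd (by omega) h3
      omega
    · rw [← ZMod.natCast_eq_zero_iff]
      push_cast
      exact h2
  · intro h1
    rcases hr.dvd_mul.1 h1 with h2 | h2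
    · have := Nat.le_of_dvd two_pos h2
      omega
    · have h3 : (1 : ZMod r) + (q : ZMod r) = 0 := by
        have := (ZMod.natCast_eq_zero_iff (1 + q) r).2 h2
        push_cast at this
        exact this
      have h4 : (q : ZMod r) ^ 2 = 1 := by linear_combination (q - 1 : ZMod r) * h3
      have h5 : orderOf (q : ZMod r) ∣ 2 := orderOf_dvd_of_pow_eq_one h4
      rw [h] at h5
      have := Nat.le_of_dvd two_pos h5
      omega

theorem nd_psp' {S : Type u} [Group S] [Finite S] {F : Type} [Field F] [Fintype F] {n : ℕ} (e : S ≃* PSp n F)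
    (hn : 2 ≤ n) {r : ℕ} (hr : r.Prime)
    (hD : orderOf ((Fintype.card F : ℕ) : ZMod r) = 2 * n) (hex : ¬ (n = 2 ∧ Fintype.card F ≤ 3))
    (χ : IrrCharacter S) (x : S) (hx : _root_.Cfsg.Agent.H732.VZ.One χ x) : ¬ r ∣ charDegree (χ : S → ℂ) := by
  classical
  have hrf := Fact.mk hr
  obtain ⟨π, hπ, hker, hcard⟩ := Cfsg.Agent.H366.OZ.exists_pi e (by omega : 1 ≤ n)
  have hcF : Nat.card F = Fintype.card F := Nat.card_eq_fintype_card
  have hF : 2 ≤ Fintype.card F := Fintype.one_lt_card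
  have hrq : ¬ r ∣ Fintype.card F := not_dvd_of_order hr (by omega) hD
  have hfin : Finite (CForm.spF F n).iso := by
    have : Finite ((Fin n ⊕ Fin n → F) ≃ₗ[F] (Fin n ⊕ Fin n → F)) :=
      Finite.of_injective (fun e => (e : (Fin n ⊕ Fin n → F) → (Fin n ⊕ Fin n → F)))
        (fun a b hab => LinearEquiv.ext fun v => congrFun hab v)
    exact Subtype.finite
  have hfd : Module.finrank F (Fin n ⊕ Fin n → F) = 2 * n := by
    rw [Module.finrank_fintype_fun_eq_card, Fintype.card_sum, Fintype.card_fin]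
    ring
  have hr2 : 2 * n + 1 ≤ r := by
    have := le_sub_one (q := Fintype.card F) hr hrq
    rw [hD] at this
    exact this
  -- the kernel
  have hν : Nat.card π.ker ∣ 2 := by rw [hcard]; exact Nat.gcd_dvd_left _ _
  have hkr : ¬ r ∣ Nat.card π.ker := fun h => by
    have := Nat.le_of_dvd two_pos (h.trans hν)
    omega
  -- `r` divides the order
  have hrG : r ∣ Nat.card (CForm.spF F n).iso := by
    rw [card_eq_mul_ker hπ, hcard, mul_comm, card_psp e (by omega)]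
    refine Dvd.dvd.mul_left ?_ _
    have h1 : r ∣ Fintype.card F ^ (2 * n) - 1 := by
      have h2 : 1 ≤ Fintype.card F ^ (2 * n) := Nat.one_le_pow _ _ (by omega)
      rw [← ZMod.natCast_eq_zero_iff, Nat.cast_sub h2]
      push_cast
      rw [← hD, pow_orderOf_eq_one, sub_self]
    refine h1.trans ?_
    have h3 := Finset.dvd_prod_of_mem (fun i => Fintype.card F ^ (2 * (i + 1)) - 1)
      (Finset.mem_range.2 (by omega : n - 1 < n))
    simpa only [show n - 1 + 1 = n by omega] using h3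
  obtain ⟨y, hyR, hbig, hRT, hC, hcyc⟩ := exists_big (F := CForm.spF F n) (by rw [hcF]; exact hrq)
    (by rw [hfd, hcF, hD]; omega) (default : Sylow r (CForm.spF F n).iso) hrG
  have hnd : Nat.card (Subgroup.centralizer ({y} : Set (CForm.spF F n).iso)) ≠ r * Nat.card π.ker ∨
      ∃ m : ℕ, ¬ r ∣ m ∧ ¬ IsConj (π y) (π y ^ m) := by
    refine hbig.card_cent_or (fun a => rfl) (j := n) (by omega) (by rw [hcF, hD]) (fun a _ _ u _ => rfl) hπ hker hkr ?_
    rw [hcF]
    exact numSp hn hF hcard hex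
  exact tr_not_dvd hπ hker hkr _ hcyc hbig.orderOf_eq hyR hC hnd χ x hx

/-- **`PSp_{2n}(q)`** : a prime `r ∣ q ^ n + 1`, `r ∤ 2 (q + 1)`, not dividing the degrees. -/
theorem nd_psp {S : Type u} [Group S] [Finite S] {F : Type} [Field F] [Fintype F] {n : ℕ} (e : S ≃* PSp n F)
    (hn : 2 ≤ n) {p a : ℕ} (hp : p.Prime) (hcard : Fintype.card F = p ^ a) (hex : ¬ (n = 2 ∧ Fintype.card F ≤ 3))
    (hex' : ¬ (n = 3 ∧ Fintype.card F = 2)) :
    ∃ r : ℕ, r.Prime ∧ r ∣ Fintype.card F ^ n + 1 ∧ ¬ r ∣ 2 * (1 + Fintype.card F) ∧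
      ∀ χ : S → ℂ, IsIrrCharacter S χ → OneZero χ → ¬ r ∣ charDegree χ := by
  have hF : 2 ≤ Fintype.card F := Fintype.one_lt_card
  have ha : 0 < a := Nat.pos_of_ne_zero (by rintro rfl; rw [hcard, pow_zero] at hF; omega)
  have h4 : 2 * 2 ≤ 2 * n := Nat.mul_le_mul_left 2 hn
  have h5 : 2 * n ≤ a * (2 * n) := Nat.le_mul_of_pos_left _ ha
  obtain ⟨r, hr, hord⟩ := Cfsg.Agent.Lib.Zsigmondy.exists_prime_orderOf (a := p) (n := a * (2 * n)) hp.two_le
    (by omega) (by omega) (by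
      rintro ⟨rfl, h6⟩
      apply hex'
      have h7 : a * n = 3 := by
        have : 2 * (a * n) = 6 := by rw [← h6]; ring
        omega
      have h8 : n = 3 := by
        rcases (Nat.dvd_prime Nat.prime_three).1 (Dvd.intro_left _ h7) with h | h
        · omega
        · exact h
      have h9 : a = 1 := by
        rw [h8] at h7
        omega
      exact ⟨h8, by rw [hcard, h9]; norm_num⟩)
  have hD := orderOf_of_pow ha hcard hord
  obtain ⟨h6, h7⟩ := dvd_of_orderOf hr hn hD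
  refine ⟨r, hr, h6, h7, fun χ hχ hO => ?_⟩
  obtain ⟨x, hx⟩ := (oneZero_iff hχ).1 hO
  exact nd_psp' e hn hr hD hex ⟨χ, hχ⟩ x hx

/-- `IsoAt` primes do not divide the degrees. -/
theorem isoAt_not_dvd {S : Type u} [Group S] [Finite S] {p r : ℕ} (hr : r.Prime) (hne : r ≠ p)
    (h : Cfsg.Agent.H530.OZ.IsoAt p r S) {χ : S → ℂ} (hχ : IsIrrCharacter S χ) (hO : OneZero χ) : ¬ r ∣ charDegree χ := by
  obtain ⟨x, hx⟩ := (oneZero_iff hχ).1 hO
  obtain ⟨z, h1, h2, h3, h4, h5⟩ := h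
  have hI : Cfsg.Agent.H732.VZ.Iso S p r := by
    refine ⟨hr, hne, z, h1, h2, fun y hy _ => h3 y hy, ?_, ?_⟩
    · rintro v hv ⟨k, hk⟩
      rcases k with _ | k
      · rw [pow_zero] at hk
        exact orderOf_eq_one_iff.1 hk
      · exact absurd (hk ▸ dvd_pow_self p (Nat.succ_ne_zero k)) (h4 v hv)
    · by_contra hcon
      push Not at hcon
      exact h5 ⟨hcon.1, fun m hm => hcon.2 m hm⟩
  exact hI.not_dvd ⟨χ, hχ⟩ x hx

/-- **`Ω_{2n+1}(q)`**, `q` odd : a prime `r ∣ q ^ n + 1`, `r ∤ 2 (q + 1)`, not dividing the degrees. -/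
theorem nd_oodd {S : Type u} [Group S] [Finite S] {F : Type} [Field F] [Fintype F] {n : ℕ}
    (hodd : Odd (Fintype.card F)) (hn : 3 ≤ n) (e : S ≃* POmega F (quadFormOdd n F)) {p f : ℕ} (hp : p.Prime)
    (hcard : Fintype.card F = p ^ f) :
    ∃ r : ℕ, r.Prime ∧ r ∣ Fintype.card F ^ n + 1 ∧ ¬ r ∣ 2 * (1 + Fintype.card F) ∧
      ∀ χ : S → ℂ, IsIrrCharacter S χ → OneZero χ → ¬ r ∣ charDegree χ := by
  have hpf := Fact.mk hp
  have hch : CharP F p := Cfsg.Agent.H128.OZ.charP_of hp hcard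
  have hF : 2 ≤ Fintype.card F := Fintype.one_lt_card
  have hf : 0 < f := Nat.pos_of_ne_zero (by rintro rfl; rw [hcard, pow_zero] at hF; omega)
  have h3 : 3 ≤ 2 * n * f := by
    have : 2 * n * 1 ≤ 2 * n * f := Nat.mul_le_mul_left _ hf
    omega
  obtain ⟨r, hr⟩ := Cfsg.Agent.H530.OZ.exists_prim (p := p) hp.two_le h3 (by
    rintro ⟨rfl, -⟩
    rw [hcard] at hodd
    exact (Nat.not_odd_iff_even.2 ((even_two).pow_of_ne_zero hf.ne')) hodd)
  obtain ⟨h1, h2⟩ := Cfsg.Agent.H128.OZ.prim_minus hr hp.one_le (by omega) hf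
  have hord : orderOf (p : ZMod r) = f * (2 * n) := by
    rw [Cfsg.Agent.H128.OZ.prim_orderOf hr hp.one_le, mul_comm]
  have hD := orderOf_of_pow hf hcard hord
  obtain ⟨h6, h7⟩ := dvd_of_orderOf hr.prime (by omega) hD
  refine ⟨r, hr.prime, h6, h7, fun χ hχ hO => ?_⟩
  exact isoAt_not_dvd hr.prime (fun h0 => hr.nd (h0 ▸ dvd_rfl))
    (Cfsg.Agent.H128.OZ.isoMO (p := p) hodd hn e.symm hr.prime (by rw [hcard]; exact h1) (by rw [hcard]; exact h2)) hχ hO

end Cfsg.Agent.H366.OZ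
end

-- part: H559/OZ/SpOdd
section
/-!
# S4842: the isolated primes of `PSp_{2n}(q)`, `n` odd, dividing `q ^ n - 1` (helper559)

* `cong_psp_odd` : `Cong p r 0 S` for a prime `r` with `orderOf (q : ZMod r) = n`, `n ≥ 3` odd, `q ≥ 3`;
* `cp_psp_odd` : the same as `CP`.
-/

set_option autoImplicit false

open Module QuadraticMap Subgroup Cfsg Cfsg.Agent.Characters Cfsg.Agent.H730.OZ Cfsg.Agent.H477.OZ Cfsg.Agent.H53.HC
open Cfsg.Agent.H477.HC Cfsg.Agent.H366.OZ Cfsg.Agent.H732.VZ Cfsg.Agent.H364.OZ Cfsg.Agent.H530.CJ Cfsg.Agent.H530.OZ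
open Cfsg.Agent.H93.CJ Cfsg.Agent.H93.PReg

namespace Cfsg.Agent.H559.OZ

universe u

section space

variable {F L : Type} [Field F] [Field L] [Algebra F L]

/-- transport of linear automorphisms -/
def cj {U W : Type} [AddCommGroup U] [Module F U] [AddCommGroup W] [Module F W] (θ : U ≃ₗ[F] W) :
    (U ≃ₗ[F] U) ≃* (W ≃ₗ[F] W) where
  toFun g := (θ.symm.trans g).trans θ
  invFun h := (θ.trans h).trans θ.symm
  left_inv g := by
    ext v
    show θ.symm (θ (g (θ.symm (θ v)))) = g v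
    rw [LinearEquiv.symm_apply_apply, LinearEquiv.symm_apply_apply]
  right_inv h := by
    ext v
    show θ (θ.symm (h (θ (θ.symm v)))) = h v
    rw [LinearEquiv.apply_symm_apply, LinearEquiv.apply_symm_apply]
  map_mul' g g' := by
    ext v
    show θ (g (g' (θ.symm v))) = θ (g (θ.symm (θ (g' (θ.symm v)))))
    rw [LinearEquiv.symm_apply_apply]

/-- `dw` as a homomorphism -/
noncomputable def dwHom (F : Type) {L : Type} [Field F] [Field L] [Algebra F L] :
    Lˣ →* ((L × L) ≃ₗ[F] (L × L)) where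
  toFun u := dw u
  map_one' := by
    refine LinearEquiv.ext fun v => ?_
    rw [dw_apply, inv_one, Units.val_one, one_mul, one_mul]
    rfl
  map_mul' u w := by
    refine LinearEquiv.ext fun v => ?_
    rw [LinearEquiv.mul_apply, dw_apply, dw_apply, dw_apply, Units.val_mul, mul_inv, Units.val_mul, mul_assoc, mul_assoc]

/-- The centralizer of `dw lam` in the symplectic group of `L × L`. -/
theorem cen_dw [Finite F] [Finite L] {lam : Lˣ} (hT : Tor F (lam : L)) {g : (L × L) ≃ₗ[F] (L × L)}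
    (hg : ∀ u v : L × L, Algebra.trace F L ((g u).1 * (g v).2) - Algebra.trace F L ((g v).1 * (g u).2) =
      Algebra.trace F L (u.1 * v.2) - Algebra.trace F L (v.1 * u.2))
    (hc : Commute g (dw lam)) : ∃ α : Lˣ, g = dw α := by
  have hfd : FiniteDimensional F L := Module.Finite.of_finite
  have hcc : ∀ v : L × L, g ((lam : L) * v.1, ((lam⁻¹ : Lˣ) : L) * v.2) =
      ((lam : L) * (g v).1, ((lam⁻¹ : Lˣ) : L) * (g v).2) := fun v => LinearEquiv.congr_fun hc.eq v
  have h11 : ∀ a, (g ((lam : L) * a, 0)).1 = lam * (g (a, 0)).1 := by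
    intro a
    have := congrArg Prod.fst (hcc (a, 0))
    simpa using this
  have h21 : ∀ a, (g ((lam : L) * a, 0)).2 = (lam : L)⁻¹ * (g (a, 0)).2 := by
    intro a
    have := congrArg Prod.snd (hcc (a, 0))
    simpa using this
  have h12 : ∀ b, (g (0, (lam : L) * b)).1 = (lam : L)⁻¹ * (g (0, b)).1 := by
    intro b
    have h1 := congrArg Prod.fst (hcc (0, (lam : L) * b))
    have h2 : (g (0, b)).1 = (lam : L) * (g (0, (lam : L) * b)).1 := by simpa using h1
    rw [h2, inv_mul_cancel_left₀ lam.ne_zero]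
  have h22 : ∀ b, (g (0, (lam : L) * b)).2 = (lam : L) * (g (0, b)).2 := by
    intro b
    have h1 := congrArg Prod.snd (hcc (0, (lam : L) * b))
    have h2 : (g (0, b)).2 = (lam : L)⁻¹ * (g (0, (lam : L) * b)).2 := by simpa using h1
    rw [h2, mul_inv_cancel_left₀ lam.ne_zero]
  have e21 := eq_zero hT (q := (LinearMap.snd F L L).comp (g.toLinearMap.comp (LinearMap.inl F L L))) h21
  have e12 := eq_zero hT (q := (LinearMap.fst F L L).comp (g.toLinearMap.comp (LinearMap.inr F L L))) h12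
  obtain ⟨α, hα⟩ := eq_mul hT (q := (LinearMap.fst F L L).comp (g.toLinearMap.comp (LinearMap.inl F L L))) h11
  obtain ⟨β, hβ⟩ := eq_mul hT (q := (LinearMap.snd F L L).comp (g.toLinearMap.comp (LinearMap.inr F L L))) h22
  have hα' : ∀ a, g (a, 0) = (α * a, 0) := fun a =>
    Prod.ext (hα a) (LinearMap.congr_fun e21 a)
  have hβ' : ∀ b, g (0, b) = (0, β * b) := fun b =>
    Prod.ext (LinearMap.congr_fun e12 b) (hβ b)
  have hgv : ∀ v : L × L, g v = (α * v.1, β * v.2) := by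
    intro v
    have h1 : v = (v.1, 0) + (0, v.2) := by simp
    rw [h1, map_add, hα', hβ']
    simp
  have hαβ : α * β = 1 := by
    have h1 : α * β - 1 = 0 := by
      refine eq_zero_of_trace (F := F) fun b => ?_
      have h2 := hg (1, 0) (0, b)
      rw [hgv, hgv] at h2
      simp only [mul_one, mul_zero, map_zero, sub_zero, one_mul] at h2
      rw [sub_mul, one_mul, map_sub, mul_assoc, h2, sub_self]
    exact sub_eq_zero.1 h1
  have hα0 : α ≠ 0 := left_ne_zero_of_mul_eq_one hαβ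
  refine ⟨Units.mk0 α hα0, LinearEquiv.ext fun v => ?_⟩
  rw [hgv, dw_apply]
  refine Prod.ext rfl ?_
  show β * v.2 = (((Units.mk0 α hα0)⁻¹ : Lˣ) : L) * v.2
  rw [Units.val_inv_eq_inv_val, Units.val_mk0, eq_inv_of_mul_eq_one_right hαβ]

/-- The isometry of `L × L` with the standard symplectic space. -/
theorem exists_theta [Finite L] {n : ℕ} (b : Basis (Fin n) F L) :
    ∃ θ : (L × L) ≃ₗ[F] (Fin n ⊕ Fin n → F), ∀ u v : L × L, (CForm.spF F n).B (θ u) (θ v) =
      Algebra.trace F L (u.1 * v.2) - Algebra.trace F L (v.1 * u.2) := by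
  classical
  have hfd : FiniteDimensional F L := Module.Finite.of_finite
  have : Algebra.IsAlgebraic F L := inferInstance
  have hnd := traceForm_nondegenerate F L
  set c : Basis (Fin n) F L := LinearMap.BilinForm.dualBasis (Algebra.traceForm F L) hnd b with hc
  have htr : ∀ x y : L, Algebra.trace F L (x * y) = ∑ i, b.repr x i * c.repr y i := by
    intro x y
    have h1 : ∀ i, c.repr y i = Algebra.trace F L (y * b i) := by
      intro i
      rw [hc, LinearMap.BilinForm.dualBasis_repr_apply, Algebra.traceForm_apply]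
    conv_lhs => rw [← b.sum_repr x]
    rw [Finset.sum_mul, map_sum]
    refine Finset.sum_congr rfl fun i _ => ?_
    rw [h1, smul_mul_assoc, map_smul, smul_eq_mul, mul_comm (b i)]
  refine ⟨(LinearEquiv.prodCongr b.equivFun c.equivFun : (L × L) ≃ₗ[F] (Fin n → F) × (Fin n → F)).trans
    (LinearEquiv.sumArrowLequivProdArrow (Fin n) (Fin n) F F).symm, fun u v => ?_⟩
  show (∑ i : Fin n, (b.repr u.1 i * c.repr v.2 i - c.repr u.2 i * b.repr v.1 i)) = _
  rw [htr, htr, ← Finset.sum_sub_distrib]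
  exact Finset.sum_congr rfl fun i _ => by ring

end space

theorem num4 {n : ℕ} (hn : 3 ≤ n) : 4 * n + 3 < 3 ^ n := by
  induction n, hn using Nat.le_induction with
  | base => norm_num
  | succ k hk ih => rw [pow_succ]; omega

/-- **Primes of order `n`, `n` odd.** -/
theorem cong_psp_odd {S : Type u} [Group S] [Finite S] {F : Type} [Field F] [Fintype F] {n : ℕ} (e : S ≃* PSp n F)
    (hn : 3 ≤ n) (hodd : Odd n) (hq3 : 3 ≤ Fintype.card F) {p : ℕ} [hp : Fact p.Prime] [CharP F p] {r : ℕ}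
    (hr : r.Prime) (hD : orderOf ((Fintype.card F : ℕ) : ZMod r) = n) : Cong p r 0 S := by
  classical
  have hrf := Fact.mk hr
  obtain ⟨π, hπ, hker, hcard⟩ := Cfsg.Agent.H366.OZ.exists_pi e (by omega : 1 ≤ n)
  have hcF : Nat.card F = Fintype.card F := Nat.card_eq_fintype_card
  have hrq : ¬ r ∣ Fintype.card F := not_dvd_of_order hr (by omega) hD
  obtain ⟨-, a, ha, hqa⟩ := exists_pow F p
  have hfd : Module.finrank F (Fin n ⊕ Fin n → F) = 2 * n := by
    rw [Module.finrank_fintype_fun_eq_card, Fintype.card_sum, Fintype.card_fin]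
    ring
  have hrp : r ≠ p := by
    rintro rfl
    apply hrq
    rw [hqa]
    exact dvd_pow_self r (by omega)
  have hrn : n + 1 ≤ r := by
    have := le_sub_one (q := Fintype.card F) hr hrq
    rw [hD] at this
    exact this
  have hr2 : r ≠ 2 := by omega
  have hdvd : ∀ i : ℕ, r ∣ Fintype.card F ^ i - 1 ↔ n ∣ i := by
    intro i
    have h1 : 1 ≤ Fintype.card F ^ i := Nat.one_le_pow _ _ (by omega)
    rw [← hD, orderOf_dvd_iff_pow_eq_one, ← ZMod.natCast_eq_zero_iff, Nat.cast_sub h1]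
    push_cast
    exact sub_eq_zero
  -- the kernel
  have hν : Nat.card π.ker ∣ 2 := by rw [hcard]; exact Nat.gcd_dvd_left _ _
  have hν2 : Nat.card π.ker ≤ 2 := Nat.le_of_dvd two_pos hν
  have hkr : ¬ r ∣ Nat.card π.ker := fun h => by
    have := Nat.le_of_dvd two_pos (h.trans hν)
    omega
  have hkp : ¬ p ∣ Nat.card π.ker := by
    rw [hcard]
    intro h
    have h2 : p ∣ Fintype.card F - 1 := h.trans (Nat.gcd_dvd_right _ _)
    have h3 : p ∣ Fintype.card F := by rw [hqa]; exact dvd_pow_self p (by omega)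
    have h4 := Nat.dvd_sub h3 h2
    rw [Nat.sub_sub_self Fintype.card_pos] at h4
    exact hp.out.one_lt.ne' (Nat.dvd_one.1 h4)
  -- the field
  obtain ⟨L, _, _, b, hLf, y, hL, hy⟩ := Singer.exists_ext F n (by omega)
  have hrk : Module.finrank F L = n := by rw [Module.finrank_eq_card_basis b, Fintype.card_fin]
  have hchL : CharP L p := charP_of_injective_algebraMap (algebraMap F L).injective p
  obtain ⟨s, hs⟩ := (hdvd n).2 dvd_rfl
  have hFk : 3 ^ n ≤ Fintype.card F ^ n := Nat.pow_le_pow_left hq3 n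
  have hs0 : s ≠ 0 := by
    rintro rfl
    have := Nat.pow_le_pow_right (by norm_num : 0 < 3) hn
    omega
  set lam : Lˣ := y ^ s with hlam
  have hlamo' : orderOf lam = r := by
    rw [hlam, orderOf_pow_of_dvd hs0 (by rw [hy, hs]; exact Dvd.intro_left r rfl), hy, hs,
      Nat.mul_div_cancel _ (Nat.pos_of_ne_zero hs0)]
  have hlamo : orderOf (lam : L) = r := by rw [orderOf_units, hlamo']
  have hT : Tor F (lam : L) := tor_of_odd hr hr2 lam.ne_zero hlamo (by rwa [hrk]) (by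
    intro i hi hi2 h
    rw [hcF] at h
    rw [hrk] at hi2
    have := Nat.le_of_dvd hi ((hdvd i).1 h)
    omega)
  obtain ⟨θ, hθ⟩ := exists_theta b
  -- the torus
  have hmem : ∀ α : Lˣ, cj θ (dw α) ∈ (CForm.spF F n).iso := by
    intro α
    refine ⟨fun u v => ?_, fun v => rfl⟩
    have hB : ∀ u v : L × L, (CForm.spF F n).B (θ ((dw α : (L × L) ≃ₗ[F] (L × L)) u)) (θ ((dw α : (L × L) ≃ₗ[F] (L × L)) v)) = (CForm.spF F n).B (θ u) (θ v) := by
      intro u v
      rw [hθ, hθ, dw_apply, dw_apply]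
      have h1 : ∀ x z : L, (α : L) * x * (((α⁻¹ : Lˣ) : L) * z) = x * z := by
        intro x z
        rw [mul_mul_mul_comm, Units.mul_inv, one_mul]
      simp only [h1]
    have h2 := hB (θ.symm u) (θ.symm v)
    rw [LinearEquiv.apply_symm_apply, LinearEquiv.apply_symm_apply] at h2
    exact h2
  let δ : Lˣ →* (CForm.spF F n).iso := MonoidHom.mk' (fun α => ⟨cj θ (dw α), hmem α⟩) (fun α β => Subtype.ext (by
    show cj θ (dw (α * β)) = cj θ (dw α) * cj θ (dw β)
    rw [← map_mul]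
    congr 1
    exact (dwHom F).map_mul α β))
  have hδinj : Function.Injective δ := by
    intro α β h
    have h1 : cj θ (dw α) = cj θ (dw β) := congrArg Subtype.val h
    have h2 := (cj θ).injective h1
    have h3 := congrArg Prod.fst (LinearEquiv.congr_fun h2 (1, 0))
    rw [dw_apply, dw_apply] at h3
    have h4 : (α : L) * 1 = β * 1 := h3
    rw [mul_one, mul_one] at h4
    exact Units.ext h4
  set z : (CForm.spF F n).iso := δ lam with hz
  have hzo : orderOf z = r := by rw [hz, orderOf_injective δ hδinj, hlamo']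
  have hcen : ∀ g : (CForm.spF F n).iso, Commute g z → ∃ α, g = δ α := by
    intro g hg
    obtain ⟨α, hα⟩ := cen_dw (F := F) hT (g := (cj θ).symm (g : (Fin n ⊕ Fin n → F) ≃ₗ[F] (Fin n ⊕ Fin n → F))) (by
      intro u v
      have h1 : ∀ w : L × L, θ ((cj θ).symm (g : (Fin n ⊕ Fin n → F) ≃ₗ[F] (Fin n ⊕ Fin n → F)) w) =
          (g : (Fin n ⊕ Fin n → F) ≃ₗ[F] (Fin n ⊕ Fin n → F)) (θ w) := by
        intro w
        show θ (θ.symm ((g : (Fin n ⊕ Fin n → F) ≃ₗ[F] (Fin n ⊕ Fin n → F)) (θ w))) = _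
        rw [LinearEquiv.apply_symm_apply]
      rw [← hθ, h1, h1, CForm.iso_B, hθ]) (by
      have h1 : Commute (g : (Fin n ⊕ Fin n → F) ≃ₗ[F] (Fin n ⊕ Fin n → F)) (cj θ (dw lam)) := congrArg Subtype.val hg.eq
      have h2 := h1.map (cj θ).symm
      rwa [MulEquiv.symm_apply_apply] at h2)
    refine ⟨α, Subtype.ext ?_⟩
    show (g : (Fin n ⊕ Fin n → F) ≃ₗ[F] (Fin n ⊕ Fin n → F)) = cj θ (dw α)
    rw [← hα, MulEquiv.apply_symm_apply]
  have hle : Subgroup.centralizer ({z} : Set (CForm.spF F n).iso) ≤ δ.range := by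
    intro g hg
    obtain ⟨α, hα⟩ := hcen g (Subgroup.mem_centralizer_singleton_iff.1 hg)
    exact ⟨α, hα.symm⟩
  have hfin : Finite (CForm.spF F n).iso := by
    have : Finite ((Fin n ⊕ Fin n → F) ≃ₗ[F] (Fin n ⊕ Fin n → F)) :=
      Finite.of_injective (fun e => (e : (Fin n ⊕ Fin n → F) → (Fin n ⊕ Fin n → F)))
        (fun a b hab => LinearEquiv.ext fun v => congrFun hab v)
    exact Subtype.finite
  let τ : Subgroup.centralizer ({z} : Set (CForm.spF F n).iso) →* Lˣ :=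
    (MonoidHom.ofInjective hδinj).symm.toMonoidHom.comp (Subgroup.inclusion hle)
  have hτ : Function.Injective τ :=
    (MonoidHom.ofInjective hδinj).symm.injective.comp (Subgroup.inclusion_injective hle)
  refine IsoAt.cong hp.out hr hrp (isoAt_of_cover (c := Nat.card π.ker) (z := z) hπ hr hp.out ?_ ?_ ?_ ?_ hzo τ ?_ ?_ ?_ ?_)
  · intro k hk h
    exact (Subgroup.mem_center_iff.1 (hker hk) h).symm
  · intro k hk
    have h1 : (⟨k, hk⟩ : π.ker) ^ Nat.card π.ker = 1 := pow_card_eq_one'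
    exact congrArg Subtype.val h1
  · exact ((Nat.Prime.coprime_iff_not_dvd hr).2 hkr).symm
  · exact ((Nat.Prime.coprime_iff_not_dvd hp.out).2 hkp).symm
  · intro x _ hx
    exact hτ (hx.trans (map_one τ).symm)
  · intro x y _
    apply hτ
    rw [map_mul, map_mul, mul_comm]
  · intro x hx hxp
    obtain ⟨α, rfl⟩ := hcen x hx.symm
    have h1 : α ^ p = 1 := by
      apply hδinj
      rw [map_pow, hxp, map_one]
    have h2 : α = 1 := by
      apply Units.ext
      have h5 : ((α : L) - 1) ^ p = 0 := by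
        rw [sub_pow_char, one_pow, ← Units.val_pow_eq_pow_val, h1, Units.val_one, sub_self]
      exact sub_eq_zero.1 (pow_eq_zero_iff hp.out.ne_zero |>.1 h5)
    rw [h2, map_one]
  · rintro ⟨h1, h2⟩
    -- the order of the torus
    have h3 : Fintype.card F ^ n - 1 ∣ r * 2 := by
      rw [← hy]
      apply orderOf_dvd_of_pow_eq_one
      apply hδinj
      have h4 := h1 (δ y) (by
        show δ lam * δ y = δ y * δ lam
        rw [← map_mul, ← map_mul, mul_comm])
      rw [← map_pow] at h4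
      have h5 : (⟨δ y ^ r, MonoidHom.mem_ker.2 h4⟩ : π.ker) ^ Nat.card π.ker = 1 := pow_card_eq_one'
      have h6 : (δ y ^ r) ^ Nat.card π.ker = 1 := congrArg Subtype.val h5
      obtain ⟨k, hk⟩ := hν
      rw [map_pow, pow_mul, hk, pow_mul, h6, one_pow, map_one]
    -- the eigenvalues
    have h4 : r ≤ 2 * n + 1 := by
      have h5 := le_of_roots (U := (Fin n ⊕ Fin n → F)) (F := F) (L := L)
        (z : (Fin n ⊕ Fin n → F) ≃ₗ[F] (Fin n ⊕ Fin n → F)).toLinearMap hlamo (by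
        intro m hm0 hm
        have hrm : ¬ r ∣ m := fun h => absurd (Nat.le_of_dvd hm0 h) (not_le.2 hm)
        obtain ⟨g, hg⟩ := isConj_iff.1 (h2 m hrm)
        have hg' : (g : (Fin n ⊕ Fin n → F) ≃ₗ[F] (Fin n ⊕ Fin n → F)) * z * (g : (Fin n ⊕ Fin n → F) ≃ₗ[F] (Fin n ⊕ Fin n → F))⁻¹ =
            (z : (Fin n ⊕ Fin n → F) ≃ₗ[F] (Fin n ⊕ Fin n → F)) ^ m := congrArg Subtype.val hg
        have h3 : ((z : (Fin n ⊕ Fin n → F) ≃ₗ[F] (Fin n ⊕ Fin n → F)) ^ m).toLinearMap.charpoly =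
            (z : (Fin n ⊕ Fin n → F) ≃ₗ[F] (Fin n ⊕ Fin n → F)).toLinearMap.charpoly := by
          rw [← hg']
          exact LinearEquiv.charpoly_conj (g : (Fin n ⊕ Fin n → F) ≃ₗ[F] (Fin n ⊕ Fin n → F))
            (z : (Fin n ⊕ Fin n → F) ≃ₗ[F] (Fin n ⊕ Fin n → F)).toLinearMap
        rw [← h3]
        refine root_charpoly _ ((lam : L) ^ m) (θ.toLinearMap.comp (LinearMap.inl F L L))
          (θ.injective.comp LinearMap.inl_injective) ?_
        intro l
        have h5 : (z : (Fin n ⊕ Fin n → F) ≃ₗ[F] (Fin n ⊕ Fin n → F)) ^ m = cj θ (dw (lam ^ m)) := by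
          have h6 : δ lam ^ m = δ (lam ^ m) := (map_pow δ lam m).symm
          exact congrArg Subtype.val h6
        rw [h5]
        show θ (dw (lam ^ m) (θ.symm (θ (l, 0)))) = θ ((lam : L) ^ m * l, 0)
        rw [LinearEquiv.symm_apply_apply, dw_apply]
        congr 1
        exact Prod.ext (by rw [Units.val_pow_eq_pow_val]) (mul_zero _))
      rwa [hfd] at h5
    have h5 := Nat.le_of_dvd (by (clear * - hrn; omega)) h3
    have h6 := num4 hn
    (clear * - hFk h4 h5 h6; omega)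

/-- the characteristic -/
theorem charP_of_card {F : Type} [Field F] [Fintype F] {p a : ℕ} (hp : p.Prime) (hcard : Fintype.card F = p ^ a) :
    CharP F p ∧ 0 < a := by
  have hF : 2 ≤ Fintype.card F := Fintype.one_lt_card
  have ha : 0 < a := Nat.pos_of_ne_zero (by rintro rfl; rw [hcard, pow_zero] at hF; omega)
  obtain ⟨p', hp'⟩ := CharP.exists F
  obtain ⟨⟨f', hf'⟩, hpp', hcard'⟩ := FiniteField.card F p'
  simp only [PNat.mk_coe] at hcard'
  rw [hcard] at hcard'
  have h1 : p ∣ p' ^ f' := by rw [← hcard']; exact dvd_pow_self p ha.ne'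
  have h2 : p = p' := (Nat.prime_dvd_prime_iff_eq hp hpp').1 (hp.dvd_of_dvd_pow h1)
  rw [h2]
  exact ⟨hp', ha⟩

/-- `CP` for the order `n`, `n` odd. -/
theorem cp_psp_odd {S : Type u} [Group S] [Finite S] {F : Type} [Field F] [Fintype F] {n : ℕ} (e : S ≃* PSp n F)
    (hn : 3 ≤ n) (hodd : Odd n) (hq3 : 3 ≤ Fintype.card F) {p a : ℕ} (hp : p.Prime) (hcard : Fintype.card F = p ^ a)
    (hex : ¬ (p = 2 ∧ a * n = 6)) : CP p (a * n) S := by
  have hpf := Fact.mk hp
  obtain ⟨hch, ha⟩ := charP_of_card hp hcard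
  have h5 : n ≤ a * n := Nat.le_mul_of_pos_left _ ha
  obtain ⟨r, hr, hord⟩ := Cfsg.Agent.Lib.Zsigmondy.exists_prime_orderOf (a := p) (n := a * n) hp.two_le
    (by omega) (by omega) hex
  exact ⟨r, hr, hord, cong_psp_odd e hn hodd hq3 hr (orderOf_of_pow ha hcard hord)⟩

/-- `CP` for a divisor of `a n`, `n` odd (`3` for `q = 4`, `n = 3`). -/
theorem exists_cp_psp_odd {S : Type u} [Group S] [Finite S] {F : Type} [Field F] [Fintype F] {n : ℕ} (e : S ≃* PSp n F)
    (hn : 3 ≤ n) (hodd : Odd n) (hq3 : 3 ≤ Fintype.card F) {p a : ℕ} (hp : p.Prime) (hcard : Fintype.card F = p ^ a) :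
    ∃ D, D ∣ a * n ∧ n ∣ D ∧ CP p D S := by
  by_cases hex : p = 2 ∧ a * n = 6
  · obtain ⟨rfl, h6⟩ := hex
    have hpf := Fact.mk hp
    obtain ⟨hch, ha⟩ := charP_of_card hp hcard
    have hn3 : n = 3 := by
      have h1 : n ∣ 6 := Dvd.intro_left _ h6
      have h2 : n ≤ 6 := Nat.le_of_dvd (by norm_num) h1
      interval_cases n
      · rfl
      · exact absurd h1 (by decide)
      · exact absurd h1 (by decide)
      · exact absurd hodd (by decide)
    subst hn3
    have ha2 : a = 2 := by omega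
    subst ha2
    have h7 : Nat.Prime 7 := by norm_num
    have hf7 := Fact.mk h7
    refine ⟨3, by norm_num, dvd_rfl, 7, h7, ?_, cong_psp_odd e hn hodd hq3 h7 ?_⟩
    · exact orderOf_eq_prime (by decide) (by decide)
    · rw [hcard]
      exact orderOf_eq_prime (by decide) (by decide)
  · exact ⟨a * n, dvd_rfl, Dvd.intro_left _ rfl, cp_psp_odd e hn hodd hq3 hp hcard hex⟩

end Cfsg.Agent.H559.OZ
end

-- part: H448/OZ/BCMid
section
/-!
# S4842: `PSp₆, PSp₈, Ω₇, Ω₉`: everything except the middle value (helper448)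

`row_psp3`, `row_psp4`, `row_oodd3`, `row_oodd4`: the row, from the hypothesis that no character with exactly one
class of zeros has sum `p ^ (2 n a)` over the `p`-elements.
-/

set_option autoImplicit false

open Cfsg Cfsg.Agent.H730.OZ Cfsg.Agent.H477.OZ Cfsg.Agent.H364.OZ

namespace Cfsg.Agent.H448.OZ

universe u

/-! ## Arithmetic -/

/-- a prime with `ord_r(q) = 4` -/
theorem exists_four {q : ℕ} (hq : 2 ≤ q) : ∃ r : ℕ, r.Prime ∧ orderOf ((q : ℕ) : ZMod r) = 4 := by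
  have h4 : ¬ 4 ∣ q ^ 2 + 1 := by
    intro h
    rcases Nat.even_or_odd q with ⟨k, hk⟩ | ⟨k, hk⟩
    · subst hk
      have h1 : 4 ∣ (k + k) ^ 2 := ⟨k ^ 2, by ring⟩
      have h2 := (Nat.dvd_add_right h1).1 h
      omega
    · subst hk
      have h1 : 4 ∣ (2 * k + 1) ^ 2 + 3 := ⟨k ^ 2 + k + 1, by ring⟩
      have h2 := (Nat.dvd_sub h1 h)
      have h3 : (2 * k + 1) ^ 2 + 3 - ((2 * k + 1) ^ 2 + 1) = 2 := by omega
      rw [h3] at h2
      omega
  have h5 : 5 ≤ q ^ 2 + 1 := by nlinarith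
  obtain ⟨r, hr, hr2, hd⟩ : ∃ r : ℕ, r.Prime ∧ r ≠ 2 ∧ r ∣ q ^ 2 + 1 := by
    by_contra hno
    have h6 : ∀ {d : ℕ}, d.Prime → d ∣ q ^ 2 + 1 → d = 2 := by
      intro d hd hdd
      by_contra h7
      exact hno ⟨d, hd, h7, hdd⟩
    have h7 := Nat.eq_prime_pow_of_unique_prime_dvd (by omega) h6
    set k := (q ^ 2 + 1).primeFactorsList.length
    rcases Nat.lt_or_ge k 2 with hk | hk
    · have h8 : 2 ^ k ≤ 2 ^ 1 := Nat.pow_le_pow_right two_pos (by omega)
      omega
    · refine h4 ?_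
      rw [h7]
      exact (show (4 : ℕ) = 2 ^ 2 by norm_num) ▸ pow_dvd_pow 2 hk
  refine ⟨r, hr, ?_⟩
  have : Fact r.Prime := ⟨hr⟩
  have h6 : ((q : ℕ) : ZMod r) ^ 2 = -1 := by
    have h7 := (ZMod.natCast_eq_zero_iff (q ^ 2 + 1) r).2 hd
    push_cast at h7
    linear_combination h7
  have h7 : (-1 : ZMod r) ≠ 1 := by
    have : Fact (2 < r) := ⟨by have := hr.two_le; omega⟩
    exact ZMod.neg_one_ne_one
  have h8 : orderOf ((q : ℕ) : ZMod r) ∣ 4 := orderOf_dvd_of_pow_eq_one (by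
    rw [show 4 = 2 * 2 by norm_num, pow_mul, h6]; ring)
  have h9 : ¬ orderOf ((q : ℕ) : ZMod r) ∣ 2 := by
    intro h
    rw [orderOf_dvd_iff_pow_eq_one, h6] at h
    exact h7 h
  have h10 : orderOf ((q : ℕ) : ZMod r) ∈ Nat.divisors 4 := Nat.mem_divisors.2 ⟨h8, by norm_num⟩
  rw [show Nat.divisors 4 = {1, 2, 4} by decide] at h10
  simp only [Finset.mem_insert, Finset.mem_singleton] at h10
  rcases h10 with h | h | h
  · exact absurd (h ▸ one_dvd _) h9
  · exact absurd (h ▸ dvd_rfl) h9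
  · exact h

/-- The middle value for `n = 3`. -/
theorem mid_three {p a m r D y : ℕ} {e : ℤ} (ha : 0 < a) (hm0 : 0 < m) (hm : m < 2 * (a * 3 ^ 2))
    (he : e = 1 ∨ e = -1) (h6 : a * (2 * 3) ∣ 2 * m) (h6' : e = 1 → a * (2 * 3) ∣ m) (hD : D ∣ a * 3)
    (hD' : e = -1 → ¬ D ∣ m) (hr : r.Prime) (hord : orderOf ((p ^ a : ℕ) : ZMod r) = 4)
    (hdv : (r : ℤ) ∣ e * (p : ℤ) ^ m - (p : ℤ) ^ (a * y)) (hy : ¬ 4 ∣ y) : e = 1 ∧ m = a * 6 := by
  have h3 : a * 3 ∣ m := by
    obtain ⟨c, hc⟩ := h6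
    exact ⟨c, by linarith only [hc]⟩
  have he1 : e = 1 := by
    rcases he with h | h
    · exact h
    · exact absurd (hD.trans h3) (hD' h)
  refine ⟨he1, ?_⟩
  obtain ⟨c, hc⟩ := h6' he1
  subst he1
  subst hc
  have hc0 : 0 < c := by
    rcases Nat.eq_zero_or_pos c with h | h
    · subst h; omega
    · exact h
  have hc3 : c < 3 := by
    by_contra h
    have : 3 ≤ c := by omega
    nlinarith only [hm, h]
  rcases (by omega : c = 1 ∨ c = 2) with rfl | rfl
  · ring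
  · exfalso
    have : Fact r.Prime := ⟨hr⟩
    have h7 := (ZMod.intCast_zmod_eq_zero_iff_dvd _ r).2 hdv
    push_cast at h7
    set x : ZMod r := ((p : ℕ) : ZMod r) ^ a with hx
    have h8 : x ^ 4 = 1 := by
      have := pow_orderOf_eq_one ((p ^ a : ℕ) : ZMod r)
      rw [hord] at this
      push_cast at this
      exact this
    have h9 : (p : ZMod r) ^ (a * (2 * 3) * 2) = 1 := by
      rw [show a * (2 * 3) * 2 = a * (4 * 3) by ring, pow_mul, ← hx, pow_mul, h8, one_pow]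
    rw [h9, pow_mul, ← hx] at h7
    have h10 : x ^ y = 1 := by linear_combination -h7
    refine hy ?_
    rw [← hord]
    refine orderOf_dvd_of_pow_eq_one ?_
    push_cast
    exact h10

/-- The middle value for `n = 4`. -/
theorem mid_four {p a m : ℕ} {e : ℤ} (ha : 0 < a) (hm0 : 0 < m) (hm : m < 2 * (a * 4 ^ 2)) (he : e = 1 ∨ e = -1)
    (h0 : ∃ r : ℕ, r.Prime ∧ orderOf (p : ZMod r) = a * (2 * 4) ∧ (r : ℤ) ∣ e * (p : ℤ) ^ m - 1)
    (h1 : ∃ r : ℕ, r.Prime ∧ orderOf (p : ZMod r) = a * (2 * (4 - 1)) ∧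
      (r : ℤ) ∣ e * (p : ℤ) ^ m - (p : ℤ) ^ (a * 2)) : e = 1 ∧ m = a * 8 := by
  obtain ⟨t, ht0, ht, hmt, hte⟩ := H167.OZ.exists_t ha le_rfl hm0 hm he h0
  obtain ⟨r, hr, hD, hd⟩ := h1
  have h2 := H167.OZ.red (e' := 1) (k := 1) (n := 4) (y := 2) ha hmt hte (Or.inl rfl) (by norm_num) hr hD
    (by rw [one_mul]; exact hd)
  rw [if_pos rfl] at h2
  have h3 := H167.OZ.t_two (n := 4) le_rfl ht0 ht h2
  subst h3
  refine ⟨?_, by rw [hmt]⟩
  rcases hte with ⟨h, -⟩ | ⟨-, h⟩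
  · exact h
  · exact absurd h (by decide)

/-- The middle values for `n = 4`, `q = 3`. -/
theorem mid_four' {p a m : ℕ} {e : ℤ} (ha : 0 < a) (hm0 : 0 < m) (hm : m < 2 * (a * 4 ^ 2)) (he : e = 1 ∨ e = -1)
    (h0 : ∃ r : ℕ, r.Prime ∧ orderOf (p : ZMod r) = a * (2 * 4) ∧ (r : ℤ) ∣ e * (p : ℤ) ^ m - 1)
    (h1 : ∃ r : ℕ, r.Prime ∧ orderOf (p : ZMod r) = a * (2 * (4 - 1)) ∧
      (r : ℤ) ∣ e * (p : ℤ) ^ m - (-1) * (p : ℤ) ^ (a * 1)) : e = 1 ∧ m = a * 16 := by
  obtain ⟨t, ht0, ht, hmt, hte⟩ := H167.OZ.exists_t ha le_rfl hm0 hm he h0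
  obtain ⟨r, hr, hD, hd⟩ := h1
  have h2 := H167.OZ.red (e' := -1) (k := 1) (n := 4) (y := 1) ha hmt hte (Or.inr rfl) (by norm_num) hr hD hd
  rw [if_neg (by norm_num)] at h2
  have h3 := H167.OZ.t_n (n := 4) le_rfl ht0 ht (by push_cast at h2 ⊢; exact h2)
  subst h3
  refine ⟨?_, by rw [hmt]⟩
  rcases hte with ⟨h, -⟩ | ⟨-, h⟩
  · exact h
  · exact absurd h (by decide)

/-! ## The four rows -/

section psp

variable {S : Type u} [Group S] [Finite S] {F : Type} [Field F] [Fintype F] {p a : ℕ}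

/-- the data of a character with exactly one class of zeros -/
theorem front_psp {n : ℕ} (hs : IsSimpleGroup S) (e : S ≃* PSp n F) (hn : 2 ≤ n) (hp : p.Prime) (ha : 0 < a)
    (hF : Fintype.card F = p ^ a) {χ : S → ℂ} (hχ : IsIrrCharacter S χ) (hz : OneZero χ) :
    ∃ (m : ℕ) (ε : ℤ), ((ε = 1 ∨ ε = -1) ∧ 0 < m ∧ m < 2 * (a * n ^ 2) ∧
      (∀ D, 3 ≤ D → CP p D S → D ∣ 2 * m ∧ (ε = -1 → ¬ D ∣ m) ∧ (ε = 1 → D ∣ m)) ∧
      ∀ r k : ℕ, Cong p r k S → (r : ℤ) ∣ ε * (p : ℤ) ^ m - (p : ℤ) ^ k) ∧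
      ∑ᶠ u ∈ pSet p S, χ u = (ε : ℂ) * (p : ℂ) ^ m * χ 1 := by
  have hch : CharP F p := (H559.OZ.charP_of_card hp hF).1
  exact mid_of_cong hs hp (H366.OZ.fact_psp e (by omega) hp ha hF) (by positivity) (H366.OZ.kaw_psp e (by omega))
    (H366.OZ.not_dvd_psp e hn hp ha hF)
    (Q := fun m ε => (ε = 1 ∨ ε = -1) ∧ 0 < m ∧ m < 2 * (a * n ^ 2) ∧
      (∀ D, 3 ≤ D → CP p D S → D ∣ 2 * m ∧ (ε = -1 → ¬ D ∣ m) ∧ (ε = 1 → D ∣ m)) ∧
      ∀ r k : ℕ, Cong p r k S → (r : ℤ) ∣ ε * (p : ℤ) ^ m - (p : ℤ) ^ k)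
    (fun m ε hε h0 h1 hc => ⟨hε, h0, h1, fun D hD h => h.spec hD hc hε, hc⟩) hχ hz

/-- **`PSp₆(q)`, `q ≥ 4`.** -/
theorem row_psp3 (hs : IsSimpleGroup S) (e : S ≃* PSp 3 F) (hq : 4 ≤ Fintype.card F) (hp : p.Prime) (ha : 0 < a)
    (hF : Fintype.card F = p ^ a)
    (hHC : ∀ χ : S → ℂ, IsIrrCharacter S χ → OneZero χ → ∑ᶠ u ∈ pSet p S, χ u = (p : ℂ) ^ (a * 6) * χ 1 → False) :
    Row S := by
  refine Row.of_none fun χ hχ hz => ?_
  have hch : CharP F p := (H559.OZ.charP_of_card hp hF).1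
  obtain ⟨m, ε, ⟨hε, hm0, hm, hCP, -⟩, hsum⟩ := front_psp hs e (by norm_num) hp ha hF hχ hz
  obtain ⟨r, hr, hord⟩ := exists_four (q := Fintype.card F) (by omega)
  obtain ⟨c, hc, hd⟩ := congS_psp_two e (p := p) (k := 1) (by norm_num) (by norm_num) hq hr hord χ hχ hz m ε hε hsum
  have hc' : c = (p : ℤ) ^ (a * 18) := by
    rcases hc with ⟨h, -⟩ | ⟨-, h, -⟩ | ⟨-, h, -⟩ | ⟨h, -⟩ | ⟨-, -, -, h⟩
    · omega
    · omega
    · omega
    · omega
    · rw [h, H366.OZ.fact_psp e (by norm_num) hp ha hF]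
      congr 1
      ring
  rw [hc'] at hd
  obtain ⟨D, hD1, hD2, hD3⟩ := H559.OZ.exists_cp_psp_odd e le_rfl (by decide) (by omega) hp hF
  have hD0 : 3 ≤ D := by
    have h1 : 0 < D := Nat.pos_of_dvd_of_pos hD1 (by positivity)
    exact Nat.le_of_dvd h1 hD2
  have h6 := hCP _ (by omega) (H559.OZ.cp_psp e (by norm_num) hp hF (by omega) (by omega))
  have h3 := hCP D hD0 hD3
  rw [hF] at hord
  obtain ⟨h7, h8⟩ := mid_three ha hm0 hm hε h6.1 h6.2.2 hD1 h3.2.1 hr hord hd (by norm_num)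
  refine hHC χ hχ hz ?_
  rw [hsum, h7, h8, Int.cast_one, one_mul]

/-- **`PSp₈(q)`, `q ≥ 3`.** -/
theorem row_psp4 (hs : IsSimpleGroup S) (e : S ≃* PSp 4 F) (hq : 3 ≤ Fintype.card F) (hp : p.Prime) (ha : 0 < a)
    (hF : Fintype.card F = p ^ a)
    (hHC : ∀ χ : S → ℂ, IsIrrCharacter S χ → OneZero χ → ∑ᶠ u ∈ pSet p S, χ u = (p : ℂ) ^ (a * 8) * χ 1 → False)
    (hHC' : Fintype.card F = 3 → ∀ χ : S → ℂ, IsIrrCharacter S χ → OneZero χ →
      ∑ᶠ u ∈ pSet 3 S, χ u = (3 : ℂ) ^ 16 * χ 1 → False) :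
    Row S := by
  refine Row.of_none fun χ hχ hz => ?_
  have hch : CharP F p := (H559.OZ.charP_of_card hp hF).1
  obtain ⟨m, ε, ⟨hε, hm0, hm, hCP, hCg⟩, hsum⟩ := front_psp hs e (by norm_num) hp ha hF hχ hz
  have h0 : ∃ r : ℕ, r.Prime ∧ orderOf (p : ZMod r) = a * (2 * 4) ∧ (r : ℤ) ∣ ε * (p : ℤ) ^ m - 1 := by
    obtain ⟨r, hr, hord, hc⟩ := H559.OZ.cp_psp e (by norm_num) hp hF (by omega) (by omega)
    exact ⟨r, hr, hord, by simpa using hCg r 0 hc⟩
  have hpa : p ^ a ≠ 2 := by omega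
  obtain ⟨r, hr, hord, hord'⟩ := H167.OZ.exists_r (n := 4) (k := 1) hp ha (by norm_num) (fun h => hpa h.1)
  obtain ⟨c, hc, hd⟩ := spCong_psp e (p := p) (by norm_num) 1 r (by norm_num) (by norm_num) hr (by rw [hF]; exact hord')
    χ hχ hz m ε hε hsum
  rcases hc with ⟨h, -⟩ | ⟨-, h, -⟩ | ⟨-, h, h1⟩ | ⟨h, -⟩ | ⟨-, -, -, h⟩
  · omega
  · omega
  · rw [h] at hF
    obtain ⟨rfl, rfl⟩ := H167.OZ.prime_of_pow ha Nat.prime_three hF.symm
    rcases h1 with rfl | rfl
    · obtain ⟨h7, h8⟩ := mid_four ha hm0 hm hε h0 ⟨r, hr, hord, by norm_num only [] at hd ⊢; exact hd⟩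
      refine hHC χ hχ hz ?_
      rw [hsum, h7, h8, Int.cast_one, one_mul]
    · obtain ⟨h7, h8⟩ := mid_four' ha hm0 hm hε h0 ⟨r, hr, hord, by norm_num only [_root_.sub_neg_eq_add] at hd ⊢; exact hd⟩
      refine hHC' h χ hχ hz ?_
      rw [hsum, h7, h8, Int.cast_one, one_mul]
      norm_num
  · omega
  · have h2 := H366.OZ.pow_swap (n := 4) (k := 1) (a := a) (p := p) (r := r) (by norm_num) hord
    have h3 : (r : ℤ) ∣ ε * (p : ℤ) ^ m - (p : ℤ) ^ (a * 2) := by
      rw [h, H366.OZ.fact_psp e (by norm_num) hp ha hF] at hd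
      have h4 := dvd_add hd h2
      rw [sub_add_sub_cancel, show 2 * a * 1 ^ 2 = a * 2 by ring] at h4
      exact h4
    obtain ⟨h7, h8⟩ := mid_four ha hm0 hm hε h0 ⟨r, hr, hord, h3⟩
    refine hHC χ hχ hz ?_
    rw [hsum, h7, h8, Int.cast_one, one_mul]

/-- **`PSp₈(q)`, `q ≥ 3`**, with the congruence modulo `13` for `q = 3`. -/
theorem row_psp4_of (hs : IsSimpleGroup S) (e : S ≃* PSp 4 F) (hq : 3 ≤ Fintype.card F) (hp : p.Prime) (ha : 0 < a)
    (hF : Fintype.card F = p ^ a) (h13 : Fintype.card F = 3 → CongS 3 13 {9, -3} S)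
    (hHC : ∀ χ : S → ℂ, IsIrrCharacter S χ → OneZero χ → ∑ᶠ u ∈ pSet p S, χ u = (p : ℂ) ^ (a * 8) * χ 1 → False) :
    Row S := by
  refine row_psp4 hs e hq hp ha hF hHC fun h χ hχ hz hsum => ?_
  obtain ⟨c, hc, hd⟩ := h13 h χ hχ hz 16 1 (Or.inl rfl) (by rw [hsum]; norm_num)
  simp only [Set.mem_insert_iff, Set.mem_singleton_iff] at hc
  rcases hc with rfl | rfl
  · norm_num at hd
  · norm_num at hd

end psp

section oodd

variable {S : Type u} [Group S] [Finite S] {F : Type} [Field F] [Fintype F] {p a : ℕ}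

/-- the data of a character with exactly one class of zeros -/
theorem front_oodd {n : ℕ} (hs : IsSimpleGroup S) (e : S ≃* POmega F (quadFormOdd n F)) (ho : Odd (Fintype.card F))
    (hn : 3 ≤ n) (hp : p.Prime) (ha : 0 < a)
    (hF : Fintype.card F = p ^ a) {χ : S → ℂ} (hχ : IsIrrCharacter S χ) (hz : OneZero χ) :
    ∃ (m : ℕ) (ε : ℤ), ((ε = 1 ∨ ε = -1) ∧ 0 < m ∧ m < 2 * (a * n ^ 2) ∧
      (∀ D, 3 ≤ D → CP p D S → D ∣ 2 * m ∧ (ε = -1 → ¬ D ∣ m) ∧ (ε = 1 → D ∣ m)) ∧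
      ∀ r k : ℕ, Cong p r k S → (r : ℤ) ∣ ε * (p : ℤ) ^ m - (p : ℤ) ^ k) ∧
      ∑ᶠ u ∈ pSet p S, χ u = (ε : ℂ) * (p : ℂ) ^ m * χ 1 := by
  have hch : CharP F p := (H559.OZ.charP_of_card hp hF).1
  exact mid_of_cong hs hp (H366.OZ.fact_oodd e ho hn hp ha hF) (by positivity) (H366.OZ.kaw_oodd e ho (by omega))
    (H366.OZ.not_dvd_oodd e ho hn hp ha hF)
    (Q := fun m ε => (ε = 1 ∨ ε = -1) ∧ 0 < m ∧ m < 2 * (a * n ^ 2) ∧
      (∀ D, 3 ≤ D → CP p D S → D ∣ 2 * m ∧ (ε = -1 → ¬ D ∣ m) ∧ (ε = 1 → D ∣ m)) ∧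
      ∀ r k : ℕ, Cong p r k S → (r : ℤ) ∣ ε * (p : ℤ) ^ m - (p : ℤ) ^ k)
    (fun m ε hε h0 h1 hc => ⟨hε, h0, h1, fun D hD h => h.spec hD hc hε, hc⟩) hχ hz

/-- **`Ω₇(q)`, `q` odd.** -/
theorem row_oodd3 (hs : IsSimpleGroup S) (e : S ≃* POmega F (quadFormOdd 3 F)) (ho : Odd (Fintype.card F))
    (hp : p.Prime) (ha : 0 < a) (hF : Fintype.card F = p ^ a)
    (hKC : ∀ r : ℕ, r.Prime → orderOf ((Fintype.card F : ℕ) : ZMod r) = 2 * (3 - 1) → Cong p r (2 * a * 1 ^ 2) S)
    (hHC : ∀ χ : S → ℂ, IsIrrCharacter S χ → OneZero χ → ∑ᶠ u ∈ pSet p S, χ u = (p : ℂ) ^ (a * 6) * χ 1 → False) :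
    Row S := by
  refine Row.of_none fun χ hχ hz => ?_
  have hq : 3 ≤ Fintype.card F := by
    obtain ⟨k, hk⟩ := ho
    have := Fintype.one_lt_card (α := F)
    omega
  obtain ⟨m, ε, ⟨hε, hm0, hm, hCP, hCg⟩, hsum⟩ := front_oodd hs e ho le_rfl hp ha hF hχ hz
  obtain ⟨r, hr, hord⟩ := exists_four (q := Fintype.card F) (by omega)
  have hd := hCg r _ (hKC r hr hord)
  rw [show 2 * a * 1 ^ 2 = a * 2 by ring] at hd
  have h6 := hCP _ (by linarith only [ha]) (H128.OZ.cp_oodd_minus ho le_rfl e hp hF)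
  have h3 := hCP _ (by omega) (H128.OZ.cp_oodd_plus ho le_rfl (by decide) e hp hF)
  rw [show 2 * 3 * a = a * (2 * 3) by ring] at h6
  rw [hF] at hord
  obtain ⟨h7, h8⟩ := mid_three ha hm0 hm hε h6.1 h6.2.2 (D := 3 * a) ⟨1, by ring⟩ h3.2.1 hr hord hd (by norm_num)
  refine hHC χ hχ hz ?_
  rw [hsum, h7, h8, Int.cast_one, one_mul]

/-- **`Ω₉(q)`, `q` odd.** -/
theorem row_oodd4 (hs : IsSimpleGroup S) (e : S ≃* POmega F (quadFormOdd 4 F)) (ho : Odd (Fintype.card F))
    (hp : p.Prime) (ha : 0 < a) (hF : Fintype.card F = p ^ a)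
    (hKC : ∀ r : ℕ, r.Prime → orderOf ((Fintype.card F : ℕ) : ZMod r) = 2 * (4 - 1) → Cong p r (2 * a * 1 ^ 2) S)
    (hHC : ∀ χ : S → ℂ, IsIrrCharacter S χ → OneZero χ → ∑ᶠ u ∈ pSet p S, χ u = (p : ℂ) ^ (a * 8) * χ 1 → False) :
    Row S := by
  refine Row.of_none fun χ hχ hz => ?_
  have hpa : p ^ a ≠ 2 := by
    rintro h
    rw [hF, h] at ho
    exact absurd ho (by decide)
  obtain ⟨m, ε, ⟨hε, hm0, hm, hCP, hCg⟩, hsum⟩ := front_oodd hs e ho (by norm_num) hp ha hF hχ hz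
  have h0 : ∃ r : ℕ, r.Prime ∧ orderOf (p : ZMod r) = a * (2 * 4) ∧ (r : ℤ) ∣ ε * (p : ℤ) ^ m - 1 := by
    obtain ⟨r, hr, hord, hc⟩ := H128.OZ.cp_oodd_minus ho (by norm_num) e hp hF
    exact ⟨r, hr, by rw [hord]; ring, by simpa using hCg r 0 hc⟩
  obtain ⟨r, hr, hord, hord'⟩ := H167.OZ.exists_r (n := 4) (k := 1) hp ha (by norm_num) (fun h => hpa h.1)
  have hd := hCg r _ (hKC r hr (by rw [hF]; exact hord'))
  rw [show 2 * a * 1 ^ 2 = a * 2 by ring] at hd
  obtain ⟨h7, h8⟩ := mid_four ha hm0 hm hε h0 ⟨r, hr, hord, hd⟩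
  refine hHC χ hχ hz ?_
  rw [hsum, h7, h8, Int.cast_one, one_mul]

end oodd

end Cfsg.Agent.H448.OZ
end
end

-- part: H205/OZ/Nrm_mg
section
prune_inst 0x204604471482212000000050000201ea6de00040000000000088608040788a60040808060840000001a02000d0030006000000030400000000a000000011d04810000000410400000420018000000010000000000000000000000000000000000204010000
set_option linter.all false
open scoped Cfsg.Agent.FastGrp

-- part: H205/OZ/Om
section
/-!
# S4842: the group `Om Q` of the isometries of determinant one and spinor sign one (helper205)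

* `nonempty_om` : `PΩ_{2n+1}(F) ≃ Om Q` for every nondegenerate `Q` in dimension `2n + 1`, `n ≥ 1`;
* `card_pomega` : the order of `PΩ_{2n+1}`, `n ≥ 1`;
* `card_unip` : `q ^ (2 n ^ 2)` elements of `p`-power order, `n = 0, 1, 2`.
-/

set_option autoImplicit false
set_option linter.unusedSectionVars false

namespace Cfsg.Agent.H205.OZ

open Module QuadraticMap Cfsg
open Cfsg.Agent.LieClassical.OrthCore Cfsg.Agent.LieClassical.OrthFinite Cfsg.Agent.LieClassical.OrthForms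
open Cfsg.Agent.H160.QSpin Cfsg.Agent.H160.QDisc Cfsg.Agent.H160.QSplit

section Om

variable {F V W : Type*} [Field F] [AddCommGroup V] [Module F V] [Finite V] [AddCommGroup W] [Module F W] [Finite W]

/-- isometries of determinant one and spinor sign one -/
def Om (Q : QuadraticForm F V) : Subgroup (V ≃ₗ[F] V) where
  carrier := {g | El Q 1 g}
  one_mem' := El.one Q
  mul_mem' := by
    intro a b ha hb
    have := El.mul ha hb
    rwa [mul_one] at this
  inv_mem' := by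
    rintro a ⟨h1, h2, h3⟩
    refine ⟨(O Q).inv_mem h1, by rw [map_inv, h2, inv_one], ?_⟩
    have h4 : (⟨a⁻¹, (O Q).inv_mem h1⟩ : O Q) = ⟨a, h1⟩⁻¹ := rfl
    rw [h4, map_inv, h3, inv_one]

/-- transport -/
def omCongr {Q : QuadraticForm F V} {Q' : QuadraticForm F W} {e : V ≃ₗ[F] W} (he : IsIso Q Q' e) :
    Om Q ≃* Om Q' where
  toFun g := ⟨cj e g, El.cj he g.2⟩
  invFun g := ⟨cj e.symm g, El.cj he.symm g.2⟩
  left_inv g := Subtype.ext ((cjEquiv e).symm_apply_apply g)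
  right_inv g := Subtype.ext ((cjEquiv e).apply_symm_apply g)
  map_mul' a b := Subtype.ext (cj_mul e a b)

end Om

section Mat

variable {ι : Type} [Fintype ι] [DecidableEq ι] {F : Type*} [Field F] [Finite F]

theorem nd_bilin {Q : QuadraticForm F (ι → F)} (hQ : Nondeg Q) : (polarBilin Q).Nondegenerate := by
  refine ⟨fun x hx => hQ x hx, fun x hx => hQ x fun y => ?_⟩
  rw [polar_comm]
  exact hx y

theorem mem_omega_iff (h2 : (2 : F) ≠ 0) {Q : QuadraticForm F (ι → F)} (hQ : Nondeg Q) (hd : 2 ≤ Fintype.card ι)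
    (g : Cfsg.isometryGroup F ⇑Q) : g ∈ Cfsg.Omega F ⇑Q ↔ El Q 1 (isometryEquiv Q g : (ι → F) ≃ₗ[F] (ι → F)) := by
  rw [Cfsg.Agent.ClassicalGeometry.OmegaIndex.mem_Omega_iff h2 Q (nd_bilin hQ) hd one_ne_zero g]
  have h3 : LinearEquiv.det (isometryEquiv Q g : (ι → F) ≃ₗ[F] (ι → F)) = 1 ↔
      ((g : Matrix.GeneralLinearGroup ι F) : Matrix ι ι F).det = 1 := by
    rw [← Cfsg.Agent.FooteOrth.det_isometryEquiv, ← Units.val_inj, Units.val_one]
  have h4 : spin Q (isometryEquiv Q g) = Cfsg.Agent.ClassicalGeometry.SpinorSign.spinorSign (⇑Q) 1 g := by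
    rw [spin_eq_sg]
    show Cfsg.Agent.ClassicalGeometry.SpinorSign.spinorSign (⇑Q) 1
      ((isometryEquiv Q).symm (isometryEquiv Q g)) = _
    rw [MulEquiv.symm_apply_apply]
  rw [← h3, ← h4]
  exact ⟨fun h => ⟨(isometryEquiv Q g).2, h.1, h.2⟩, fun ⟨_, h, h'⟩ => ⟨h, h'⟩⟩

/-- `Ω` as a group of linear automorphisms -/
theorem nonempty_omega (h2 : (2 : F) ≠ 0) {Q : QuadraticForm F (ι → F)} (hQ : Nondeg Q) (hd : 2 ≤ Fintype.card ι) :
    Nonempty (Cfsg.Omega F ⇑Q ≃* Om Q) := by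
  let f : Cfsg.Omega F ⇑Q →* Om Q :=
    (((O Q).subtype.comp (isometryEquiv Q).toMonoidHom).comp (Cfsg.Omega F ⇑Q).subtype).codRestrict (Om Q)
      fun g => (mem_omega_iff h2 hQ hd g).1 g.2
  refine ⟨MulEquiv.ofBijective f ⟨?_, ?_⟩⟩
  · intro a b hab
    have h1 := congrArg (fun x : Om Q => (x : (ι → F) ≃ₗ[F] (ι → F))) hab
    change ((isometryEquiv Q a : O Q) : (ι → F) ≃ₗ[F] (ι → F)) = (isometryEquiv Q b : O Q) at h1
    exact Subtype.ext ((isometryEquiv Q).injective (Subtype.ext h1))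
  · rintro ⟨g, hg⟩
    obtain ⟨h1, h3, h4⟩ := hg
    obtain ⟨a, ha⟩ := (isometryEquiv Q).surjective ⟨g, h1⟩
    refine ⟨⟨a, (mem_omega_iff h2 hQ hd a).2 ?_⟩, Subtype.ext ?_⟩
    · rw [ha]
      exact ⟨h1, h3, h4⟩
    · show ((isometryEquiv Q a : O Q) : (ι → F) ≃ₗ[F] (ι → F)) = g
      rw [ha]

end Mat

section Abs

variable {F : Type} [Field F] [Finite F] {V : Type*} [AddCommGroup V] [Module F V] [Finite V]

/-- **`PΩ_{2n+1}`** -/
theorem nonempty_om (h2 : (2 : F) ≠ 0) {Q : QuadraticForm F V} (hQ : Nondeg Q) {n : ℕ} (hn : 1 ≤ n)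
    (hd : finrank F V = 2 * n + 1) : Nonempty (POmega F (quadFormOdd n F) ≃* Om Q) := by
  have : Module.Finite F V := Module.Finite.of_finite
  obtain ⟨Q', e, he⟩ := exists_fin Q hd
  have hQ' : Nondeg Q' := he.nondeg hQ
  obtain ⟨e1⟩ := Cfsg.Agent.Fischer919.OmegaIdent.exists_equiv_quadFormOdd h2 Q' (nd_bilin hQ')
  have hs : ∃ u : Fin (2 * n + 1) → F, u ≠ 0 ∧ Q' u = 0 := by
    obtain ⟨w, -, hw0, hw⟩ := Cfsg.Agent.LieClassical.OrthFinite.exists_sing_mem (Q := Q') ⊤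
      (by rw [finrank_top]; simp only [_root_.Module.finrank_fintype_fun_eq_card, _root_.Fintype.card_fin, _root_.Nat.reduceLeDiff, _root_.Order.lt_two_iff, _root_.zero_le, _root_.le_mul_iff_one_le_right]; omega)
    exact ⟨w, hw0, hw⟩
  have hc : Subgroup.center (Omega F (⇑Q')) = ⊥ :=
    Cfsg.Agent.LieClassical.OrthCenter.center_omega_eq_bot_of_odd h2 (nd_bilin hQ')
      (by simp only [_root_.Fintype.card_fin, _root_.Nat.reduceLeDiff, _root_.Order.lt_two_iff, _root_.zero_le, _root_.le_mul_iff_one_le_right]; omega) (by simp only [_root_.Fintype.card_fin, _root_.even_two, _root_.Even.mul_right, _root_.Even.add_one]) hs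
  let e3 : (Omega F (⇑Q') ⧸ Subgroup.center (Omega F (⇑Q'))) ≃* Omega F (⇑Q') :=
    (QuotientGroup.quotientMulEquivOfEq hc).trans QuotientGroup.quotientBot
  obtain ⟨e4⟩ := nonempty_omega h2 hQ' (by simp; omega)
  exact ⟨(e1.symm.trans (e3.trans e4)).trans (omCongr he).symm⟩

end Abs

section Orders

variable {F : Type} [Field F] [Fintype F]

theorem two_ne_of_odd {q : ℕ} (hF : Fintype.card F = q) (hodd : Odd q) : (2 : F) ≠ 0 := by
  intro h
  have h' : (ringChar F) = 2 := by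
    have hd : ringChar F ∣ 2 := (ringChar.spec F 2).1 (by exact_mod_cast h)
    rcases (Nat.dvd_prime Nat.prime_two).1 hd with h1 | h1
    · exact absurd h1 (CharP.ringChar_ne_one)
    · exact h1
  have heven := FiniteField.even_card_of_char_two h'
  rw [hF] at heven
  have := Nat.odd_iff.1 hodd
  omega

theorem finrank_odd (F : Type) [Field F] (m : ℕ) : finrank F (Unit ⊕ (Fin m ⊕ Fin m) → F) = 2 * m + 1 := by
  rw [Module.finrank_fintype_fun_eq_card]
  simp only [_root_.Fintype.card_sum, _root_.Fintype.card_unique, _root_.Fintype.card_fin]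
  ring

theorem card_pomega {q : ℕ} (hF : Fintype.card F = q) (hodd : Odd q) {m : ℕ} (hm : 1 ≤ m) :
    2 * Nat.card (Cfsg.POmega F (Cfsg.quadFormOdd m F)) =
      q ^ (m ^ 2) * ∏ i ∈ Finset.range m, (q ^ (2 * (i + 1)) - 1) := by
  have h2 := two_ne_of_odd hF hodd
  have hQ := nd_bilin (nondeg_oddForm m F h2)
  have hcard : Fintype.card (Unit ⊕ (Fin m ⊕ Fin m)) = 2 * m + 1 := by
    simp only [_root_.Fintype.card_sum, _root_.Fintype.card_unique, _root_.Fintype.card_fin]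
    ring
  have hs : ∃ u : Unit ⊕ (Fin m ⊕ Fin m) → F, u ≠ 0 ∧ oddForm m F u = 0 := by
    obtain ⟨w, -, hw0, hw⟩ := Cfsg.Agent.LieClassical.OrthFinite.exists_sing_mem (Q := oddForm m F) ⊤
      (by rw [finrank_top, finrank_odd]; omega)
    exact ⟨w, hw0, hw⟩
  have hc := Cfsg.Agent.LieClassical.OrthCenter.card_center_omega_of_odd h2 hQ (by omega)
    (by rw [hcard]; exact ⟨m, rfl⟩) hs
  have hi := Cfsg.Agent.ClassicalGeometry.OmegaIndex.index_Omega h2 (by omega) (oddForm m F) hQ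
  have h := Cfsg.Agent.LieClassical.OrthCenter.card_POmega_mul (⇑(oddForm m F))
  rw [hc, hi, coe_oddForm, Cfsg.Agent.S0286.result hF hodd] at h
  have h3 : 2 * (2 * Nat.card (Cfsg.POmega F (Cfsg.quadFormOdd m F)))
      = 2 * (q ^ (m ^ 2) * ∏ i ∈ Finset.range m, (q ^ (2 * (i + 1)) - 1)) := by
    rw [← mul_assoc 2 (q ^ (m ^ 2)), ← h]
    ring
  exact Nat.eq_of_mul_eq_mul_left (by norm_num) h3

/-- the exponent of `p` in the order -/
theorem factorization_pomega {p a : ℕ} (hp : p.Prime) (ha : 0 < a) (hF : Fintype.card F = p ^ a) (h2 : p ≠ 2) {m : ℕ}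
    (hm : 1 ≤ m) : (Nat.card (Cfsg.POmega F (Cfsg.quadFormOdd m F))).factorization p = a * m ^ 2 := by
  have hodd : Odd (p ^ a) := (hp.odd_of_ne_two h2).pow
  have h := card_pomega hF hodd hm
  have hc : Nat.card (Cfsg.POmega F (Cfsg.quadFormOdd m F)) ≠ 0 := by
    intro h0
    rw [h0, mul_zero] at h
    have h3 : 0 < (p ^ a) ^ (m ^ 2) * ∏ i ∈ Finset.range m, ((p ^ a) ^ (2 * (i + 1)) - 1) := by
      refine Nat.mul_pos (pow_pos (pow_pos hp.pos a) _) (Finset.prod_pos fun i _ => ?_)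
      have : 1 < (p ^ a) ^ (2 * (i + 1)) := Nat.one_lt_pow (by omega) (Nat.one_lt_pow ha.ne' hp.one_lt)
      omega
    omega
  have hw : ¬ p ∣ ∏ i ∈ Finset.range m, ((p ^ a) ^ (2 * (i + 1)) - 1) := by
    rw [Prime.dvd_finsetProd_iff hp.prime]
    rintro ⟨i, -, hi⟩
    have h3 : p ∣ (p ^ a) ^ (2 * (i + 1)) := Dvd.dvd.pow (dvd_pow_self p ha.ne') (by omega)
    have h4 : 1 ≤ (p ^ a) ^ (2 * (i + 1)) := Nat.one_le_pow _ _ (pow_pos hp.pos a)
    have h5 := (Nat.dvd_sub h3 hi)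
    rw [Nat.sub_sub_self h4] at h5
    exact hp.one_lt.ne' (Nat.dvd_one.1 h5)
  have hw0 : ∏ i ∈ Finset.range m, ((p ^ a) ^ (2 * (i + 1)) - 1) ≠ 0 := by
    intro h0
    exact hw (h0 ▸ dvd_zero p)
  have h3 := congrArg (fun N => N.factorization p) h
  beta_reduce at h3
  rw [Nat.factorization_mul two_ne_zero hc, Nat.factorization_mul (pow_ne_zero _ (pow_ne_zero _ hp.ne_zero)) hw0,
    Finsupp.add_apply, Finsupp.add_apply, Nat.factorization_eq_zero_of_not_dvd (n := 2) (fun h =>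
      h2 ((Nat.prime_dvd_prime_iff_eq hp Nat.prime_two).1 h)), zero_add,
    Nat.factorization_eq_zero_of_not_dvd hw, add_zero, ← pow_mul, hp.factorization_pow, Finsupp.single_eq_same] at h3
  exact h3

end Orders

section Count

variable {F : Type} [Field F] [Fintype F] {V : Type} [AddCommGroup V] [Module F V] [Finite V]

theorem ncard_pSet_congr {p : ℕ} {G H : Type*} [Group G] [Group H] (e : G ≃* H) :
    (H730.OZ.pSet p G).ncard = (H730.OZ.pSet p H).ncard := by
  rw [← Set.ncard_image_of_injective _ e.injective]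
  congr 1
  ext h
  constructor
  · rintro ⟨g, ⟨k, hk⟩, rfl⟩
    exact ⟨k, by rw [MulEquiv.orderOf_eq, hk]⟩
  · rintro ⟨k, hk⟩
    exact ⟨e.symm h, ⟨k, by rw [MulEquiv.orderOf_eq, hk]⟩, e.apply_symm_apply h⟩

/-- **The number of elements of `p`-power order** in dimension 3 and 5. -/
theorem card_unip {p a : ℕ} (hp : p.Prime) (ha : 0 < a) (hF : Fintype.card F = p ^ a) (h2 : p ≠ 2) {m : ℕ}
    (hm : 1 ≤ m) {Q : QuadraticForm F V} (hQ : Nondeg Q) (hd : finrank F V = 2 * m + 1) :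
    (H730.OZ.pSet p (Om Q)).ncard = p ^ (2 * a * m ^ 2) := by
  have hodd : Odd (p ^ a) := (hp.odd_of_ne_two h2).pow
  have hch : CharP F p := by
    have hf : Fact p.Prime := ⟨hp⟩
    refine (CharP.charP_iff_prime_eq_zero hp).2 ?_
    have h3 : ((Fintype.card F : ℕ) : F) = 0 := FiniteField.cast_card_eq_zero F
    rw [hF, Nat.cast_pow] at h3
    exact pow_eq_zero_iff ha.ne' |>.1 h3
  have hfp : Fact p.Prime := ⟨hp⟩
  have h20 := two_ne_of_odd hF hodd
  obtain ⟨e⟩ := nonempty_om h20 hQ hm hd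
  have hv := factorization_pomega hp ha hF h2 hm
  rw [← ncard_pSet_congr e, show 2 * a * m ^ 2 = 2 * (a * m ^ 2) by ring, ← hv]
  rcases Nat.lt_or_ge m 2 with h1 | h1
  · obtain rfl : m = 1 := by omega
    obtain ⟨e1⟩ := Cfsg.Agent.LieClassical.OrthThreeOmega.nonempty_equiv (F := F) ⟨-1, by
      simp, by
      intro h
      apply h20
      linear_combination -h⟩ h20
    have h3 := H631.Kaw.card_pSet (Cfsg.Agent.Nodes.RGDClass.hasRGD_PSL (F := F) 1 (p := p))
    rw [ncard_pSet_congr e1, h3, Nat.card_congr e1.toEquiv]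
  · exact H631.Kaw.card_pSet (Cfsg.Agent.Nodes.WittInst.hasRGD_PO_odd h20 h1)

end Count

end Cfsg.Agent.H205.OZ
end

-- part: H205/OZ/Tor
section
/-!
# S4842: the spinor sign of the torus of order `q ^ m + 1` (helper205)
-/

set_option autoImplicit false
set_option linter.unusedSectionVars false

namespace Cfsg.Agent.H205.OZ

open Module QuadraticMap Cfsg
open Cfsg.Agent.LieClassical.OrthCore Cfsg.Agent.H182.Sign Cfsg.Agent.H93.CJ Cfsg.Agent.H530.OZ
open Cfsg.Agent.H160.QSpin Cfsg.Agent.H160.QDisc Cfsg.Agent.H160.QSplit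

variable {F L : Type} [Field F] [Fintype F] [Field L] [Finite L] [Algebra F L] {Q : QuadraticForm F L} {m : ℕ} {u : L}

theorem mulL_pow {u : L} (hu : u ≠ 0) (j : ℕ) (v : L) : (mulL F u hu ^ j) v = u ^ j * v := by
  induction j with
  | zero => rw [pow_zero, pow_zero, one_mul]; rfl
  | succ j ih => rw [pow_succ', LinearEquiv.mul_apply, ih, mulL_apply, pow_succ', mul_assoc]

theorem ne_zero_of_order (hu : orderOf u = Fintype.card F ^ m + 1) : u ≠ 0 := by
  rintro rfl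
  have h1 := pow_orderOf_eq_one (0 : L)
  rw [hu, pow_succ, mul_zero] at h1
  exact zero_ne_one h1

/-- determinants in even dimension, no fixed vectors -/
theorem det_one_of_no_fix {V : Type*} [AddCommGroup V] [Module F V] [Finite V] {Q : QuadraticForm F V} (hQ : Nondeg Q)
    (he : Even (finrank F V)) {g : V ≃ₗ[F] V} (hg : g ∈ O Q) (h : ∀ v, g v = v → v = 0) : LinearEquiv.det g = 1 := by
  have : Module.Finite F V := Module.Finite.of_finite
  apply Units.ext
  rw [LinearEquiv.coe_det, Units.val_one]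
  have := det_of_no_one hQ hg h
  rw [he.neg_one_pow] at this
  exact this

/-- `1 + u` is not a square -/
theorem norm_not_square (h2 : (2 : F) ≠ 0) (hm : 1 ≤ m) (hd : finrank F L = 2 * m)
    (hu : orderOf u = Fintype.card F ^ m + 1) : ¬ IsSquare (Algebra.norm F (1 + u)) := by
  classical
  have hfd : Module.Finite F L := Module.Finite.of_finite
  have hchF : ringChar F ≠ 2 := fun h => h2 (by
    have := ringChar.Nat.cast_ringChar (R := F)
    rw [h] at this
    exact_mod_cast this)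
  obtain ⟨p, hch⟩ := CharP.exists F
  obtain ⟨⟨a, ha⟩, hp, hcard⟩ := FiniteField.card F p
  simp only [PNat.mk_coe] at hcard
  have hpf : Fact p.Prime := ⟨hp⟩
  have hchL : CharP L p := charP_of_injective_algebraMap (algebraMap F L).injective p
  have hqodd : Odd (Fintype.card F) := by
    have := FiniteField.odd_card_of_char_ne_two hchF
    exact Nat.odd_iff.2 this
  set q := Fintype.card F with hq
  have hq2 : 2 ≤ q := Fintype.one_lt_card
  have hQodd : Odd (q ^ m) := hqodd.pow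
  have hQ1 : 2 ≤ q ^ m := hq2.trans (Nat.le_self_pow (by omega) q)
  obtain ⟨h, hh⟩ : ∃ h, q ^ m + 1 = 2 * h := by
    obtain ⟨j, hj⟩ := hQodd
    exact ⟨j + 1, by omega⟩
  obtain ⟨g, hg⟩ : ∃ g, q - 1 = 2 * g := by
    obtain ⟨j, hj⟩ := hqodd
    exact ⟨j, by omega⟩
  have hcL : Nat.card L = q ^ (2 * m) := by
    rw [← hd, hq, ← Nat.card_eq_fintype_card]
    exact Module.natCard_eq_pow_finrank (K := F) (V := L)
  have hfac : q ^ (2 * m) - 1 = (q ^ m + 1) * (q ^ m - 1) := by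
    rw [mul_comm 2, pow_mul]
    have := Nat.sq_sub_sq (q ^ m) 1
    simpa only [_root_.one_pow] using this
  obtain ⟨c, hc⟩ : q - 1 ∣ q ^ (2 * m) - 1 := Nat.sub_one_dvd_pow_sub_one q (2 * m)
  have hcg : c * g = (q ^ m - 1) * h := by
    have h3 : 2 * (c * g) = 2 * ((q ^ m - 1) * h) := by
      calc 2 * (c * g) = (q - 1) * c := by rw [hg]; ring
        _ = (q ^ m + 1) * (q ^ m - 1) := by rw [← hc, hfac]
        _ = 2 * ((q ^ m - 1) * h) := by rw [hh]; ring
    exact Nat.eq_of_mul_eq_mul_left two_pos h3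
  have hu0 : u ≠ 0 := ne_zero_of_order (by rw [← hq]; exact hu)
  have hu1 : (1 : L) + u ≠ 0 := by
    intro h0
    have h3 : u = -1 := by linear_combination h0
    have h4 : orderOf u ∣ 2 := orderOf_dvd_of_pow_eq_one (by rw [h3]; ring)
    have := Nat.le_of_dvd two_pos h4
    omega
  -- `(1 + u) ^ (q^m - 1) = u⁻¹`
  have h5 : (1 + u) ^ (q ^ m - 1) = u⁻¹ := by
    have h6 : (1 + u) ^ (q ^ m) = 1 + u ^ (q ^ m) := by
      rw [hcard, ← pow_mul, add_pow_char_pow, one_pow]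
    have h7 : u ^ (q ^ m) = u⁻¹ := by
      apply eq_inv_of_mul_eq_one_left
      rw [← pow_succ, ← hu, pow_orderOf_eq_one]
    have h8 : (1 + u) ^ (q ^ m - 1) * (1 + u) = u⁻¹ * (1 + u) := by
      rw [← pow_succ, Nat.sub_add_cancel (by omega), h6, h7, mul_add, mul_one, inv_mul_cancel₀ hu0, add_comm]
    exact mul_right_cancel₀ hu1 h8
  have hN0 : Algebra.norm F (1 + u) ≠ 0 := by
    rw [Ne, Algebra.norm_eq_zero_iff]
    exact hu1
  rw [FiniteField.isSquare_iff hchF hN0]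
  intro h9
  have h10 : Fintype.card F / 2 = g := by (clear * - hg; omega)
  rw [h10] at h9
  have h11 := congrArg (algebraMap F L) h9
  rw [map_pow, map_one, FiniteField.algebraMap_norm_eq_pow, hcL, Nat.card_eq_fintype_card, ← hq, hc,
    Nat.mul_div_cancel_left _ (by omega), ← pow_mul, hcg, pow_mul, h5, inv_pow, inv_eq_one] at h11
  have h12 := Nat.le_of_dvd (by omega) (orderOf_dvd_of_pow_eq_one h11)
  omega

/-- **The generator of the torus has determinant one and spinor sign `-1`.** -/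
theorem el_u (h2 : (2 : F) ≠ 0) (hm : 1 ≤ m) (hQ : Sg Q m (-1)) (hu0 : u ≠ 0)
    (hu : orderOf u = Fintype.card F ^ m + 1) (huQ : ∀ v, Q (u * v) = Q v) : El Q (-1) (mulL F u hu0) := by
  classical
  have hfd : Module.Finite F L := Module.Finite.of_finite
  have hev : Even (finrank F L) := by rw [hQ.dim]; exact even_two_mul m
  have hq2 : 2 ≤ Fintype.card F := Fintype.one_lt_card
  have hQ1 : 2 ≤ Fintype.card F ^ m := hq2.trans (Nat.le_self_pow (by omega) _)
  have hmO : mulL F u hu0 ∈ O Q := huQ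
  have hdet : LinearEquiv.det (mulL F u hu0) = 1 := by
    refine det_one_of_no_fix hQ.nondeg hev hmO fun v hv => ?_
    rw [mulL_apply] at hv
    by_contra hv0
    have h3 : u = 1 := by
      apply mul_right_cancel₀ hv0
      rw [hv, one_mul]
    rw [h3, orderOf_one] at hu
    omega
  have hlm : (1 : Module.End F L) + en (mulL F u hu0) = Algebra.lmul F L (1 + u) := by
    apply LinearMap.ext
    intro v
    show v + u * v = (1 + u) * v
    ring
  have hns := norm_not_square h2 hm hQ.dim hu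
  have hdet1 : LinearMap.det ((1 : Module.End F L) + en (mulL F u hu0)) = Algebra.norm F (1 + u) := by
    rw [hlm]
    rfl
  have hN0 : Algebra.norm F (1 + u) ≠ 0 := by
    intro h
    apply hns
    rw [h]
    exact IsSquare.zero
  have h3 := Cfsg.Agent.H899.O7.Zass.zass h2 hQ.nondeg hev (finrank F L) hmO hdet (by rw [hdet1]; exact hN0)
    (Nat.le_add_left _ _)
  refine ⟨hmO, hdet, ?_⟩
  rw [hdet1, quadraticChar_neg_one_iff_not_isSquare.2 hns] at h3
  exact Units.ext (by rw [h3]; rfl)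

/-- isometries commuting with the torus element -/
theorem det_of_comm (hQ : Sg Q m (-1)) {r : ℕ} {lam : L} {z : L ≃ₗ[F] L} (hT : TorU Q r z (LinearMap.id : L →ₗ[F] L) lam)
    {t : L ≃ₗ[F] L} (ht : t ∈ O Q) (hc : Commute t z) : LinearEquiv.det t = 1 := by
  obtain ⟨α, -, h1, h3⟩ := hT.cen t ht hc
  by_cases hα : α = 1
  · rw [h1 hα, map_one]
  · exact det_one_of_no_fix hQ.nondeg (by rw [hQ.dim]; exact even_two_mul m) ht (h3 hα)

end Cfsg.Agent.H205.OZ
end

-- part: H205/OZ/Grp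
section
/-!
# S4842: congruences from a cyclic Sylow subgroup `R`, `C_G(R)` inducing outer automorphisms on `K` (helper205)

* `sylow_facts` : `z` of order `r`, `C_G(z)` has a homomorphism to the units of a field, injective on the `r`-elements;
* `const_two` : constancy on `z K` of a character with one class of zeros;
* `cong_two` : the congruence.
-/

set_option autoImplicit false

open Cfsg Cfsg.Agent.Characters Cfsg.Agent.H695.OneZero Cfsg.Agent.H279.OZ

namespace Cfsg.Agent.H205.OZ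

universe u

theorem sylow_facts {G : Type*} [Group G] [Finite G] {r : ℕ} [hfr : Fact r.Prime] {z : G} (hz : orderOf z = r)
    {L : Type*} [Field L] (τ : Subgroup.centralizer ({z} : Set G) →* Lˣ)
    (hτ : ∀ x : Subgroup.centralizer ({z} : Set G), (∃ j : ℕ, x ^ (r ^ j) = 1) → τ x = 1 → x = 1)
    (hcomm : ∀ x y : Subgroup.centralizer ({z} : Set G), (∃ j : ℕ, x ^ (r ^ j) = 1) → Commute x y) :
    ∃ R : Sylow r G, IsCyclic (R : Subgroup G) ∧ z ∈ (R : Subgroup G) ∧
      Subgroup.centralizer ({z} : Set G) ≤ Subgroup.centralizer ((R : Subgroup G) : Set G) ∧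
      ∀ x, Commute z x → x ^ r = 1 → x ∈ Subgroup.zpowers z := by
  classical
  have hr : r.Prime := hfr.1
  have hmem : ∀ {x : G}, x ∈ Subgroup.centralizer ({z} : Set G) ↔ Commute z x := by
    intro x
    rw [Subgroup.mem_centralizer_singleton_iff]
    exact ⟨fun h => h.symm, fun h => h.symm⟩
  have hzz : z ∈ Subgroup.centralizer ({z} : Set G) := hmem.2 (Commute.refl z)
  -- elements of order dividing `r` in the centralizer
  have hord : ∀ x : G, Commute z x → x ^ r = 1 → x ∈ Subgroup.zpowers z := by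
    intro x hx hxr
    set x' : Subgroup.centralizer ({z} : Set G) := ⟨x, hmem.2 hx⟩ with hx'
    set z' : Subgroup.centralizer ({z} : Set G) := ⟨z, hzz⟩ with hz'
    have hz'o : orderOf (τ z') = r := by
      rcases (Nat.dvd_prime hr).1 (orderOf_dvd_of_pow_eq_one (x := τ z') (n := r) (by
        rw [← map_pow]
        have : z' ^ r = 1 := Subtype.ext (by
          show z ^ r = 1
          rw [← hz, pow_orderOf_eq_one])
        rw [this, map_one])) with h | h
      · exfalso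
        have h1 := hτ z' ⟨1, Subtype.ext (by
          show z ^ (r ^ 1) = 1
          rw [pow_one, ← hz, pow_orderOf_eq_one])⟩ (orderOf_eq_one_iff.1 h)
        have h2 : z = 1 := congrArg Subtype.val h1
        rw [h2, orderOf_one] at hz
        exact hr.one_lt.ne hz
      · exact h
    have hprim : IsPrimitiveRoot (τ z' : L) r := by
      rw [← hz'o, ← orderOf_units]
      exact IsPrimitiveRoot.orderOf _
    have hxr' : ((τ x' : Lˣ) : L) ^ r = 1 := by
      rw [← Units.val_pow_eq_pow_val, ← map_pow]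
      have : x' ^ r = 1 := Subtype.ext hxr
      rw [this, map_one, Units.val_one]
    have : NeZero r := ⟨hr.ne_zero⟩
    obtain ⟨i, hi, hi2⟩ := hprim.eq_pow_of_pow_eq_one hxr'
    have h3 : τ (x' * (z' ^ i)⁻¹) = 1 := by
      rw [map_mul, map_inv, map_pow]
      have : τ z' ^ i = τ x' := Units.ext (by rw [Units.val_pow_eq_pow_val]; exact hi2)
      rw [this, mul_inv_cancel]
    have hcx : Commute x' z' := Subtype.ext hx.symm.eq
    have h4 := hτ (x' * (z' ^ i)⁻¹) ⟨1, by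
      have h5 : Commute x' (z' ^ i)⁻¹ := (hcx.pow_right i).inv_right
      rw [pow_one, h5.mul_pow, inv_pow, ← pow_mul, mul_comm i r, pow_mul]
      have h6 : x' ^ r = 1 := Subtype.ext hxr
      have h7 : z' ^ r = 1 := Subtype.ext (by
        show z ^ r = 1
        rw [← hz, pow_orderOf_eq_one])
      rw [h6, h7, one_pow, inv_one, mul_one]⟩ h3
    have h5 : x' = z' ^ i := mul_inv_eq_one.1 h4
    have h6 : x = z ^ i := congrArg Subtype.val h5
    rw [h6]
    exact Subgroup.npow_mem_zpowers z i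
  -- the Sylow subgroup
  have hzP : IsPGroup r (Subgroup.zpowers z) := IsPGroup.of_card (n := 1) (by rw [Nat.card_zpowers, hz, pow_one])
  obtain ⟨R, hR⟩ := hzP.exists_le_sylow
  have hzR : z ∈ (R : Subgroup G) := hR (Subgroup.mem_zpowers z)
  have hz1 : z ≠ 1 := by
    rintro rfl
    rw [orderOf_one] at hz
    exact hr.one_lt.ne hz
  have hRC : (R : Subgroup G) ≤ Subgroup.centralizer ({z} : Set G) := by
    have hnt : Nontrivial (R : Subgroup G) := ⟨⟨⟨z, hzR⟩, 1, fun h => hz1 (congrArg Subtype.val h)⟩⟩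
    have hcnt := R.2.center_nontrivial
    obtain ⟨y, hy⟩ := exists_ne (1 : Subgroup.center (R : Subgroup G))
    -- an element of order `r` in the centre
    have hyo : ∃ j : ℕ, orderOf (y : (R : Subgroup G)) = r ^ (j + 1) := by
      obtain ⟨j, hj⟩ := (IsPGroup.iff_orderOf.1 R.2) (y : (R : Subgroup G))
      rcases j with _ | j
      · exfalso
        rw [pow_zero] at hj
        exact hy (Subtype.ext (orderOf_eq_one_iff.1 hj))
      · exact ⟨j, hj⟩
    obtain ⟨j, hj⟩ := hyo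
    set w : (R : Subgroup G) := (y : (R : Subgroup G)) ^ (r ^ j) with hw
    have hwo : orderOf w = r := by
      rw [hw, orderOf_pow_of_dvd (pow_pos hr.pos j).ne' (by rw [hj]; exact pow_dvd_pow r (Nat.le_succ j)), hj,
        Nat.pow_div (Nat.le_succ j) hr.pos]
      simp
    have hwc : w ∈ Subgroup.center (R : Subgroup G) := Subgroup.pow_mem _ y.2 _
    have hwc' : ∀ t : (R : Subgroup G), t * w = w * t := fun t => (Subgroup.mem_center_iff.1 hwc t)
    have hwz : Commute z (w : G) := by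
      have := congrArg Subtype.val (hwc' ⟨z, hzR⟩)
      exact this
    have hw1 : (w : G) ∈ Subgroup.zpowers z := by
      refine hord _ hwz ?_
      have : w ^ r = 1 := orderOf_dvd_iff_pow_eq_one.1 (dvd_of_eq hwo)
      exact congrArg Subtype.val this
    have hwo' : orderOf (w : G) = r := by rw [Subgroup.orderOf_coe, hwo]
    have hzw : z ∈ Subgroup.zpowers (w : G) := by
      have h1 : Subgroup.zpowers (w : G) ≤ Subgroup.zpowers z := by rwa [Subgroup.zpowers_le]
      have h2 := Subgroup.eq_of_le_of_card_ge h1 (by rw [Nat.card_zpowers, Nat.card_zpowers, hwo', hz])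
      rw [h2]
      exact Subgroup.mem_zpowers z
    intro t ht
    rw [hmem]
    obtain ⟨k, hk⟩ := Subgroup.mem_zpowers_iff.1 hzw
    rw [← hk]
    have h1 : Commute (w : G) t := (congrArg Subtype.val (hwc' ⟨t, ht⟩)).symm
    exact h1.zpow_left k
  have hRr : ∀ x : Subgroup.centralizer ({z} : Set G), (x : G) ∈ (R : Subgroup G) → ∃ j : ℕ, x ^ (r ^ j) = 1 := by
    intro x hx
    obtain ⟨j, hj⟩ := R.2 ⟨x, hx⟩
    have h1 : (x : G) ^ (r ^ j) = 1 := congrArg Subtype.val hj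
    exact ⟨j, Subtype.ext h1⟩
  refine ⟨R, ?_, hzR, ?_, hord⟩
  · let f : (R : Subgroup G) →* Lˣ := τ.comp (Subgroup.inclusion hRC)
    have hf : Function.Injective f := by
      rw [injective_iff_map_eq_one]
      intro x hx
      have h1 := hτ (Subgroup.inclusion hRC x) (hRr _ x.2) hx
      have h2 : (x : G) = 1 := congrArg Subtype.val h1
      exact Subtype.ext h2
    let g : (R : Subgroup G) →* L := (Units.coeHom L).comp f
    exact isCyclic_of_injective_ringHom g (fun a b hab => hf (Units.ext hab))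
  · intro y hy
    rw [Subgroup.mem_centralizer_iff]
    intro t ht
    have h2 := hcomm ⟨t, hRC ht⟩ ⟨y, hy⟩ (hRr ⟨t, hRC ht⟩ ht)
    exact congrArg Subtype.val h2.eq

variable {G : Type u} [Group G]

/-- **Constancy on `z K`** of a character with one class of zeros. -/
theorem const_two [Finite G] {r : ℕ} [hfr : Fact r.Prime] (R : Sylow r G)
    (hab : (R : Subgroup G) ≤ Subgroup.centralizer ((R : Subgroup G) : Set G)) {z : G}
    (hzR : z ∈ (R : Subgroup G))
    (hC : Subgroup.centralizer ({z} : Set G) ≤ Subgroup.centralizer ((R : Subgroup G) : Set G))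
    (K : Subgroup G) (hKC : K ≤ Subgroup.centralizer ((R : Subgroup G) : Set G))
    (hKr : ¬ r ∣ Nat.card K) (L₀ : Subgroup G)
    (h0 : ∀ l ∈ L₀, ∃ c ∈ K, ∀ k ∈ K, l * k * l⁻¹ = c * k * c⁻¹) {d : G}
    (hd : d ∈ Subgroup.centralizer ((R : Subgroup G) : Set G)) (hdr : ¬ r ∣ orderOf d) (hdL : d ∉ L₀)
    (hdK : ∀ n ∈ Subgroup.normalizer ((R : Subgroup G) : Set G), ∃ c ∈ K,
      (∀ k ∈ K, n * k * n⁻¹ = c * k * c⁻¹) ∨ ∀ k ∈ K, n * k * n⁻¹ = d * (c * k * c⁻¹) * d⁻¹)
    (hL : ∀ l ∈ Subgroup.centralizer ((R : Subgroup G) : Set G), l ∈ L₀ ∨ ∃ m ∈ L₀, l = d * m)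
    (hKN : ∀ n ∈ Subgroup.normalizer ((R : Subgroup G) : Set G), ∀ k ∈ K, n * k * n⁻¹ ∈ K)
    (hlin : ∀ f : K →* ℂˣ, (∀ (k : K) (hk : d * k * d⁻¹ ∈ K), f ⟨d * k * d⁻¹, hk⟩ = f k) → ∀ k, f k = 1)
    (hsep : (∃ t ∈ Subgroup.centralizer ((R : Subgroup G) : Set G), ¬ r ∣ orderOf t ∧ t ∈ L₀ ∧
        (∀ x ∈ K, t * x = x * t) ∧ t * d = d * t ∧
        ∀ c ∈ Subgroup.centralizer ((R : Subgroup G) : Set G), ∀ x ∈ Subgroup.centralizer ((R : Subgroup G) : Set G),
          c * x * c⁻¹ ≠ t * x) ∨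
      ∃ y' ∈ (R : Subgroup G),
        Subgroup.centralizer ({y'} : Set G) ≤ Subgroup.centralizer ((R : Subgroup G) : Set G) ∧ ¬ IsConj z y')
    (χ : IrrCharacter G) (hO : H730.OZ.OneZero (χ : G → ℂ)) :
    ∀ k ∈ K, (χ : G → ℂ) (z * k) = (χ : G → ℂ) z := by
  classical
  have := Fintype.ofFinite G
  have hcR : ∀ {y c : G}, y ∈ (R : Subgroup G) → c ∈ Subgroup.centralizer ((R : Subgroup G) : Set G) → Commute y c :=
    fun {y c} hy hc => Subgroup.mem_centralizer_iff.1 hc _ hy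
  -- two zeros
  have two : ∀ x ∈ Subgroup.centralizer ((R : Subgroup G) : Set G), ¬ r ∣ orderOf x →
      (∀ y ∈ R, Subgroup.centralizer ({y} : Set G) ≤ Subgroup.centralizer ((R : Subgroup G) : Set G) →
        (χ : G → ℂ) (y * x) = 0) →
      (∀ t ∈ Subgroup.centralizer ((R : Subgroup G) : Set G), ¬ r ∣ orderOf t → t ∈ L₀ →
        (∀ x ∈ K, t * x = x * t) → t * d = d * t → ¬ r ∣ orderOf (t * x) ∧ (χ : G → ℂ) (z * (t * x)) = 0) → False := by
    intro x hx hxr hz1 hz2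
    obtain ⟨w, hw0, hw⟩ := hO
    have e0 := hz1 z hzR hC
    rcases hsep with ⟨t, ht, htr, htL, htK, htd, htc⟩ | ⟨y', hy', hC', hne⟩
    · obtain ⟨htx, e1⟩ := hz2 t ht htr htL htK htd
      obtain ⟨c, hc⟩ := isConj_iff.1 ((hw _ e0).symm.trans (hw _ e1))
      obtain ⟨e2, e3⟩ := conj_parts (rpow_of_mem R hzR) (rpow_of_mem R hzR) hxr htx (hcR hzR hx)
        (hcR hzR (mul_mem ht hx)) hc
      have hcC : c ∈ Subgroup.centralizer ({z} : Set G) := by
        rw [Subgroup.mem_centralizer_singleton_iff]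
        rw [mul_inv_eq_iff_eq_mul] at e2
        exact e2
      exact htc c (hC hcC) x hx e3
    · obtain ⟨c, hc⟩ := isConj_iff.1 ((hw _ e0).symm.trans (hw _ (hz1 y' hy' hC')))
      obtain ⟨e2, -⟩ := conj_parts (rpow_of_mem R hzR) (rpow_of_mem R hy') hxr hxr (hcR hzR hx)
        (hcR hy' hx) hc
      exact hne (isConj_iff.2 ⟨c, e2⟩)
  rcases alt_two R hab K hKC hKr L₀ h0 hd hdK hL hKN χ with ⟨f, hf⟩ | ⟨k₀, hk₀, h⟩ | h
  · -- a linear character
    intro k hk
    by_cases hz0 : (χ : G → ℂ) z = 0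
    · have := hf z hzR hC ⟨k, hk⟩
      rw [hz0, mul_zero] at this
      rw [hz0]
      exact this
    · have h1 : ∀ k, f k = 1 := by
        refine hlin f fun k hk => ?_
        have e1 := hf z hzR hC ⟨d * k * d⁻¹, hk⟩
        have e2 := hf z hzR hC k
        have e3 : z * (d * (k : G) * d⁻¹) = d * (z * k) * d⁻¹ := by
          have := hcR hzR hd
          rw [← mul_assoc, ← mul_assoc, this.eq]
          group
        have e4 : (χ : G → ℂ) (z * (d * (k : G) * d⁻¹)) = (χ : G → ℂ) (z * k) := by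
          rw [e3]
          exact Core.isIrr_isClassFunction χ.2 _ _
        change (χ : G → ℂ) (z * (d * (k : G) * d⁻¹)) = _ at e1
        rw [e4, e2] at e1
        exact Units.ext (mul_right_cancel₀ hz0 e1).symm
      have := hf z hzR hC ⟨k, hk⟩
      rw [h1, Units.val_one, one_mul] at this
      exact this
  · exfalso
    have hkr : ¬ r ∣ orderOf k₀ := not_dvd_orderOf_of_mem hKr hk₀
    refine two k₀ (hKC hk₀) hkr (fun y hy hC' => ?_) fun t ht htr htL htK htd => ?_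
    · have := h y hy hC' 1 (one_mem _) (fun x _ => by rw [one_mul, mul_one])
        (by rw [orderOf_one]; exact hfr.1.not_dvd_one)
      rwa [mul_one] at this
    · refine ⟨not_dvd_orderOf_mul (htK k₀ hk₀) htr hkr, ?_⟩
      rw [← mul_assoc]
      exact h z hzR hC t ht htK htr
  · exfalso
    refine two d hd hdr (fun y hy hC' => h y hy hC' d hd hdL hdr) fun t ht htr htL htK htd => ?_
    have h1 : ¬ r ∣ orderOf (t * d) := not_dvd_orderOf_mul htd htr hdr
    refine ⟨h1, h z hzR hC _ (mul_mem ht hd) (fun h2 => hdL ?_) h1⟩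
    exact (L₀.mul_mem_cancel_left htL).1 h2

/-- **The congruence.** -/
theorem cong_two [Finite G] {p r k : ℕ} (hp : p.Prime) [hr : Fact r.Prime] (hrp : r ≠ p) (R : Sylow r G)
    (hcyc : IsCyclic (R : Subgroup G)) {z : G} (hz : orderOf z = r) (hzR : z ∈ (R : Subgroup G))
    (hC : Subgroup.centralizer ({z} : Set G) ≤ Subgroup.centralizer ((R : Subgroup G) : Set G))
    (hconst : ∀ (χ : IrrCharacter G) (_ : H730.OZ.OneZero (χ : G → ℂ)) (v : G), Commute z v →
      (∃ k, orderOf v = p ^ k) → (χ : G → ℂ) (z * v) = (χ : G → ℂ) z)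
    (h4 : Nat.card (Subgroup.centralizer ({z} : Set G)) ≠ r ∨ ∃ m : ℕ, ¬ r ∣ m ∧ ¬ IsConj z (z ^ m))
    (hk : Nat.card {v : G // Commute z v ∧ ∃ k : ℕ, orderOf v = p ^ k} = p ^ k) :
    H730.OZ.Cong p r k G := by
  refine H732.VZ.cong_of_const hp hr.out hrp hz hk fun χ x hx =>
    ⟨H732.VZ.not_dvd_of_sylow R hcyc hz hzR hC h4 χ x hx, fun v hv hvp => hconst χ ⟨x, hx.zero, hx.uniq⟩ v hv hvp⟩

end Cfsg.Agent.H205.OZ
end

-- part: H205/OZ/Blk
section
/-!
# S4842: the centralizer of a torus element in `Om (Q.prod Q')` (helper205)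
-/

set_option autoImplicit false
set_option linter.unusedSectionVars false

namespace Cfsg.Agent.H205.OZ

open Module QuadraticMap Cfsg
open Cfsg.Agent.LieClassical.OrthCore Cfsg.Agent.H182.Sign Cfsg.Agent.H93.CJ Cfsg.Agent.H530.OZ
open Cfsg.Agent.H160.QSpin Cfsg.Agent.H160.QDisc Cfsg.Agent.H160.QSplit

variable {F L P : Type} [Field F] [Fintype F] [Field L] [Finite L] [Algebra F L] [AddCommGroup P] [Module F P] [Finite P]
  {Q : QuadraticForm F L} {Q' : QuadraticForm F P} {p m k r : ℕ} {u lam : L}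

/-- the situation: `L` of degree `2 m` with a form of minus type, `u` a generator of the torus, `lam` of prime order `r`
in the torus, `P` of dimension `2 k + 1` -/
structure Dat (p m k r : ℕ) (Q : QuadraticForm F L) (Q' : QuadraticForm F P) (u lam : L) : Prop where
  two : (2 : F) ≠ 0
  pp : p.Prime
  ch : CharP F p
  hm : 1 ≤ m
  sg : Sg Q m (-1)
  nd : Nondeg Q'
  dimP : finrank F P = 2 * k + 1
  hu : orderOf u = Fintype.card F ^ m + 1
  huQ : ∀ v, Q (u * v) = Q v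
  hr : r.Prime
  hlam : ∃ s : ℕ, lam = u ^ s
  hlo : orderOf lam = r
  cond : ∀ i : ℕ, 0 < i → i < 2 * m → ¬ r ∣ Fintype.card F ^ i - 1
  hrP : ∀ s ∈ O Q', ∀ j : ℕ, s ^ (r ^ j) = 1 → s = 1

theorem finite_om {V : Type*} [AddCommGroup V] [Module F V] [Finite V] (Q : QuadraticForm F V) : Finite (Om Q) := by
  have : Finite (V ≃ₗ[F] V) := Finite.of_injective (fun g => (g : V → V)) DFunLike.coe_injective
  exact Subtype.finite

theorem block' {U W : Type*} [AddCommGroup U] [Module F U] [FiniteDimensional F U] [AddCommGroup W] [Module F W]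
    [FiniteDimensional F W] {z z' : U ≃ₗ[F] U} (hz : ∀ v, z v = v → v = 0) (hz' : ∀ v, z' v = v → v = 0)
    {g : (U × W) ≃ₗ[F] (U × W)} (hc : g * pr z 1 = pr z' 1 * g) :
    ∃ (t : U ≃ₗ[F] U) (s : W ≃ₗ[F] W), g = pr t s := by
  have hcc : ∀ (u : U) (p : W), g (z u, p) = (z' (g (u, p)).1, (g (u, p)).2) := fun u p =>
    LinearEquiv.congr_fun hc (u, p)
  have h1 : ∀ p : W, (g (0, p)).1 = 0 := by
    intro p
    have := congrArg Prod.fst (hcc 0 p)
    rw [map_zero] at this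
    exact hz' _ this.symm
  have h2 : ∀ u : U, (g (u, 0)).2 = 0 := by
    intro u
    obtain ⟨v, hv⟩ : ∃ v, z v - v = u := by
      have hinj : Function.Injective ((z.toLinearMap - LinearMap.id : U →ₗ[F] U)) := by
        rw [injective_iff_map_eq_zero]
        intro v hv
        exact hz v (sub_eq_zero.1 hv)
      exact (LinearMap.injective_iff_surjective.1 hinj) u
    have h3 : ((u, 0) : U × W) = (z v, 0) - (v, 0) := by
      rw [Prod.mk_sub_mk, hv, sub_zero]
    rw [h3, map_sub, hcc]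
    exact sub_self _
  have hg : ∀ (u : U) (p : W), g (u, p) = ((g (u, 0)).1, (g (0, p)).2) := by
    intro u p
    have h3 : ((u, p) : U × W) = (u, 0) + (0, p) := by simp
    rw [h3, map_add]
    refine Prod.ext ?_ ?_
    · show (g (u, 0)).1 + (g (0, p)).1 = (g (u, 0)).1
      rw [h1, add_zero]
    · show (g (u, 0)).2 + (g (0, p)).2 = (g (0, p)).2
      rw [h2, zero_add]
  let t : U →ₗ[F] U := (LinearMap.fst F U W).comp (g.toLinearMap.comp (LinearMap.inl F U W))
  let s : W →ₗ[F] W := (LinearMap.snd F U W).comp (g.toLinearMap.comp (LinearMap.inr F U W))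
  have ht : Function.Injective t := by
    rw [injective_iff_map_eq_zero]
    intro u hu
    have h3 : g (u, 0) = 0 := Prod.ext hu (h2 u)
    rw [LinearEquiv.map_eq_zero_iff] at h3
    exact congrArg Prod.fst h3
  have hs : Function.Injective s := by
    rw [injective_iff_map_eq_zero]
    intro p hp
    have h3 : g (0, p) = 0 := Prod.ext (h1 p) hp
    rw [LinearEquiv.map_eq_zero_iff] at h3
    exact congrArg Prod.snd h3
  refine ⟨LinearEquiv.ofInjectiveEndo t ht, LinearEquiv.ofInjectiveEndo s hs, ?_⟩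
  ext p
  · exact congrArg Prod.fst (hg p.1 p.2)
  · exact congrArg Prod.snd (hg p.1 p.2)

namespace Dat

variable (D : Dat p m k r Q Q' u lam)

include D

theorem u0 : u ≠ 0 := ne_zero_of_order D.hu

theorem lam0 : lam ≠ 0 := by
  obtain ⟨s, rfl⟩ := D.hlam
  exact pow_ne_zero _ D.u0

theorem lamQ (v : L) : Q (lam * v) = Q v := by
  obtain ⟨s, rfl⟩ := D.hlam
  have hpowQ : ∀ (m : ℕ) (v : L), Q (u ^ m * v) = Q v := by
    intro m
    induction m with
    | zero => intro v; rw [pow_zero, one_mul]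
    | succ m ih => intro v; rw [pow_succ', mul_assoc, D.huQ, ih]
  exact hpowQ s v

theorem torU : TorU Q r (mulL F lam D.lam0) (LinearMap.id : L →ₗ[F] L) lam :=
  torU_minus D.lam0 D.hlo (by
    intro i hi hi2
    rw [Nat.card_eq_fintype_card]
    rw [D.sg.dim] at hi2
    exact D.cond i hi hi2) D.lamQ

theorem odd_q : Odd (Fintype.card F) := by
  have hchF : ringChar F ≠ 2 := fun h => D.two (by
    have := ringChar.Nat.cast_ringChar (R := F)
    rw [h] at this
    exact_mod_cast this)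
  exact Nat.odd_iff.2 (FiniteField.odd_card_of_char_ne_two hchF)

theorem r_ne_two : r ≠ 2 := by
  rintro rfl
  have h1 := D.cond 1 one_pos (by have := D.hm; omega)
  rw [pow_one] at h1
  exact h1 (Nat.Odd.sub_odd D.odd_q odd_one).two_dvd

theorem r_odd : Odd r := D.hr.odd_of_ne_two D.r_ne_two

theorem r_dvd : r ∣ Fintype.card F ^ m + 1 := by
  obtain ⟨s, hs⟩ := D.hlam
  rw [← D.hlo, ← D.hu, hs]
  exact orderOf_pow_dvd s

theorem r_ne_p : r ≠ p := by
  intro h
  obtain ⟨n, hn⟩ : ∃ n : ℕ+, Fintype.card F = p ^ (n : ℕ) := by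
    have := D.ch
    obtain ⟨n, hp, hn⟩ := FiniteField.card F p
    exact ⟨n, hn⟩
  have h1 : r ∣ Fintype.card F ^ m := by
    rw [hn, h]
    exact Dvd.dvd.pow (dvd_pow_self p n.2.ne') (by have := D.hm; omega)
  have h2 : r ∣ 1 := (Nat.dvd_add_right h1).1 D.r_dvd
  exact D.hr.one_lt.ne' (Nat.dvd_one.1 h2)

theorem ndM : Nondeg (Q.prod Q') := nondeg_prod D.sg.nondeg D.nd

theorem lam_mul (v : L) (h : lam * v = v) : v = 0 := by
  by_contra hv
  have h1 : lam = 1 := by
    apply mul_right_cancel₀ hv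
    rw [h, one_mul]
  have h2 := D.hlo
  rw [h1, orderOf_one] at h2
  exact D.hr.one_lt.ne h2

/-- products of isometries of the two parts -/
theorem el_pr {s t : ℤˣ} {g : L ≃ₗ[F] L} {h : P ≃ₗ[F] P} (hg : El Q s g) (hh : El Q' t h) :
    El (Q.prod Q') (s * t) (pr g h) := by
  have : Module.Finite F L := Module.Finite.of_finite
  have : Module.Finite F P := Module.Finite.of_finite
  exact El.pr D.two D.sg.nondeg D.nd hg hh

theorem el_lam : El Q 1 (mulL F lam D.lam0) := by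
  have : Module.Finite F L := Module.Finite.of_finite
  refine El.of_odd D.sg.nondeg D.torU.memO ?_
  have h1 : orderOf (mulL F lam D.lam0) ∣ r := orderOf_dvd_of_pow_eq_one D.torU.pow_eq
  exact Odd.of_dvd_nat D.r_odd h1

theorem el_z : El (Q.prod Q') 1 (pr (mulL F lam D.lam0) (1 : P ≃ₗ[F] P)) := by
  have := D.el_pr D.el_lam (El.one Q')
  rwa [mul_one] at this

/-- the element `z` -/
def z : Om (Q.prod Q') := ⟨pr (mulL F lam D.lam0) 1, D.el_z⟩

theorem coe_z : (D.z : (L × P) ≃ₗ[F] (L × P)) = pr (mulL F lam D.lam0) 1 := rfl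

theorem z_pow (i : ℕ) : ((D.z ^ i : Om (Q.prod Q')) : (L × P) ≃ₗ[F] (L × P)) = pr (mulL F lam D.lam0 ^ i) 1 := by
  rw [Subgroup.coe_pow, D.coe_z, pr_pow, one_pow]

theorem order_z : orderOf D.z = r := by
  refine (Nat.prime_dvd_prime_iff_eq ?_ D.hr).1 ?_ |> fun h => h
  · -- the order is a prime
    have h1 : orderOf D.z ∣ r := by
      apply orderOf_dvd_of_pow_eq_one
      apply Subtype.ext
      rw [D.z_pow, D.torU.pow_eq]
      rfl
    rcases (Nat.dvd_prime D.hr).1 h1 with h2 | h2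
    · exfalso
      have h3 : D.z = 1 := orderOf_eq_one_iff.1 h2
      have h4 : pr (mulL F lam D.lam0) (1 : P ≃ₗ[F] P) = 1 := congrArg Subtype.val h3
      have h5 : lam * 1 = (1 : L) := congrArg Prod.fst (LinearEquiv.congr_fun h4 ((1 : L), (0 : P)))
      exact one_ne_zero (D.lam_mul 1 h5)
    · rw [h2]
      exact D.hr
  · apply orderOf_dvd_of_pow_eq_one
    apply Subtype.ext
    rw [D.z_pow, D.torU.pow_eq]
    rfl

/-- the elements commuting with `z` -/
theorem exists_blk {x : Om (Q.prod Q')} (hx : Commute D.z x) : ∃ (α : L) (hα : α ≠ 0) (s : P ≃ₗ[F] P) (ε : ℤˣ),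
    (x : (L × P) ≃ₗ[F] (L × P)) = pr (mulL F α hα) s ∧ El Q ε (mulL F α hα) ∧ El Q' ε s := by
  have : Module.Finite F L := Module.Finite.of_finite
  have : Module.Finite F P := Module.Finite.of_finite
  have h1 : (x : (L × P) ≃ₗ[F] (L × P)) * pr (mulL F lam D.lam0) (1 : P ≃ₗ[F] P) =
      pr (mulL F lam D.lam0) (1 : P ≃ₗ[F] P) * (x : (L × P) ≃ₗ[F] (L × P)) :=
    (congrArg Subtype.val hx.eq).symm
  have hfix : ∀ v, mulL F lam D.lam0 v = v → v = 0 := fun v hv => D.lam_mul v hv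
  obtain ⟨t, s, hts⟩ := block' hfix hfix h1
  obtain ⟨hxO, hxd, hxs⟩ := x.2
  have hxO' : pr t s ∈ O (Q.prod Q') := by rw [← hts]; exact hxO
  obtain ⟨ht, hs⟩ := pr_mem_O_iff.1 hxO'
  have hc : Commute t (mulL F lam D.lam0) := by
    rw [hts] at h1
    refine LinearEquiv.ext fun v => ?_
    exact congrArg Prod.fst (LinearEquiv.congr_fun h1 ((v : L), (0 : P)))
  obtain ⟨α, hα1, -, -⟩ := D.torU.cen t ht hc
  have hα0 : α ≠ 0 := by
    rintro rfl
    have h3 := hα1 1
    change t 1 = 0 * 1 at h3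
    rw [zero_mul, LinearEquiv.map_eq_zero_iff] at h3
    exact one_ne_zero h3
  have htα : t = mulL F α hα0 := LinearEquiv.ext fun v => hα1 v
  subst htα
  have hd := det_of_comm D.sg D.torU ht hc
  have hds : LinearEquiv.det s = 1 := by
    rw [hts, det_pr, hd, one_mul] at hxd
    exact hxd
  refine ⟨α, hα0, s, spin Q ⟨_, ht⟩, hts, ⟨ht, hd, rfl⟩, ⟨hs, hds, ?_⟩⟩
  have h3 : spin (Q.prod Q') ⟨pr (mulL F α hα0) s, pr_mem_O ht hs⟩ = 1 := by
    rw [← hxs]
    congr 1
    exact Subtype.ext hts.symm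
  rw [spin_pr D.two D.sg.nondeg D.nd ht hs] at h3
  have h4 : spin Q ⟨_, ht⟩ * spin Q ⟨_, ht⟩ = 1 := units_sq _
  exact mul_left_cancel (h3.trans h4.symm)

omit D [Fintype F] in
theorem tau_of_blk {x : Om (Q.prod Q')} {α : L} {hα : α ≠ 0} {s : P ≃ₗ[F] P}
    (h : (x : (L × P) ≃ₗ[F] (L × P)) = pr (mulL F α hα) s) :
    ((x : (L × P) ≃ₗ[F] (L × P)) ((1 : L), (0 : P))).1 = α := by
  rw [h]
  show α * 1 = α
  exact mul_one α

omit D [Fintype F] in
theorem mulL_congr {α β : L} (hα : α ≠ 0) (hβ : β ≠ 0) (h : α = β) : mulL F α hα = mulL F β hβ := by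
  subst h
  rfl

omit D [Fintype F] in
theorem mulL_comm {α β : L} (hα : α ≠ 0) (hβ : β ≠ 0) : (mulL F α hα) * (mulL F β hβ) = mulL F β hβ * mulL F α hα :=
  LinearEquiv.ext fun v => by
    show α * (β * v) = β * (α * v)
    ring

/-- conversely -/
theorem comm_of_blk {x : Om (Q.prod Q')} {α : L} {hα : α ≠ 0} {s : P ≃ₗ[F] P}
    (h : (x : (L × P) ≃ₗ[F] (L × P)) = pr (mulL F α hα) s) : Commute D.z x := by
  apply Subtype.ext
  show (D.z : (L × P) ≃ₗ[F] (L × P)) * x = x * D.z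
  rw [h, D.coe_z, ← pr_mul, ← pr_mul, mulL_comm, one_mul, mul_one]

/-- the homomorphism to the multiplicative group -/
noncomputable def hom : Subgroup.centralizer ({D.z} : Set (Om (Q.prod Q'))) →* Lˣ :=
  MonoidHom.mk' (fun x => Units.mk0 ((((x : Om (Q.prod Q')) : (L × P) ≃ₗ[F] (L × P)) ((1 : L), (0 : P))).1) (by
    have hx : Commute D.z (x : Om (Q.prod Q')) := (Subgroup.mem_centralizer_singleton_iff.1 x.2).symm
    obtain ⟨α, hα, s, ε, h1, -, -⟩ := D.exists_blk hx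
    rw [tau_of_blk h1]
    exact hα)) (fun x y => Units.ext (by
      have hx : Commute D.z (x : Om (Q.prod Q')) := (Subgroup.mem_centralizer_singleton_iff.1 x.2).symm
      have hy : Commute D.z (y : Om (Q.prod Q')) := (Subgroup.mem_centralizer_singleton_iff.1 y.2).symm
      obtain ⟨α, hα, s, ε, h1, -, -⟩ := D.exists_blk hx
      obtain ⟨β, hβ, t, ε', h2, -, -⟩ := D.exists_blk hy
      have e1 := tau_of_blk h1
      have e2 := tau_of_blk h2
      have e3 : ((((x : Om (Q.prod Q')) : (L × P) ≃ₗ[F] (L × P)) * ((y : Om (Q.prod Q')) : (L × P) ≃ₗ[F] (L × P)))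
          ((1 : L), (0 : P))).1 = α * β := by
        rw [h1, h2]
        show α * (β * 1) = α * β
        rw [mul_one]
      exact e3.trans (congrArg₂ (· * ·) e1 e2).symm))

theorem hom_of_blk {x : Subgroup.centralizer ({D.z} : Set (Om (Q.prod Q')))} {α : L} {hα : α ≠ 0} {s : P ≃ₗ[F] P}
    (h : ((x : Om (Q.prod Q')) : (L × P) ≃ₗ[F] (L × P)) = pr (mulL F α hα) s) : (D.hom x : L) = α := tau_of_blk h

omit D [Fintype F] in
theorem mulL_one (h : (1 : L) ≠ 0) : mulL F (1 : L) h = 1 := LinearEquiv.ext fun v => one_mul v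

/-- the Sylow subgroup -/
theorem exists_sylow [hf : Fact r.Prime] : ∃ R : Sylow r (Om (Q.prod Q')), IsCyclic (R : Subgroup (Om (Q.prod Q'))) ∧
    D.z ∈ (R : Subgroup (Om (Q.prod Q'))) ∧
      Subgroup.centralizer ({D.z} : Set (Om (Q.prod Q'))) ≤ Subgroup.centralizer ((R : Subgroup (Om (Q.prod Q'))) : Set _) ∧
      ∀ x, Commute D.z x → x ^ r = 1 → x ∈ Subgroup.zpowers D.z := by
  have := finite_om (Q.prod Q')
  have hel : ∀ x : Subgroup.centralizer ({D.z} : Set (Om (Q.prod Q'))), (∃ j : ℕ, x ^ (r ^ j) = 1) →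
      ∃ (α : L) (hα : α ≠ 0), ((x : Om (Q.prod Q')) : (L × P) ≃ₗ[F] (L × P)) = pr (mulL F α hα) 1 := by
    rintro x ⟨j, hj⟩
    have hx : Commute D.z (x : Om (Q.prod Q')) := (Subgroup.mem_centralizer_singleton_iff.1 x.2).symm
    obtain ⟨α, hα, s, ε, h1, -, hs⟩ := D.exists_blk hx
    have h2 : (((x : Om (Q.prod Q')) : (L × P) ≃ₗ[F] (L × P))) ^ (r ^ j) = 1 :=
      congrArg (fun y : Subgroup.centralizer ({D.z} : Set (Om (Q.prod Q'))) => ((y : Om (Q.prod Q')) : (L × P) ≃ₗ[F] (L × P))) hj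
    rw [h1, pr_pow] at h2
    have h3 : s ^ (r ^ j) = 1 := by
      refine LinearEquiv.ext fun v => ?_
      exact congrArg Prod.snd (LinearEquiv.congr_fun h2 ((0 : L), v))
    have h4 := D.hrP s hs.1 j h3
    exact ⟨α, hα, by rw [h1, h4]⟩
  refine sylow_facts D.order_z D.hom ?_ ?_
  · intro x hx h1
    obtain ⟨α, hα, h2⟩ := hel x hx
    have h3 := D.hom_of_blk h2
    rw [h1, Units.val_one] at h3
    subst h3
    apply Subtype.ext
    apply Subtype.ext
    rw [h2, mulL_one]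
    rfl
  · intro x y hx
    obtain ⟨α, hα, h2⟩ := hel x hx
    have hy : Commute D.z (y : Om (Q.prod Q')) := (Subgroup.mem_centralizer_singleton_iff.1 y.2).symm
    obtain ⟨β, hβ, t, ε', h3, -, -⟩ := D.exists_blk hy
    apply Subtype.ext
    apply Subtype.ext
    show ((x : Om (Q.prod Q')) : (L × P) ≃ₗ[F] (L × P)) * ((y : Om (Q.prod Q')) : (L × P) ≃ₗ[F] (L × P)) =
      ((y : Om (Q.prod Q')) : (L × P) ≃ₗ[F] (L × P)) * ((x : Om (Q.prod Q')) : (L × P) ≃ₗ[F] (L × P))
    rw [h2, h3, ← pr_mul, ← pr_mul, mulL_comm, one_mul, mul_one]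

end Dat

end Cfsg.Agent.H205.OZ
end

-- part: H205/OZ/Nrm
section
/-!
# S4842: the subgroup `K`, the coset of `d`, the normalizer of the Sylow subgroup (helper205)
-/

set_option autoImplicit false
set_option linter.unusedSectionVars false

namespace Cfsg.Agent.H205.OZ

open Module QuadraticMap Cfsg
open Cfsg.Agent.LieClassical.OrthCore Cfsg.Agent.H182.Sign Cfsg.Agent.H93.CJ Cfsg.Agent.H530.OZ
open Cfsg.Agent.H160.QSpin Cfsg.Agent.H160.QDisc Cfsg.Agent.H160.QSplit

section el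

variable {F V : Type*} [Field F] [AddCommGroup V] [Module F V] [Finite V] {Q : QuadraticForm F V}

theorem el_unique {s t : ℤˣ} {g : V ≃ₗ[F] V} (h : El Q s g) (h' : El Q t g) : s = t := by
  obtain ⟨h1, -, h2⟩ := h
  obtain ⟨h3, -, h4⟩ := h'
  rw [← h2, ← h4]

theorem el_inv {s : ℤˣ} {g : V ≃ₗ[F] V} (h : El Q s g) : El Q s g⁻¹ := by
  obtain ⟨h1, h2, h3⟩ := h
  refine ⟨(O Q).inv_mem h1, by rw [map_inv, h2, inv_one], ?_⟩
  have h4 : (⟨g⁻¹, (O Q).inv_mem h1⟩ : O Q) = ⟨g, h1⟩⁻¹ := rfl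
  rw [h4, map_inv, h3, Int.units_inv_eq_self]

theorem el_conj {t : ℤˣ} {g s : V ≃ₗ[F] V} (hs : s ∈ O Q) (hg : El Q t g) : El Q t (s * g * s⁻¹) := by
  obtain ⟨h1, h2, h3⟩ := hg
  refine ⟨(O Q).mul_mem ((O Q).mul_mem hs h1) ((O Q).inv_mem hs), ?_, ?_⟩
  · rw [map_mul, map_mul, map_inv, h2, mul_one, mul_inv_cancel]
  · have h4 : (⟨s * g * s⁻¹, (O Q).mul_mem ((O Q).mul_mem hs h1) ((O Q).inv_mem hs)⟩ : O Q) =
      ⟨s, hs⟩ * ⟨g, h1⟩ * ⟨s, hs⟩⁻¹ := rfl
    rw [h4, map_mul, map_mul, map_inv, h3, mul_comm (spin Q ⟨s, hs⟩), mul_assoc, mul_inv_cancel, mul_one]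

theorem el_or {g : V ≃ₗ[F] V} (hg : g ∈ O Q) (hd : LinearEquiv.det g = 1) : El Q 1 g ∨ El Q (-1) g :=
  (Int.units_eq_one_or (spin Q ⟨g, hg⟩)).imp (fun h => ⟨hg, hd, h⟩) (fun h => ⟨hg, hd, h⟩)

theorem neg_mul_comm' (g : V ≃ₗ[F] V) : LinearEquiv.neg F * g = g * LinearEquiv.neg F :=
  LinearEquiv.ext fun v => (map_neg g v).symm

theorem neg_mul_neg' : (LinearEquiv.neg F : V ≃ₗ[F] V) * LinearEquiv.neg F = 1 :=
  LinearEquiv.ext fun v => neg_neg v

theorem neg_mem_O : (LinearEquiv.neg F : V ≃ₗ[F] V) ∈ O Q := fun v => QuadraticMap.map_neg Q v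

theorem det_neg_odd (ho : Odd (finrank F V)) : LinearEquiv.det (LinearEquiv.neg F : V ≃ₗ[F] V) = -1 := by
  apply Units.ext
  rw [LinearEquiv.coe_det, Units.val_neg, Units.val_one]
  have h1 : ((LinearEquiv.neg F : V ≃ₗ[F] V) : V →ₗ[F] V) = (-1 : F) • LinearMap.id := by
    ext v
    simp
  rw [h1, LinearMap.det_smul, LinearMap.det_id, mul_one, ho.neg_one_pow]

theorem exists_rep (hQ : Nondeg Q) (ho : Odd (finrank F V)) {s₁ : V ≃ₗ[F] V} (hs₁ : El Q (-1) s₁) {s : V ≃ₗ[F] V}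
    (hs : s ∈ O Q) : ∃ c : V ≃ₗ[F] V, El Q 1 c ∧
      ((∀ k : V ≃ₗ[F] V, s * k * s⁻¹ = c * k * c⁻¹) ∨ ∀ k : V ≃ₗ[F] V, s * k * s⁻¹ = s₁ * (c * k * c⁻¹) * s₁⁻¹) := by
  have : Module.Finite F V := Module.Finite.of_finite
  obtain ⟨s', hs', hd, hc⟩ : ∃ s' ∈ O Q, LinearEquiv.det s' = 1 ∧ ∀ k : V ≃ₗ[F] V, s * k * s⁻¹ = s' * k * s'⁻¹ := by
    have h1 := det_sq hQ hs
    have h2 : (LinearEquiv.det s : F) * (LinearEquiv.det s : F) = 1 := by
      rw [← Units.val_mul, ← pow_two, h1, Units.val_one]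
    rcases mul_self_eq_one_iff.1 h2 with h3 | h3
    · exact ⟨s, hs, Units.ext h3, fun _ => rfl⟩
    · refine ⟨LinearEquiv.neg F * s, (O Q).mul_mem neg_mem_O hs, ?_, fun k => ?_⟩
      · rw [map_mul, det_neg_odd ho]
        apply Units.ext
        rw [Units.val_mul, h3, Units.val_neg, Units.val_one, neg_mul_neg, mul_one]
      · have h4 : (LinearEquiv.neg F : V ≃ₗ[F] V)⁻¹ = LinearEquiv.neg F := inv_eq_of_mul_eq_one_left neg_mul_neg'
        rw [mul_inv_rev, h4]
        calc s * k * s⁻¹ = s * k * s⁻¹ * (LinearEquiv.neg F * LinearEquiv.neg F) := by rw [neg_mul_neg', mul_one]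
          _ = (s * k * s⁻¹ * LinearEquiv.neg F) * LinearEquiv.neg F := by rw [mul_assoc _ _ (LinearEquiv.neg F)]
          _ = LinearEquiv.neg F * (s * k * s⁻¹) * LinearEquiv.neg F := by rw [neg_mul_comm' (s * k * s⁻¹)]
          _ = LinearEquiv.neg F * s * k * (s⁻¹ * LinearEquiv.neg F) := by simp only [mul_assoc]
  rcases el_or hs' hd with h | h
  · exact ⟨s', h, Or.inl hc⟩
  · refine ⟨s₁⁻¹ * s', ?_, Or.inr fun k => ?_⟩
    · have := (el_inv hs₁).mul h
      rwa [neg_mul_neg, mul_one] at this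
    · rw [hc]
      group

end el

variable {F L P : Type} [Field F] [Fintype F] [Field L] [Finite L] [Algebra F L] [AddCommGroup P] [Module F P] [Finite P]
  {Q : QuadraticForm F L} {Q' : QuadraticForm F P} {p m k r : ℕ} {u lam : L}

namespace Dat

variable (D : Dat p m k r Q Q' u lam)

include D

/-- the embedding of `Om Q'` -/
def inj : Om Q' →* Om (Q.prod Q') where
  toFun s := ⟨pr 1 (s : P ≃ₗ[F] P), by
    have := D.el_pr (El.one Q) s.2
    rwa [mul_one] at this⟩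
  map_one' := rfl
  map_mul' _ _ := rfl

theorem coe_inj (s : Om Q') : (D.inj s : (L × P) ≃ₗ[F] (L × P)) = pr 1 (s : P ≃ₗ[F] P) := rfl

omit D [Fintype F] in
theorem pr_inj {t t' : L ≃ₗ[F] L} {s s' : P ≃ₗ[F] P} (h : pr t s = pr t' s') : t = t' ∧ s = s' := by
  have h1 := prHom_injective (a₁ := (t, s)) (a₂ := (t', s')) h
  exact ⟨congrArg Prod.fst h1, congrArg Prod.snd h1⟩

omit D [Fintype F] in
theorem pr_inv (t : L ≃ₗ[F] L) (s : P ≃ₗ[F] P) : (pr t s)⁻¹ = pr t⁻¹ s⁻¹ := rfl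

theorem inj_injective : Function.Injective D.inj := by
  intro a b hab
  exact Subtype.ext (pr_inj (congrArg Subtype.val hab)).2

theorem mem_K {x : Om (Q.prod Q')} : x ∈ D.inj.range ↔ ∃ s : P ≃ₗ[F] P, El Q' 1 s ∧
    (x : (L × P) ≃ₗ[F] (L × P)) = pr 1 s := by
  constructor
  · rintro ⟨s, rfl⟩
    exact ⟨s, s.2, rfl⟩
  · rintro ⟨s, hs, h⟩
    exact ⟨⟨s, hs⟩, Subtype.ext h.symm⟩

theorem not_dvd_K [hf : Fact r.Prime] : ¬ r ∣ Nat.card D.inj.range := by
  intro h
  have := finite_om (Q.prod Q')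
  obtain ⟨x, hx⟩ := exists_prime_orderOf_dvd_card' r h
  obtain ⟨s, hs, h1⟩ := D.mem_K.1 x.2
  have h2 : (x : Om (Q.prod Q')) ^ r = 1 := by
    have := pow_orderOf_eq_one x
    rw [hx] at this
    exact congrArg Subtype.val this
  have h3 : pr (1 : L ≃ₗ[F] L) s ^ r = 1 := by
    rw [← h1]
    exact congrArg Subtype.val h2
  rw [pr_pow, one_pow] at h3
  have h4 := D.hrP s hs.1 1 (by rw [pow_one]; exact (pr_inj (h3.trans pr_one.symm)).2)
  have h5 : x = 1 := Subtype.ext (Subtype.ext (by rw [h1, h4]; rfl))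
  rw [h5, orderOf_one] at hx
  exact D.hr.one_lt.ne hx

omit D in
/-- the second subgroup -/
def lo (Q : QuadraticForm F L) (Q' : QuadraticForm F P) : Subgroup (Om (Q.prod Q')) where
  carrier := {x | ∃ (t : L ≃ₗ[F] L) (s : P ≃ₗ[F] P), El Q' 1 s ∧ (x : (L × P) ≃ₗ[F] (L × P)) = pr t s}
  one_mem' := ⟨1, 1, El.one Q', rfl⟩
  mul_mem' := by
    rintro x y ⟨t, s, hs, hx⟩ ⟨t', s', hs', hy⟩
    refine ⟨t * t', s * s', ?_, ?_⟩
    · have := hs.mul hs'
      rwa [mul_one] at this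
    · rw [Subgroup.coe_mul, hx, hy, pr_mul]
  inv_mem' := by
    rintro x ⟨t, s, hs, hx⟩
    exact ⟨t⁻¹, s⁻¹, el_inv hs, by rw [Subgroup.coe_inv, hx, pr_inv]⟩

theorem conj_K {n x : Om (Q.prod Q')} {t : L ≃ₗ[F] L} {s w : P ≃ₗ[F] P} (hn : (n : (L × P) ≃ₗ[F] (L × P)) = pr t s)
    (hx : (x : (L × P) ≃ₗ[F] (L × P)) = pr 1 w) :
    ((n * x * n⁻¹ : Om (Q.prod Q')) : (L × P) ≃ₗ[F] (L × P)) = pr 1 (s * w * s⁻¹) := by
  rw [Subgroup.coe_mul, Subgroup.coe_mul, Subgroup.coe_inv, hn, hx, pr_inv, ← pr_mul, ← pr_mul, mul_one, mul_inv_cancel]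

theorem h0 : ∀ l ∈ lo Q Q', ∃ c ∈ D.inj.range, ∀ w ∈ D.inj.range, l * w * l⁻¹ = c * w * c⁻¹ := by
  rintro l ⟨t, s, hs, hl⟩
  refine ⟨D.inj ⟨s, hs⟩, ⟨_, rfl⟩, fun w hw => ?_⟩
  obtain ⟨v, hv, hw'⟩ := D.mem_K.1 hw
  apply Subtype.ext
  rw [D.conj_K hl hw', D.conj_K (D.coe_inj ⟨s, hs⟩) hw']

/-- the element `d` -/
theorem exists_d {s₀ : P ≃ₗ[F] P} (hs₀ : El Q' (-1) s₀) : ∃ (d : Om (Q.prod Q')) (β : L) (hβ : β ≠ 0) (s₁ : P ≃ₗ[F] P),
    (d : (L × P) ≃ₗ[F] (L × P)) = pr (mulL F β hβ) s₁ ∧ El Q' (-1) s₁ ∧ ¬ r ∣ orderOf d := by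
  have := finite_om (Q.prod Q')
  have h1 : El (Q.prod Q') 1 (pr (mulL F u D.u0) s₀) := by
    have := D.el_pr (el_u D.two D.hm D.sg D.u0 D.hu D.huQ) hs₀
    rwa [neg_mul_neg, mul_one] at this
  set d₁ : Om (Q.prod Q') := ⟨pr (mulL F u D.u0) s₀, h1⟩ with hd₁
  have ho : 0 < orderOf d₁ := orderOf_pos d₁
  obtain ⟨j, o', ho', hfac⟩ := Nat.exists_eq_pow_mul_and_not_dvd ho.ne' r D.hr.ne_one
  have hodd : Odd (r ^ j) := D.r_odd.pow
  refine ⟨d₁ ^ (r ^ j), u ^ (r ^ j), pow_ne_zero _ D.u0, s₀ ^ (r ^ j), ?_, ?_, ?_⟩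
  · rw [Subgroup.coe_pow]
    show pr (mulL F u D.u0) s₀ ^ (r ^ j) = _
    rw [pr_pow]
    congr 1
    exact LinearEquiv.ext fun v => mulL_pow D.u0 _ v
  · have := hs₀.pow (r ^ j)
    rwa [hodd.neg_one_pow] at this
  · rw [orderOf_pow_of_dvd (pow_pos D.hr.pos j).ne' (by rw [hfac]; exact dvd_mul_right _ _), hfac,
      Nat.mul_div_cancel_left _ (pow_pos D.hr.pos j)]
    exact ho'

end Dat

end Cfsg.Agent.H205.OZ
end

-- part: H845/OZ/OmLin
section
/-!
# S4842, `Ω_{2k+1}(q)`: invariant linear characters, elements of order `r ^ j`, spinor sign `-1` (helper845)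

* `lin_trivial` : a homomorphism `Om Q →* A`, `A` commutative, `dim V` odd, invariant under an isometry of determinant
  one and spinor sign `-1`, is trivial;
* `one_of_rpow` : no elements of order `r`, if `r` divides no `q ^ i - 1`, `0 < i < 2 m`, `dim V < 2 m`;
* `exists_neg` : isometries of determinant one and spinor sign `-1`.
-/

set_option autoImplicit false
set_option linter.unusedSectionVars false

namespace Cfsg.Agent.H845.OZ

open Module QuadraticMap Cfsg
open Cfsg.Agent.LieClassical.OrthCore Cfsg.Agent.LieClassical.OrthFinite Cfsg.Agent.LieClassical.OrthForms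
open Cfsg.Agent.H160.QSpin Cfsg.Agent.H160.QDisc Cfsg.Agent.H160.QSplit Cfsg.Agent.H205.OZ

section neg

variable {F V : Type*} [Field F] [AddCommGroup V] [Module F V]

theorem det_neg_odd [FiniteDimensional F V] (ho : Odd (finrank F V)) :
    LinearEquiv.det (LinearEquiv.neg F : V ≃ₗ[F] V) = -1 := by
  apply Units.ext
  rw [LinearEquiv.coe_det]
  have h1 : ((LinearEquiv.neg F : V ≃ₗ[F] V) : V →ₗ[F] V) = (-1 : F) • LinearMap.id := by
    ext x
    simp
  rw [h1, LinearMap.det_smul, LinearMap.det_id, mul_one, ho.neg_one_pow]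
  rfl

theorem neg_comm (g : V ≃ₗ[F] V) : (LinearEquiv.neg F : V ≃ₗ[F] V) * g = g * (LinearEquiv.neg F : V ≃ₗ[F] V) := by
  ext x
  change -(g x) = g (-x)
  rw [map_neg]

end neg

section decomp

variable {F V : Type*} [Field F] [Finite F] [AddCommGroup V] [Module F V] [Finite V] [FiniteDimensional F V]
  {Q : QuadraticForm F V}

theorem neg_mem (Q : QuadraticForm F V) : (LinearEquiv.neg F : V ≃ₗ[F] V) ∈ O Q := by
  intro v
  change Q (-v) = Q v
  exact QuadraticMap.map_neg Q v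

theorem det_eq_or (hQ : Nondeg Q) {g : V ≃ₗ[F] V} (hg : g ∈ O Q) : LinearEquiv.det g = 1 ∨ LinearEquiv.det g = -1 := by
  have h1 := det_sq hQ hg
  have h2 : ((LinearEquiv.det g : Fˣ) : F) ^ 2 = 1 := by rw [← Units.val_pow_eq_pow_val, h1, Units.val_one]
  rw [pow_two] at h2
  rcases mul_self_eq_one_iff.1 h2 with h | h
  · exact Or.inl (Units.ext h)
  · exact Or.inr (Units.ext h)

/-- `O Q = {±1, ±s₀} Om Q` -/
theorem exists_decomp (hQ : Nondeg Q) (ho : Odd (finrank F V)) {s₀ : V ≃ₗ[F] V} (hs₀ : El Q (-1) s₀) {g : V ≃ₗ[F] V}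
    (hg : g ∈ O Q) : ∃ z ω : V ≃ₗ[F] V, (∀ x, z * x = x * z) ∧ ω ∈ Om Q ∧ (g = z * ω ∨ g = z * (s₀ * ω)) := by
  -- reduce to determinant one
  have key : ∀ g : V ≃ₗ[F] V, g ∈ O Q → LinearEquiv.det g = 1 → ∃ ω ∈ Om Q, g = ω ∨ g = s₀ * ω := by
    intro g hg hd
    rcases Int.units_eq_one_or (spin Q ⟨g, hg⟩) with h | h
    · exact ⟨g, ⟨hg, hd, h⟩, Or.inl rfl⟩
    · refine ⟨s₀⁻¹ * g, ?_, Or.inr (by rw [mul_inv_cancel_left])⟩
      obtain ⟨h1, h2, h3⟩ := hs₀
      refine ⟨(O Q).mul_mem ((O Q).inv_mem h1) hg, by rw [map_mul, map_inv, h2, hd]; simp, ?_⟩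
      have h4 : (⟨s₀⁻¹ * g, (O Q).mul_mem ((O Q).inv_mem h1) hg⟩ : O Q) = (⟨s₀, h1⟩ : O Q)⁻¹ * ⟨g, hg⟩ := rfl
      rw [h4, map_mul, map_inv, h3, h]
      rfl
  rcases det_eq_or hQ hg with h | h
  · obtain ⟨ω, hω, h1⟩ := key g hg h
    exact ⟨1, ω, fun x => by rw [one_mul, mul_one], hω, by simpa using h1⟩
  · obtain ⟨ω, hω, h1⟩ := key (LinearEquiv.neg F * g) ((O Q).mul_mem (neg_mem Q) hg) (by
      rw [map_mul, det_neg_odd ho, h]
      simp)
    have h2 : (LinearEquiv.neg F : V ≃ₗ[F] V) * (LinearEquiv.neg F : V ≃ₗ[F] V) = 1 := by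
      ext x
      change - -x = x
      rw [neg_neg]
    refine ⟨LinearEquiv.neg F, ω, neg_comm, hω, ?_⟩
    rcases h1 with h1 | h1
    · left
      rw [← h1, ← mul_assoc, h2, one_mul]
    · right
      rw [← h1, ← mul_assoc, h2, one_mul]

theorem map_O_cj {W : Type*} [AddCommGroup W] [Module F W] {Q' : QuadraticForm F W} {e : V ≃ₗ[F] W}
    (he : IsIso Q Q' e) : (O Q).map (cjEquiv e).toMonoidHom = O Q' := by
  apply le_antisymm
  · rintro _ ⟨g, hg, rfl⟩
    exact cj_mem_O he hg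
  · intro g hg
    refine ⟨cj e.symm g, cj_mem_O he.symm hg, ?_⟩
    exact (cjEquiv e).apply_symm_apply g

/-- `Om Q` is contained in the commutator subgroup. -/
theorem om_le (h2 : (2 : F) ≠ 0) (hQ : Nondeg Q) (hd : 2 ≤ finrank F V) {g : V ≃ₗ[F] V} (hg : g ∈ Om Q) :
    g ∈ ⁅O Q, O Q⁆ := by
  obtain ⟨Q', e, he⟩ := exists_fin Q rfl
  have hQ' : Nondeg Q' := he.nondeg hQ
  have h1 : El Q' 1 (cj e g) := El.cj he hg
  obtain ⟨h3, h4, h5⟩ := h1
  obtain ⟨a, ha⟩ := (isometryEquiv Q').surjective ⟨cj e g, h3⟩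
  have h6 : a ∈ Cfsg.Omega F ⇑Q' := by
    rw [mem_omega_iff h2 hQ' (by simpa only [_root_.Fintype.card_fin] using hd), ha]
    exact ⟨h3, h4, h5⟩
  have h7 : cj e g ∈ ⁅O Q', O Q'⁆ := by
    rw [← map_Omega]
    refine ⟨a, h6, ?_⟩
    change (((isometryEquiv Q' a : O Q')) : (Fin (finrank F V) → F) ≃ₗ[F] (Fin (finrank F V) → F)) = _
    rw [ha]
  rw [← map_O_cj he, ← Subgroup.map_commutator] at h7
  obtain ⟨b, hb, hbe⟩ := h7
  have h8 : b = g := (cjEquiv e).injective hbe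
  rw [← h8]
  exact hb

/-- **Invariant homomorphisms to commutative groups are trivial.** -/
theorem lin_trivial' (h2 : (2 : F) ≠ 0) (hQ : Nondeg Q) {k : ℕ} (hk : 1 ≤ k) (hd : finrank F V = 2 * k + 1)
    {s₀ : V ≃ₗ[F] V} (hs₀ : El Q (-1) s₀) {A : Type*} [CommGroup A] (f : Om Q →* A)
    (hf : ∀ (g : Om Q) (h : El Q 1 (s₀ * (g : V ≃ₗ[F] V) * s₀⁻¹)), f ⟨s₀ * g * s₀⁻¹, h⟩ = f g) : f = 1 := by
  -- `s₀` normalises `Om Q`
  have hconj : ∀ ω ∈ Om Q, s₀ * ω * s₀⁻¹ ∈ Om Q := by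
    intro ω hω
    obtain ⟨h1, h3, h4⟩ := hs₀
    obtain ⟨h5, h6, h7⟩ := hω
    refine ⟨(O Q).mul_mem ((O Q).mul_mem h1 h5) ((O Q).inv_mem h1), by
      rw [map_mul, map_mul, map_inv, h3, h6]; simp, ?_⟩
    have h8 : (⟨s₀ * ω * s₀⁻¹, (O Q).mul_mem ((O Q).mul_mem h1 h5) ((O Q).inv_mem h1)⟩ : O Q) =
      ⟨s₀, h1⟩ * ⟨ω, h5⟩ * (⟨s₀, h1⟩ : O Q)⁻¹ := rfl
    rw [h8, map_mul, map_mul, map_inv, h4, h7]
    simp
  let N : Subgroup (V ≃ₗ[F] V) := f.ker.map (Om Q).subtype
  have hN : ∀ (x : V ≃ₗ[F] V) (hx : x ∈ Om Q), f ⟨x, hx⟩ = 1 → x ∈ N := fun x hx h => ⟨⟨x, hx⟩, h, rfl⟩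
  have hfc : ∀ (x : Om Q), f ⟨s₀ * x * s₀⁻¹, hconj x x.2⟩ = f x := fun x => hf x (hconj x x.2)
  have hcomm : ∀ a b : V ≃ₗ[F] V, a ∈ O Q → b ∈ O Q → a * b * a⁻¹ * b⁻¹ ∈ N := by
    intro a b ha hb
    obtain ⟨z, ω, hz, hω, h1⟩ := exists_decomp hQ ⟨k, hd⟩ hs₀ ha
    obtain ⟨z', ω', hz', hω', h1'⟩ := exists_decomp hQ ⟨k, hd⟩ hs₀ hb
    -- the central factors cancel
    have hcen : ∀ x y : V ≃ₗ[F] V, (z * x) * (z' * y) * (z * x)⁻¹ * (z' * y)⁻¹ = x * y * x⁻¹ * y⁻¹ := by
      intro x y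
      calc (z * x) * (z' * y) * (z * x)⁻¹ * (z' * y)⁻¹ = z * x * z' * y * x⁻¹ * z⁻¹ * (y⁻¹ * z'⁻¹) := by
            rw [mul_inv_rev, mul_inv_rev]; group
        _ = z * (x * (z' * (y * x⁻¹))) * z⁻¹ * (y⁻¹ * z'⁻¹) := by group
        _ = (x * (z' * (y * x⁻¹))) * z * z⁻¹ * (y⁻¹ * z'⁻¹) := by rw [hz]
        _ = x * (z' * (y * x⁻¹ * y⁻¹)) * z'⁻¹ := by group
        _ = x * ((y * x⁻¹ * y⁻¹) * z') * z'⁻¹ := by rw [hz']
        _ = x * y * x⁻¹ * y⁻¹ := by group
    let w : Om Q := ⟨ω, hω⟩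
    let w' : Om Q := ⟨ω', hω'⟩
    let c : Om Q → Om Q := fun x => ⟨s₀ * x * s₀⁻¹, hconj x x.2⟩
    have hc : ∀ x, f (c x) = f x := hfc
    rcases h1 with rfl | rfl <;> rcases h1' with rfl | rfl <;> rw [hcen]
    · refine hN _ (w * w' * w⁻¹ * w'⁻¹).2 ?_
      change f (w * w' * w⁻¹ * w'⁻¹) = 1
      simp only [map_mul, map_inv]
      rw [mul_comm (f w) (f w'), mul_inv_cancel_right, mul_inv_cancel]
    · -- `ω (s₀ ω') ω⁻¹ (s₀ ω')⁻¹ = ω c(ω' ω⁻¹ ω'⁻¹)`
      have h3 : ω * (s₀ * ω') * ω⁻¹ * (s₀ * ω')⁻¹ = ((w * c (w' * w⁻¹ * w'⁻¹) : Om Q) : V ≃ₗ[F] V) := by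
        change _ = ω * (s₀ * (ω' * ω⁻¹ * ω'⁻¹) * s₀⁻¹)
        group
      rw [h3]
      refine hN _ (w * c (w' * w⁻¹ * w'⁻¹)).2 ?_
      change f (w * c (w' * w⁻¹ * w'⁻¹)) = 1
      rw [map_mul, hc]
      simp only [map_mul, map_inv]
      rw [mul_comm (f w') (f w)⁻¹, mul_inv_cancel_right, mul_inv_cancel]
    · have h3 : s₀ * ω * ω' * (s₀ * ω)⁻¹ * ω'⁻¹ = ((c (w * w' * w⁻¹) * w'⁻¹ : Om Q) : V ≃ₗ[F] V) := by
        change _ = (s₀ * (ω * ω' * ω⁻¹) * s₀⁻¹) * ω'⁻¹
        group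
      rw [h3]
      refine hN _ (c (w * w' * w⁻¹) * w'⁻¹).2 ?_
      change f (c (w * w' * w⁻¹) * w'⁻¹) = 1
      rw [map_mul, hc]
      simp only [map_mul, map_inv]
      rw [mul_comm (f w) (f w'), mul_inv_cancel_right, mul_inv_cancel]
    · have h3 : s₀ * ω * (s₀ * ω') * (s₀ * ω)⁻¹ * (s₀ * ω')⁻¹ =
          ((c w * (c (c (w' * w⁻¹)) * c w'⁻¹) : Om Q) : V ≃ₗ[F] V) := by
        change _ = (s₀ * ω * s₀⁻¹) * ((s₀ * (s₀ * (ω' * ω⁻¹) * s₀⁻¹) * s₀⁻¹) * (s₀ * ω'⁻¹ * s₀⁻¹))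
        group
      rw [h3]
      refine hN _ (c w * (c (c (w' * w⁻¹)) * c w'⁻¹)).2 ?_
      change f (c w * (c (c (w' * w⁻¹)) * c w'⁻¹)) = 1
      rw [map_mul, map_mul, hc, hc, hc, hc]
      simp only [map_mul, map_inv]
      rw [mul_comm (f w') (f w)⁻¹, mul_inv_cancel_right, mul_inv_cancel]
  ext x
  have h3 : (x : V ≃ₗ[F] V) ∈ N := by
    have h4 : ⁅O Q, O Q⁆ ≤ N := by
      rw [Subgroup.commutator_le]
      intro a ha b hb
      rw [commutatorElement_def]
      exact hcomm a b ha hb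
    exact h4 (om_le h2 hQ (by omega) x.2)
  obtain ⟨y, hy, hyx⟩ := h3
  have h5 : y = x := Subtype.ext hyx
  rw [← h5]
  exact hy

end decomp

section rpow

variable {F V : Type*} [Field F] [Fintype F] [AddCommGroup V] [Module F V] [FiniteDimensional F V]

/-- no elements of order `r` -/
theorem one_of_rpow' {d r : ℕ} (hd : finrank F V = d) (hr : r.Prime) (hrq : ¬ r ∣ Fintype.card F)
    (cond : ∀ i, 0 < i → i ≤ d → ¬ r ∣ Fintype.card F ^ i - 1) (s : V ≃ₗ[F] V) (j : ℕ) (hs : s ^ (r ^ j) = 1) :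
    s = 1 := by
  classical
  let b := (Module.finBasisOfFinrankEq F V hd)
  let e1 : (V ≃ₗ[F] V) ≃* ((Fin d → F) ≃ₗ[F] (Fin d → F)) := cjEquiv b.equivFun
  let e : (V ≃ₗ[F] V) ≃* GL (Fin d) F := e1.trans (glEquiv (Fin d) F).symm
  have hc : Nat.card (V ≃ₗ[F] V) = ∏ i : Fin d, (Fintype.card F ^ d - Fintype.card F ^ (i : ℕ)) := by
    rw [Nat.card_congr e.toEquiv, Matrix.card_GL_field]
  have hf : Finite (V ≃ₗ[F] V) := Finite.of_equiv _ e.symm.toEquiv
  have hnd : ¬ r ∣ Nat.card (V ≃ₗ[F] V) := by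
    rw [hc, Prime.dvd_finsetProd_iff hr.prime]
    rintro ⟨i, -, hi⟩
    have h1 : Fintype.card F ^ d - Fintype.card F ^ (i : ℕ) =
        Fintype.card F ^ (i : ℕ) * (Fintype.card F ^ (d - i) - 1) := by
      rw [Nat.mul_sub, mul_one, ← pow_add]
      congr 2
      have := i.2
      omega
    rw [h1] at hi
    rcases hr.dvd_mul.1 hi with h3 | h3
    · exact hrq (hr.dvd_of_dvd_pow h3)
    · exact cond _ (by have := i.2; omega) (by omega) h3
  have h3 : orderOf s ∣ r ^ j := orderOf_dvd_of_pow_eq_one hs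
  obtain ⟨i, -, hi⟩ := (Nat.dvd_prime_pow hr).1 h3
  rcases Nat.eq_zero_or_pos i with rfl | h0
  · rw [pow_zero] at hi
    exact orderOf_eq_one_iff.1 hi
  · exfalso
    apply hnd
    have h4 : orderOf s ∣ Nat.card (V ≃ₗ[F] V) := orderOf_dvd_natCard s
    rw [hi] at h4
    exact (dvd_pow_self r h0.ne').trans h4

end rpow

section exists_neg

variable {F V : Type*} [Field F] [Finite F] [AddCommGroup V] [Module F V] [Finite V] [FiniteDimensional F V]
  {Q : QuadraticForm F V}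

/-- isometries of determinant one and spinor sign `-1` -/
theorem exists_neg' (h2 : (2 : F) ≠ 0) (hQ : Nondeg Q) {k : ℕ} (hk : 1 ≤ k) (hd : finrank F V = 2 * k + 1) :
    ∃ s₀ : V ≃ₗ[F] V, El Q (-1) s₀ := by
  classical
  obtain ⟨x, -, hx0, hx⟩ := exists_sing_mem (Q := Q) ⊤ (by rw [finrank_top]; omega)
  obtain ⟨y, hy⟩ := LieClassical.OrthTrans.exists_hyp hQ hx hx0
  have hval : ∀ c : F, Q (x + c • y) = c := by
    intro c
    rw [Q_add, QuadraticMap.map_smul, hx, hy.right, polar_smul_right, hy.pair]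
    simp
  obtain ⟨α, hα⟩ := FiniteField.exists_nonsquare (F := F) (by
    intro h
    apply h2
    have := ringChar.spec F 2
    rw [h] at this
    exact_mod_cast this.2 (dvd_refl 2))
  have hα0 : α ≠ 0 := by
    rintro rfl
    exact hα (IsSquare.zero)
  have h1 : Q (x + (1 : F) • y) ≠ 0 := by rw [hval]; exact one_ne_zero
  have h3 : Q (x + α • y) ≠ 0 := by rw [hval]; exact hα0
  refine ⟨refl Q _ h1 * refl Q _ h3, (O Q).mul_mem (refl_mem_O h1) (refl_mem_O h3), ?_, ?_⟩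
  · rw [map_mul, det_refl, det_refl]
    simp
  · have h4 : (⟨refl Q _ h1 * refl Q _ h3, (O Q).mul_mem (refl_mem_O h1) (refl_mem_O h3)⟩ : O Q) =
      ⟨refl Q _ h1, refl_mem_O h1⟩ * ⟨refl Q _ h3, refl_mem_O h3⟩ := rfl
    rw [h4, map_mul, spin_refl h2, spin_refl h2, if_pos, if_neg, mul_one]
    · rw [hval]; exact hα
    · rw [hval]; exact IsSquare.one

end exists_neg

section exact

variable {F V : Type*} [Field F] [Fintype F] [AddCommGroup V] [Module F V] [Finite V]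

/-- **Invariant homomorphisms `Om Q →* A` to commutative groups are trivial.** -/
theorem lin_trivial (h2 : (2 : F) ≠ 0) {Q : QuadraticForm F V} (hQ : Nondeg Q) {k : ℕ} (hk : 1 ≤ k)
    (hd : finrank F V = 2 * k + 1) {s₀ : V ≃ₗ[F] V} (hs₀ : El Q (-1) s₀) {A : Type*} [CommGroup A] (f : Om Q →* A)
    (hf : ∀ (g : Om Q) (h : El Q 1 (s₀ * (g : V ≃ₗ[F] V) * s₀⁻¹)), f ⟨s₀ * g * s₀⁻¹, h⟩ = f g) : f = 1 :=
  have : FiniteDimensional F V := Module.Finite.of_finite
  lin_trivial' h2 hQ hk hd hs₀ f hf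

/-- **No elements of order `r`.** -/
theorem one_of_rpow {Q : QuadraticForm F V} {k : ℕ} (hd : finrank F V = 2 * k + 1) {m r : ℕ} (hkm : k < m)
    (hr : r.Prime) (hrq : ¬ r ∣ Fintype.card F) (cond : ∀ i, 0 < i → i < 2 * m → ¬ r ∣ Fintype.card F ^ i - 1) :
    ∀ s ∈ O Q, ∀ j : ℕ, s ^ (r ^ j) = 1 → s = 1 :=
  have : FiniteDimensional F V := Module.Finite.of_finite
  fun s _ j hs => one_of_rpow' hd hr hrq (fun i h1 h3 => cond i h1 (by omega)) s j hs

/-- **Isometries of determinant one and spinor sign `-1`.** -/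
theorem exists_neg (h2 : (2 : F) ≠ 0) {Q : QuadraticForm F V} (hQ : Nondeg Q) {k : ℕ} (hk : 1 ≤ k)
    (hd : finrank F V = 2 * k + 1) : ∃ s₀ : V ≃ₗ[F] V, El Q (-1) s₀ :=
  have : FiniteDimensional F V := Module.Finite.of_finite
  exists_neg' h2 hQ hk hd

end exact

end Cfsg.Agent.H845.OZ
end
end

-- part: H205/OZ/Row
section
prune_inst 0x2342051310ee2120000000502402022b45900009000400000c8a20a440200a0204080a040048020120a2280090000002811000030020000000000000000050401800206041140000cc60019800004010000000000000000000000000000000000204010000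
set_option linter.all false
open scoped Cfsg.Agent.FastGrp

-- part: H205/OZ/NR
section
/-!
# S4842: the normalizer of the Sylow subgroup in `Om (Q.prod Q')` (helper205)
-/

set_option autoImplicit false
set_option linter.unusedSectionVars false

namespace Cfsg.Agent.H205.OZ

open Module QuadraticMap Cfsg
open Cfsg.Agent.LieClassical.OrthCore Cfsg.Agent.H182.Sign Cfsg.Agent.H93.CJ Cfsg.Agent.H530.OZ
open Cfsg.Agent.H160.QSpin Cfsg.Agent.H160.QDisc Cfsg.Agent.H160.QSplit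

variable {F L P : Type} [Field F] [Fintype F] [Field L] [Finite L] [Algebra F L] [AddCommGroup P] [Module F P] [Finite P]
  {Q : QuadraticForm F L} {Q' : QuadraticForm F P} {p m k r : ℕ} {u lam : L}

namespace Dat

variable (D : Dat p m k r Q Q' u lam)

include D

/-- powers of the torus element have no fixed vectors -/
theorem lam_pow_mul {i : ℕ} (hi : ¬ r ∣ i) (v : L) (h : lam ^ i * v = v) : v = 0 := by
  by_contra hv
  have h1 : lam ^ i = 1 := by
    apply mul_right_cancel₀ hv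
    rw [h, one_mul]
  apply hi
  rw [← D.hlo]
  exact orderOf_dvd_of_pow_eq_one h1

theorem norm_blk {n : Om (Q.prod Q')} {i : ℕ} (h : n * D.z * n⁻¹ = D.z ^ i) :
    ∃ (t : L ≃ₗ[F] L) (s : P ≃ₗ[F] P), (n : (L × P) ≃ₗ[F] (L × P)) = pr t s ∧ t ∈ O Q ∧ s ∈ O Q' := by
  have : Module.Finite F L := Module.Finite.of_finite
  have : Module.Finite F P := Module.Finite.of_finite
  have hi : ¬ r ∣ i := by
    intro hi
    have h1 : D.z ^ i = 1 := by
      apply orderOf_dvd_iff_pow_eq_one.1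
      rw [D.order_z]
      exact hi
    rw [h1, mul_inv_eq_one] at h
    have h2 : D.z = 1 := by
      have := congrArg (fun x => n⁻¹ * x) h
      simpa only [_root_.inv_mul_cancel_left, _root_.inv_mul_cancel] using this
    have h3 := D.order_z
    rw [h2, orderOf_one] at h3
    exact D.hr.one_lt.ne h3
  have h1 : (n : (L × P) ≃ₗ[F] (L × P)) * pr (mulL F lam D.lam0) (1 : P ≃ₗ[F] P) =
      pr (mulL F lam D.lam0 ^ i) (1 : P ≃ₗ[F] P) * (n : (L × P) ≃ₗ[F] (L × P)) := by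
    rw [mul_inv_eq_iff_eq_mul] at h
    have h2 := congrArg Subtype.val h
    rw [Subgroup.coe_mul, Subgroup.coe_mul, D.z_pow, D.coe_z] at h2
    exact h2
  obtain ⟨t, s, hts⟩ := block' (fun v hv => D.lam_mul v hv)
    (fun v hv => D.lam_pow_mul hi v ((mulL_pow (F := F) D.lam0 i v).symm.trans hv)) h1
  have h2 : pr t s ∈ O (Q.prod Q') := by
    rw [← hts]
    exact n.2.1
  obtain ⟨ht, hs⟩ := pr_mem_O_iff.1 h2
  exact ⟨t, s, hts, ht, hs⟩

theorem norm_blk_of_mem (R : Sylow r (Om (Q.prod Q'))) (hzR : D.z ∈ (R : Subgroup (Om (Q.prod Q'))))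
    (hcyc : IsCyclic (R : Subgroup (Om (Q.prod Q'))))
    (hord : ∀ x, Commute D.z x → x ^ r = 1 → x ∈ Subgroup.zpowers D.z) {n : Om (Q.prod Q')}
    (hn : n ∈ Subgroup.normalizer ((R : Subgroup (Om (Q.prod Q'))) : Set _)) :
    ∃ (t : L ≃ₗ[F] L) (s : P ≃ₗ[F] P), (n : (L × P) ≃ₗ[F] (L × P)) = pr t s ∧ t ∈ O Q ∧ s ∈ O Q' := by
  have := finite_om (Q.prod Q')
  have h1 : n * D.z * n⁻¹ ∈ (R : Subgroup (Om (Q.prod Q'))) := (Subgroup.mem_normalizer_iff.1 hn _).1 hzR
  have h2 : Commute D.z (n * D.z * n⁻¹) := by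
    have : IsMulCommutative (R : Subgroup (Om (Q.prod Q'))) := IsCyclic.isMulCommutative
    have h3 := mul_comm' (⟨D.z, hzR⟩ : (R : Subgroup (Om (Q.prod Q')))) ⟨_, h1⟩
    exact congrArg Subtype.val h3
  have h3 : (n * D.z * n⁻¹) ^ r = 1 := by
    rw [conj_pow]
    have : D.z ^ r = 1 := by
      apply orderOf_dvd_iff_pow_eq_one.1
      rw [D.order_z]
    rw [this, mul_one, mul_inv_cancel]
  obtain ⟨i, hi⟩ := (mem_powers_iff_mem_zpowers (x := D.z)).2 (hord _ h2 h3)
  exact D.norm_blk hi.symm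

theorem hKN {n : Om (Q.prod Q')} {t : L ≃ₗ[F] L} {s : P ≃ₗ[F] P} (hn : (n : (L × P) ≃ₗ[F] (L × P)) = pr t s)
    (hs : s ∈ O Q') {w : Om (Q.prod Q')} (hw : w ∈ D.inj.range) : n * w * n⁻¹ ∈ D.inj.range := by
  obtain ⟨v, hv, hw'⟩ := D.mem_K.1 hw
  exact D.mem_K.2 ⟨s * v * s⁻¹, el_conj hs hv, D.conj_K hn hw'⟩

theorem hdK {d : Om (Q.prod Q')} {t₁ : L ≃ₗ[F] L} {s₁ : P ≃ₗ[F] P} (hd : (d : (L × P) ≃ₗ[F] (L × P)) = pr t₁ s₁)
    (hs₁ : El Q' (-1) s₁) {n : Om (Q.prod Q')} {t : L ≃ₗ[F] L} {s : P ≃ₗ[F] P}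
    (hn : (n : (L × P) ≃ₗ[F] (L × P)) = pr t s) (hs : s ∈ O Q') :
    ∃ c ∈ D.inj.range, (∀ w ∈ D.inj.range, n * w * n⁻¹ = c * w * c⁻¹) ∨
      ∀ w ∈ D.inj.range, n * w * n⁻¹ = d * (c * w * c⁻¹) * d⁻¹ := by
  obtain ⟨c, hc, h⟩ := exists_rep D.nd (by rw [D.dimP]; exact odd_two_mul_add_one k) hs₁ hs
  refine ⟨D.inj ⟨c, hc⟩, ⟨_, rfl⟩, ?_⟩
  rcases h with h | h
  · left
    intro w hw
    obtain ⟨v, hv, hw'⟩ := D.mem_K.1 hw
    apply Subtype.ext
    rw [D.conj_K hn hw', D.conj_K (D.coe_inj ⟨c, hc⟩) hw', h]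
  · right
    intro w hw
    obtain ⟨v, hv, hw'⟩ := D.mem_K.1 hw
    apply Subtype.ext
    have h1 := D.conj_K (D.coe_inj ⟨c, hc⟩) hw'
    rw [D.conj_K hn hw', D.conj_K hd h1, h]

theorem hL {d : Om (Q.prod Q')} {t₁ : L ≃ₗ[F] L} {s₁ : P ≃ₗ[F] P} (hd : (d : (L × P) ≃ₗ[F] (L × P)) = pr t₁ s₁)
    (hs₁ : El Q' (-1) s₁) {l : Om (Q.prod Q')} (hl : Commute D.z l) : l ∈ lo Q Q' ∨ ∃ w ∈ lo Q Q', l = d * w := by
  obtain ⟨α, hα, s, ε, h1, -, hs⟩ := D.exists_blk hl
  rcases Int.units_eq_one_or ε with h | h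
  · left
    subst h
    exact ⟨_, s, hs, h1⟩
  · right
    subst h
    refine ⟨d⁻¹ * l, ⟨t₁⁻¹ * mulL F α hα, s₁⁻¹ * s, ?_, ?_⟩, by group⟩
    · have := (el_inv hs₁).mul hs
      rwa [neg_mul_neg, mul_one] at this
    · rw [Subgroup.coe_mul, Subgroup.coe_inv, hd, h1, pr_inv, pr_mul]

theorem hdL {d : Om (Q.prod Q')} {t₁ : L ≃ₗ[F] L} {s₁ : P ≃ₗ[F] P} (hd : (d : (L × P) ≃ₗ[F] (L × P)) = pr t₁ s₁)
    (hs₁ : El Q' (-1) s₁) : d ∉ lo Q Q' := by
  rintro ⟨t, s, hs, h⟩
  rw [hd] at h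
  obtain ⟨-, rfl⟩ := pr_inj h
  have := el_unique hs₁ hs
  exact absurd this (by decide)

theorem comm_K {w : Om (Q.prod Q')} (hw : w ∈ D.inj.range) : Commute D.z w := by
  obtain ⟨v, hv, hw'⟩ := D.mem_K.1 hw
  have h1 : (w : (L × P) ≃ₗ[F] (L × P)) = pr (mulL F (1 : L) one_ne_zero) v := by rw [hw', mulL_one]
  exact D.comm_of_blk h1

end Dat

end Cfsg.Agent.H205.OZ
end

-- part: H845/OZ/CongCongr
section
/-!
# Transport of `Cong`, `CongS`, `Kaw`, `SpCong` along isomorphisms (S4842, helper845)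
-/

set_option autoImplicit false

open Cfsg Cfsg.Agent.Characters Cfsg.Agent.H730.OZ

namespace Cfsg.Agent.H845.OZ

universe u v

variable {G : Type u} {H : Type v} [Group G] [Group H]

theorem mem_pSet_map (e : G ≃* H) (p : ℕ) (x : G) : e x ∈ pSet p H ↔ x ∈ pSet p G := by
  constructor
  · rintro ⟨k, hk⟩
    exact ⟨k, by rw [← hk]; exact (MulEquiv.orderOf_eq e x).symm⟩
  · rintro ⟨k, hk⟩
    exact ⟨k, by rw [← hk]; exact MulEquiv.orderOf_eq e x⟩

theorem bijOn_pSet (e : G ≃* H) (p : ℕ) : Set.BijOn e (pSet p G) (pSet p H) := by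
  refine ⟨fun x hx => (mem_pSet_map e p x).2 hx, e.injective.injOn, fun x hx => ?_⟩
  refine ⟨e.symm x, ?_, e.apply_symm_apply x⟩
  rw [← mem_pSet_map e p, e.apply_symm_apply]
  exact hx

theorem finsum_pSet_comp (e : G ≃* H) (p : ℕ) (f : H → ℂ) :
    ∑ᶠ u ∈ pSet p G, f (e u) = ∑ᶠ u ∈ pSet p H, f u :=
  finsum_mem_eq_of_bijOn e (bijOn_pSet e p) fun _ _ => rfl

theorem ncard_pSet (e : G ≃* H) (p : ℕ) : (pSet p G).ncard = (pSet p H).ncard := by
  rw [← (bijOn_pSet e p).image_eq, Set.ncard_image_of_injective _ e.injective]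

/-- **Transport of `Kaw`.** -/
theorem Kaw.congr [Finite G] [Finite H] {p : ℕ} (e : G ≃* H) (h : Kaw p G) : Kaw p H := by
  refine ⟨fun χ hχ => ?_, ?_⟩
  · obtain ⟨m, c, hc, hs⟩ := h.sum (χ ∘ e) (Core.isIrr_comp e.toMonoidHom e.surjective hχ)
    refine ⟨m, c, hc, ?_⟩
    rw [← finsum_pSet_comp e p χ]
    have h1 : (χ ∘ e) 1 = χ 1 := by rw [Function.comp_apply, map_one]
    rw [← h1]
    exact hs
  · rw [← ncard_pSet e p, h.card, Nat.card_congr e.toEquiv]

/-- the values of the transported character -/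
theorem comp_data (e : G ≃* H) {χ : H → ℂ} (hχ : IsIrrCharacter H χ) (h0 : OneZero χ) {p m : ℕ} {c : ℤ}
    (hs : ∑ᶠ u ∈ pSet p H, χ u = (c : ℂ) * (p : ℂ) ^ m * χ 1) :
    IsIrrCharacter G (χ ∘ e) ∧ OneZero (χ ∘ e) ∧
      ∑ᶠ u ∈ pSet p G, (χ ∘ e) u = (c : ℂ) * (p : ℂ) ^ m * (χ ∘ e) 1 := by
  refine ⟨Core.isIrr_comp e.toMonoidHom e.surjective hχ, h0.comp e.symm, ?_⟩
  have h1 : (χ ∘ e) 1 = χ 1 := by rw [Function.comp_apply, map_one]
  rw [h1, ← hs]
  exact finsum_pSet_comp e p χ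

/-- **Transport of `Cong`.** -/
theorem Cong.congr {p r k : ℕ} (e : G ≃* H) (h : Cong p r k G) : Cong p r k H := by
  intro χ hχ h0 m c hc hs
  obtain ⟨h1, h2, h3⟩ := comp_data e hχ h0 hs
  exact h _ h1 h2 m c hc h3

/-- **Transport of `CongS`.** -/
theorem CongS.congr {p r : ℕ} {C : Set ℤ} (e : G ≃* H) (h : H477.OZ.CongS p r C G) : H477.OZ.CongS p r C H := by
  intro χ hχ h0 m c hc hs
  obtain ⟨h1, h2, h3⟩ := comp_data e hχ h0 hs
  exact h _ h1 h2 m c hc h3

/-- **Transport of `SpCong`.** -/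
theorem SpCong.congr {p n q : ℕ} (e : G ≃* H) (h : H477.OZ.SpCong p n q G) : H477.OZ.SpCong p n q H := by
  intro k r hk hn hr ho
  rw [← Nat.card_congr e.toEquiv]
  exact CongS.congr e (h k r hk hn hr ho)

end Cfsg.Agent.H845.OZ
end

-- part: H205/OZ/Fin
section
/-!
# S4842: the congruence for `Om (Q.prod Q')` (helper205)
-/

set_option autoImplicit false
set_option linter.unusedSectionVars false

namespace Cfsg.Agent.H205.OZ

open Module QuadraticMap Cfsg Cfsg.Agent.Characters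
open Cfsg.Agent.LieClassical.OrthCore Cfsg.Agent.H182.Sign Cfsg.Agent.H93.CJ Cfsg.Agent.H530.OZ
open Cfsg.Agent.H160.QSpin Cfsg.Agent.H160.QDisc Cfsg.Agent.H160.QSplit

variable {F L P : Type} [Field F] [Fintype F] [Field L] [Finite L] [Algebra F L] [AddCommGroup P] [Module F P] [Finite P]
  {Q : QuadraticForm F L} {Q' : QuadraticForm F P} {p m k r : ℕ} {u lam : L}

namespace Dat

variable (D : Dat p m k r Q Q' u lam)

include D

theorem cong_om [hfr : Fact r.Prime] {a : ℕ}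
    (hmem : ∀ v : Om (Q.prod Q'), Commute D.z v → ∀ j : ℕ, orderOf v = p ^ j → v ∈ D.inj.range)
    (hcount : Nat.card {v : Om (Q.prod Q') // Commute D.z v ∧ ∃ j : ℕ, orderOf v = p ^ j} = p ^ (2 * a * k ^ 2))
    (hlin : 1 ≤ k → ∀ (d : Om (Q.prod Q')) (β : L) (hβ : β ≠ 0) (s₁ : P ≃ₗ[F] P),
      (d : (L × P) ≃ₗ[F] (L × P)) = pr (mulL F β hβ) s₁ → El Q' (-1) s₁ → ∀ f : D.inj.range →* ℂˣ,
      (∀ (w : D.inj.range) (hw : d * w * d⁻¹ ∈ D.inj.range), f ⟨d * w * d⁻¹, hw⟩ = f w) → ∀ w, f w = 1)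
    (hsep : ∀ (R : Sylow r (Om (Q.prod Q'))), D.z ∈ (R : Subgroup (Om (Q.prod Q'))) →
      Subgroup.centralizer ({D.z} : Set (Om (Q.prod Q'))) ≤
        Subgroup.centralizer ((R : Subgroup (Om (Q.prod Q'))) : Set _) →
      (∀ (d : Om (Q.prod Q')) (β : L) (hβ : β ≠ 0) (s₁ : P ≃ₗ[F] P),
      (d : (L × P) ≃ₗ[F] (L × P)) = pr (mulL F β hβ) s₁ →
      ((∃ t ∈ Subgroup.centralizer ((R : Subgroup (Om (Q.prod Q'))) : Set _), ¬ r ∣ orderOf t ∧ t ∈ Dat.lo Q Q' ∧
        (∀ x ∈ D.inj.range, t * x = x * t) ∧ t * d = d * t ∧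
          ∀ c ∈ Subgroup.centralizer ((R : Subgroup (Om (Q.prod Q'))) : Set _),
          ∀ x ∈ Subgroup.centralizer ((R : Subgroup (Om (Q.prod Q'))) : Set _), c * x * c⁻¹ ≠ t * x) ∨
        ∃ y' ∈ (R : Subgroup (Om (Q.prod Q'))), Subgroup.centralizer ({y'} : Set (Om (Q.prod Q'))) ≤
          Subgroup.centralizer ((R : Subgroup (Om (Q.prod Q'))) : Set _) ∧ ¬ IsConj D.z y') ∧
      (Nat.card (Subgroup.centralizer ({D.z} : Set (Om (Q.prod Q')))) ≠ r ∨
        ∃ i : ℕ, ¬ r ∣ i ∧ ¬ IsConj D.z (D.z ^ i)))) :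
    H730.OZ.Cong p r (2 * a * k ^ 2) (Om (Q.prod Q')) := by
  have := finite_om (Q.prod Q')
  obtain ⟨R, hcyc, hzR, hC, hord⟩ := D.exists_sylow
  have hab : (R : Subgroup (Om (Q.prod Q'))) ≤ Subgroup.centralizer ((R : Subgroup (Om (Q.prod Q'))) : Set _) := by
    intro x hx
    rw [Subgroup.mem_centralizer_iff]
    intro y hy
    have : IsMulCommutative (R : Subgroup (Om (Q.prod Q'))) := IsCyclic.isMulCommutative
    have h3 := mul_comm' (⟨y, hy⟩ : (R : Subgroup (Om (Q.prod Q')))) ⟨x, hx⟩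
    exact congrArg Subtype.val h3
  have hCR : ∀ {l : Om (Q.prod Q')}, l ∈ Subgroup.centralizer ((R : Subgroup (Om (Q.prod Q'))) : Set _) →
      Commute D.z l := fun {l} hl => Subgroup.mem_centralizer_iff.1 hl _ hzR
  have hRC : ∀ {l : Om (Q.prod Q')}, Commute D.z l →
      l ∈ Subgroup.centralizer ((R : Subgroup (Om (Q.prod Q'))) : Set _) := fun {l} hl =>
    hC (Subgroup.mem_centralizer_singleton_iff.2 hl.eq.symm)
  have h4 : (Nat.card (Subgroup.centralizer ({D.z} : Set (Om (Q.prod Q')))) ≠ r ∨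
      ∃ i : ℕ, ¬ r ∣ i ∧ ¬ IsConj D.z (D.z ^ i)) := by
    refine (hsep R hzR hC 1 1 one_ne_zero 1 ?_).2
    rw [mulL_one]
    rfl
  refine cong_two D.pp D.r_ne_p R hcyc D.order_z hzR hC ?_ h4 hcount
  rintro χ hO v hv ⟨j, hj⟩
  rcases Nat.eq_zero_or_pos k with hk | hk
  · have h1 : Nat.card {v : Om (Q.prod Q') // Commute D.z v ∧ ∃ j : ℕ, orderOf v = p ^ j} = 1 := by
      rw [hcount, hk]
      simp
    obtain ⟨h2, -⟩ := Nat.card_eq_one_iff_unique.1 h1
    have h3 : (⟨v, hv, j, hj⟩ : {v : Om (Q.prod Q') // Commute D.z v ∧ ∃ j : ℕ, orderOf v = p ^ j}) =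
        ⟨1, Commute.one_right _, 0, by rw [orderOf_one, pow_zero]⟩ := Subsingleton.elim _ _
    have h5 : v = 1 := congrArg Subtype.val h3
    rw [h5, mul_one]
  · obtain ⟨s₀, hs₀⟩ := Cfsg.Agent.H845.OZ.exists_neg D.two D.nd hk D.dimP
    obtain ⟨d, β, hβ, s₁, hd, hs₁, hdr⟩ := D.exists_d hs₀
    have hNR : ∀ n : Om (Q.prod Q'), n ∈ Subgroup.normalizer ((R : Subgroup (Om (Q.prod Q'))) : Set _) →
        ∃ (t : L ≃ₗ[F] L) (s : P ≃ₗ[F] P), (n : (L × P) ≃ₗ[F] (L × P)) = pr t s ∧ t ∈ O Q ∧ s ∈ O Q' :=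
      fun n hn => D.norm_blk_of_mem R hzR hcyc hord hn
    refine const_two R hab hzR hC D.inj.range (fun w hw => hRC (D.comm_K hw)) D.not_dvd_K (lo Q Q') D.h0
      (d := d) (hRC (D.comm_of_blk hd)) hdr (D.hdL hd hs₁) ?_ (fun l hl => D.hL hd hs₁ (hCR hl)) ?_
      (hlin hk d β hβ s₁ hd hs₁) (hsep R hzR hC d β hβ s₁ hd).1 χ hO v (hmem v hv j hj)
    · intro n hn
      obtain ⟨t, s, hts, -, hs⟩ := hNR n hn
      exact D.hdK hd hs₁ hts hs
    · intro n hn w hw
      obtain ⟨t, s, hts, -, hs⟩ := hNR n hn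
      exact D.hKN hts hs hw

end Dat

end Cfsg.Agent.H205.OZ
end

-- part: H845/OZ/OmSep
section
/-!
# S4842, `Ω_{2n+1}(q)`: separation of classes (helper845)

`sep` : in the situation `Dat p m k r Q Q' u lam` with `2 (2 m + 2 k + 2) < q ^ m + 1` there is a separating element of
the torus or a second class of elements of the Sylow subgroup `R`.
-/

set_option autoImplicit false
set_option linter.unusedSectionVars false

namespace Cfsg.Agent.H845.OZ

open Module QuadraticMap Cfsg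
open Cfsg.Agent.LieClassical.OrthCore Cfsg.Agent.H182.Sign Cfsg.Agent.H93.CJ Cfsg.Agent.H530.OZ
open Cfsg.Agent.H160.QSpin Cfsg.Agent.H160.QDisc Cfsg.Agent.H160.QSplit Cfsg.Agent.H205.OZ

/-- an `r`-element centralising a Sylow `r`-subgroup lies in it -/
theorem mem_of_comm {G : Type*} [Group G] {r : ℕ} [Fact r.Prime] (R : Sylow r G) {x : G}
    (hx : x ∈ Subgroup.centralizer ((R : Subgroup G) : Set G)) {j : ℕ} (ho : orderOf x = r ^ j) : x ∈ (R : Subgroup G) := by
  have h1 : IsPGroup r (Subgroup.zpowers x) := by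
    rw [IsPGroup.iff_orderOf]
    rintro ⟨g, hg⟩
    rw [Subgroup.orderOf_mk]
    have h2 : orderOf g ∣ r ^ j := by
      rw [← ho]
      exact orderOf_dvd_of_mem_zpowers hg
    obtain ⟨i, -, hi⟩ := (Nat.dvd_prime_pow Fact.out).1 h2
    exact ⟨i, hi⟩
  have h2 : Subgroup.zpowers x ≤ Subgroup.normalizer (((R : Subgroup G)) : Set G) := by
    rw [Subgroup.zpowers_le]
    exact Subgroup.centralizer_le_normalizer _ hx
  have h3 : IsPGroup r ((R : Subgroup G) ⊔ Subgroup.zpowers x : Subgroup G) :=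
    IsPGroup.to_sup_of_normal_left' R.isPGroup' h1 h2
  have h4 := R.is_maximal' h3 le_sup_left
  rw [← h4]
  exact le_sup_right (a := (R : Subgroup G)) (Subgroup.mem_zpowers x)

variable {F L P : Type} [Field F] [Fintype F] [Field L] [Finite L] [Algebra F L] [AddCommGroup P] [Module F P] [Finite P]
  {Q : QuadraticForm F L} {Q' : QuadraticForm F P} {p m k r : ℕ} {u lam : L}

variable (D : Dat p m k r Q Q' u lam)

include D

theorem two_dvd_order : ∃ h : ℕ, Fintype.card F ^ m + 1 = 2 * h := by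
  obtain ⟨j, hj⟩ := (D.odd_q.pow : Odd (Fintype.card F ^ m))
  exact ⟨j + 1, by omega⟩

/-- the element `x₀`, of order `h = (q ^ m + 1) / 2` -/
theorem exists_x0 {h : ℕ} (hh : Fintype.card F ^ m + 1 = 2 * h) : ∃ (x₀ : Om (Q.prod Q')) (α : L) (hα : α ≠ 0),
    (x₀ : (L × P) ≃ₗ[F] (L × P)) = pr (mulL F α hα) 1 ∧ orderOf α = h ∧ orderOf x₀ = h ∧
      ∃ j : ℕ, D.z = x₀ ^ j := by
  have hu2 : u ^ 2 ≠ 0 := pow_ne_zero _ D.u0
  have h1 : El Q 1 (mulL F (u ^ 2) hu2) := by
    have h2 := (el_u D.two D.hm D.sg D.u0 D.hu D.huQ).pow 2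
    have h3 : (mulL F u D.u0) ^ 2 = mulL F (u ^ 2) hu2 := LinearEquiv.ext fun v => mulL_pow D.u0 2 v
    rw [h3] at h2
    simpa only [_root_.even_two, _root_.Even.neg_pow, _root_.one_pow] using h2
  have h4 : El (Q.prod Q') 1 (pr (mulL F (u ^ 2) hu2) (1 : P ≃ₗ[F] P)) := by
    have := D.el_pr h1 (El.one Q')
    rwa [mul_one] at this
  have h0 : 0 < h := by omega
  have ho : orderOf (u ^ 2) = h := by
    rw [orderOf_pow_of_dvd two_ne_zero (by rw [D.hu, hh]; exact dvd_mul_right 2 h), D.hu, hh,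
      Nat.mul_div_cancel_left _ two_pos]
  have hpow : ∀ n : ℕ, (((⟨_, h4⟩ : Om (Q.prod Q')) ^ n : Om (Q.prod Q')) : (L × P) ≃ₗ[F] (L × P)) =
      pr (mulL F ((u ^ 2) ^ n) (pow_ne_zero _ hu2)) 1 := by
    intro n
    rw [Subgroup.coe_pow]
    change pr (mulL F (u ^ 2) hu2) (1 : P ≃ₗ[F] P) ^ n = _
    rw [pr_pow, one_pow]
    congr 1
    exact LinearEquiv.ext fun v => mulL_pow hu2 n v
  refine ⟨⟨_, h4⟩, u ^ 2, hu2, rfl, ho, ?_, ?_⟩
  · rw [← ho]
    rw [orderOf_eq_orderOf_iff]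
    intro n
    constructor
    · intro h5
      have h6 := hpow n
      rw [h5] at h6
      have h7 := congrArg Prod.fst (LinearEquiv.congr_fun h6 ((1 : L), (0 : P)))
      change (1 : L) = (u ^ 2) ^ n * 1 at h7
      rw [mul_one] at h7
      exact h7.symm
    · intro h5
      apply Subtype.ext
      rw [hpow n]
      refine LinearEquiv.ext fun v => ?_
      change ((u ^ 2) ^ n * v.1, v.2) = v
      rw [h5, one_mul]
  · obtain ⟨s, hs⟩ := D.hlam
    obtain ⟨i, hi⟩ := D.r_odd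
    refine ⟨s * (i + 1), ?_⟩
    apply Subtype.ext
    rw [hpow, D.coe_z]
    have h5 : lam = (u ^ 2) ^ (s * (i + 1)) := by
      have h6 : lam ^ r = 1 := by rw [← D.hlo, pow_orderOf_eq_one]
      calc lam = lam ^ r * lam := by rw [h6, one_mul]
        _ = lam ^ (2 * (i + 1)) := by rw [← pow_succ, hi]; ring_nf
        _ = (u ^ 2) ^ (s * (i + 1)) := by
          rw [hs, ← pow_mul, ← pow_mul]
          ring_nf
    congr 1
    exact Dat.mulL_congr _ _ h5

/-- not all powers of `z` prime to `r` are conjugate to `z` -/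
theorem exists_not_conj (hr : 2 * m + 2 * k + 2 < r) : ∃ i : ℕ, ¬ r ∣ i ∧ ¬ IsConj D.z (D.z ^ i) := by
  have : Module.Finite F L := Module.Finite.of_finite
  have : Module.Finite F P := Module.Finite.of_finite
  by_contra hcon
  push Not at hcon
  have hdim : finrank F (L × P) = 2 * m + 2 * k + 1 := by
    rw [finrank_prod, D.sg.dim, D.dimP]
    ring
  have key : r ≤ finrank F (L × P) + 1 := by
    refine le_of_roots (L := L) ((D.z : (L × P) ≃ₗ[F] (L × P)).toLinearMap) D.hlo ?_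
    intro i hi0 hi
    have hri : ¬ r ∣ i := fun h => absurd (Nat.le_of_dvd hi0 h) (not_le.2 hi)
    obtain ⟨g, hg⟩ := isConj_iff.1 (hcon i hri)
    have hg' : (g : (L × P) ≃ₗ[F] (L × P)) * (D.z : (L × P) ≃ₗ[F] (L × P)) * (g : (L × P) ≃ₗ[F] (L × P))⁻¹ =
        (D.z : (L × P) ≃ₗ[F] (L × P)) ^ i := congrArg Subtype.val hg
    have h3 : ((D.z : (L × P) ≃ₗ[F] (L × P)) ^ i).toLinearMap.charpoly =
        (D.z : (L × P) ≃ₗ[F] (L × P)).toLinearMap.charpoly := by
      rw [← hg']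
      exact LinearEquiv.charpoly_conj (g : (L × P) ≃ₗ[F] (L × P)) (D.z : (L × P) ≃ₗ[F] (L × P)).toLinearMap
    rw [← h3]
    refine root_charpoly _ (lam ^ i) (LinearMap.inl F L P) LinearMap.inl_injective ?_
    intro l
    have h4 : ((D.z : (L × P) ≃ₗ[F] (L × P)) ^ i) = pr (mulL F lam D.lam0 ^ i) 1 := by
      rw [← D.z_pow, Subgroup.coe_pow]
    change ((D.z : (L × P) ≃ₗ[F] (L × P)) ^ i) (l, 0) = (lam ^ i * l, 0)
    rw [h4]
    change ((mulL F lam D.lam0 ^ i) l, (0 : P)) = _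
    rw [mulL_pow]
  omega

theorem sep [Fact r.Prime] (R : Sylow r (Om (Q.prod Q'))) (hzR : D.z ∈ (R : Subgroup (Om (Q.prod Q'))))
    (hC : Subgroup.centralizer ({D.z} : Set (Om (Q.prod Q'))) ≤
      Subgroup.centralizer ((R : Subgroup (Om (Q.prod Q'))) : Set _))
    (hbig : 2 * (2 * m + 2 * k + 2) < Fintype.card F ^ m + 1) {d : Om (Q.prod Q')} {β : L} {hβ : β ≠ 0}
    {s₁ : P ≃ₗ[F] P} (hd : (d : (L × P) ≃ₗ[F] (L × P)) = pr (mulL F β hβ) s₁) :
    ((∃ t ∈ Subgroup.centralizer ((R : Subgroup (Om (Q.prod Q'))) : Set _), ¬ r ∣ orderOf t ∧ t ∈ Dat.lo Q Q' ∧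
        (∀ x ∈ D.inj.range, t * x = x * t) ∧ t * d = d * t ∧
        ∀ c ∈ Subgroup.centralizer ((R : Subgroup (Om (Q.prod Q'))) : Set _),
          ∀ x ∈ Subgroup.centralizer ((R : Subgroup (Om (Q.prod Q'))) : Set _), c * x * c⁻¹ ≠ t * x) ∨
      ∃ y' ∈ (R : Subgroup (Om (Q.prod Q'))), Subgroup.centralizer ({y'} : Set (Om (Q.prod Q'))) ≤
        Subgroup.centralizer ((R : Subgroup (Om (Q.prod Q'))) : Set _) ∧ ¬ IsConj D.z y') ∧
    (Nat.card (Subgroup.centralizer ({D.z} : Set (Om (Q.prod Q')))) ≠ r ∨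
      ∃ i : ℕ, ¬ r ∣ i ∧ ¬ IsConj D.z (D.z ^ i)) := by
  have hfin := finite_om (Q.prod Q')
  have hr : r.Prime := D.hr
  obtain ⟨h, hh⟩ := two_dvd_order D
  obtain ⟨x₀, α, hα, hx0, hαo, hx0o, j, hj⟩ := exists_x0 D hh
  have h0 : 0 < h := by omega
  have hcz : ∀ {x : Om (Q.prod Q')}, x ∈ Subgroup.centralizer ({D.z} : Set (Om (Q.prod Q'))) ↔ Commute D.z x := by
    intro x
    rw [Subgroup.mem_centralizer_singleton_iff]
    exact ⟨fun h => h.symm, fun h => h.symm⟩
  have hCz : ∀ {x : Om (Q.prod Q')}, x ∈ Subgroup.centralizer ((R : Subgroup (Om (Q.prod Q'))) : Set _) →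
      x ∈ Subgroup.centralizer ({D.z} : Set (Om (Q.prod Q'))) := by
    intro x hx
    rw [hcz]
    exact Subgroup.mem_centralizer_iff.1 hx _ hzR
  have hx0z : x₀ ∈ Subgroup.centralizer ({D.z} : Set (Om (Q.prod Q'))) := hcz.2 (D.comm_of_blk hx0)
  have hrh : r ∣ h := by
    have h1 := D.r_dvd
    rw [hh] at h1
    exact ((Nat.coprime_primes hr Nat.prime_two).2 D.r_ne_two).dvd_of_dvd_mul_left h1
  have hpow : ∀ n : ℕ, ((x₀ ^ n : Om (Q.prod Q')) : (L × P) ≃ₗ[F] (L × P)) =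
      pr (mulL F (α ^ n) (pow_ne_zero _ hα)) 1 := by
    intro n
    rw [Subgroup.coe_pow, hx0, pr_pow, one_pow]
    congr 1
    exact LinearEquiv.ext fun v => mulL_pow hα n v
  by_cases hA : ∃ l : ℕ, l.Prime ∧ l ≠ r ∧ l ∣ h
  · -- (A)
    obtain ⟨l, hl, hlr, hlh⟩ := hA
    obtain ⟨c, hc⟩ := hlh
    have hc0 : 0 < c := by
      rcases Nat.eq_zero_or_pos c with rfl | hc0
      · omega
      · exact hc0
    have hto : orderOf (x₀ ^ c) = l := by
      rw [orderOf_pow_of_dvd hc0.ne' (by rw [hx0o, hc]; exact dvd_mul_left c l), hx0o, hc, Nat.mul_div_cancel _ hc0]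
    have htz : x₀ ^ c ∈ Subgroup.centralizer ({D.z} : Set (Om (Q.prod Q'))) := Subgroup.pow_mem _ hx0z c
    have hα1 : α ^ c ≠ 1 := by
      intro h1
      have h2 := Nat.le_of_dvd hc0 (orderOf_dvd_of_pow_eq_one h1)
      rw [hαo, hc] at h2
      have h3 := hl.two_le
      nlinarith only [hbig, hh, hc, h2, h3]
    refine ⟨Or.inl ⟨x₀ ^ c, hC htz, ?_, ?_, ?_, ?_, ?_⟩, Or.inl ?_⟩
    · rw [hto]
      intro h1
      exact hlr ((Nat.prime_dvd_prime_iff_eq hr hl).1 h1).symm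
    · exact ⟨_, 1, El.one Q', hpow c⟩
    · intro x hx
      obtain ⟨s, -, hs⟩ := D.mem_K.1 hx
      apply Subtype.ext
      rw [Subgroup.coe_mul, Subgroup.coe_mul, hpow, hs, ← pr_mul, ← pr_mul, one_mul, mul_one, one_mul, mul_one]
    · apply Subtype.ext
      rw [Subgroup.coe_mul, Subgroup.coe_mul, hpow, hd, ← pr_mul, ← pr_mul, one_mul, mul_one, Dat.mulL_comm]
    · intro c' hc' x hx heq
      let C : Subgroup.centralizer ({D.z} : Set (Om (Q.prod Q'))) := ⟨c', hCz hc'⟩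
      let X : Subgroup.centralizer ({D.z} : Set (Om (Q.prod Q'))) := ⟨x, hCz hx⟩
      let T : Subgroup.centralizer ({D.z} : Set (Om (Q.prod Q'))) := ⟨x₀ ^ c, htz⟩
      have h1 : C * X * C⁻¹ = T * X := Subtype.ext heq
      have h2 := congrArg D.hom h1
      rw [map_mul, map_mul, map_mul, map_inv, mul_comm (D.hom C), mul_inv_cancel_right] at h2
      have h3 : D.hom T = 1 := by
        have h4 : 1 * D.hom X = D.hom T * D.hom X := by rw [one_mul]; exact h2
        exact (mul_right_cancel h4).symm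
      have h5 : (D.hom T : L) = α ^ c := D.hom_of_blk (hpow c)
      rw [h3, Units.val_one] at h5
      exact hα1 h5.symm
    · intro h1
      have h2 : orderOf (⟨x₀ ^ c, htz⟩ : Subgroup.centralizer ({D.z} : Set (Om (Q.prod Q')))) ∣
          Nat.card (Subgroup.centralizer ({D.z} : Set (Om (Q.prod Q')))) := orderOf_dvd_natCard _
      rw [Subgroup.orderOf_mk, hto, h1] at h2
      exact hlr ((Nat.prime_dvd_prime_iff_eq hl hr).1 h2)
  · -- `h` is a power of `r`
    obtain ⟨e, he⟩ : ∃ e, h = r ^ e := by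
      refine ⟨_, Nat.eq_prime_pow_of_unique_prime_dvd h0.ne' (fun {d} hd1 hd2 => ?_)⟩
      by_contra h1
      exact hA ⟨d, hd1, h1, hd2⟩
    have he1 : 1 ≤ e := by
      by_contra h1
      have h2 : e = 0 := by omega
      rw [h2, pow_zero] at he
      omega
    by_cases he2 : 2 ≤ e
    · -- (B)
      have hlt : r < r ^ e := by
        calc r = r ^ 1 := (pow_one r).symm
          _ < r ^ e := Nat.pow_lt_pow_right hr.one_lt (by omega)
      refine ⟨Or.inr ⟨x₀, mem_of_comm R (hC hx0z) (j := e) (by rw [hx0o, he]), ?_, ?_⟩, Or.inl ?_⟩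
      · refine le_trans ?_ hC
        intro x hx
        rw [Subgroup.mem_centralizer_singleton_iff] at hx
        rw [hcz, hj]
        exact (show Commute x₀ x from hx.symm).pow_left j
      · intro hconj
        obtain ⟨g, hg⟩ := isConj_iff.1 hconj
        have h1 : orderOf x₀ = r := by
          rw [← hg]
          exact (MulEquiv.orderOf_eq (MulAut.conj g) D.z).trans D.order_z
        rw [hx0o, he] at h1
        omega
      · intro h1
        have h2 : orderOf (⟨x₀, hx0z⟩ : Subgroup.centralizer ({D.z} : Set (Om (Q.prod Q')))) ∣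
            Nat.card (Subgroup.centralizer ({D.z} : Set (Om (Q.prod Q')))) := orderOf_dvd_natCard _
        rw [Subgroup.orderOf_mk, hx0o, h1, he] at h2
        have := Nat.le_of_dvd hr.pos h2
        omega
    · -- (C)
      have he' : e = 1 := by omega
      rw [he', pow_one] at he
      obtain ⟨i, hi, hni⟩ := exists_not_conj D (by omega)
      refine ⟨Or.inr ⟨D.z ^ i, Subgroup.pow_mem _ hzR i, ?_, hni⟩, Or.inr ⟨i, hi, hni⟩⟩
      refine le_trans ?_ hC
      intro x hx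
      rw [Subgroup.mem_centralizer_singleton_iff] at hx
      rw [hcz]
      have hcop : Nat.Coprime i (orderOf D.z) := by
        rw [D.order_z]
        exact ((Nat.Prime.coprime_iff_not_dvd hr).2 hi).symm
      obtain ⟨n, hn⟩ := exists_pow_eq_self_of_coprime hcop
      rw [← hn]
      exact (show Commute (D.z ^ i) x from hx.symm).pow_left n

end Cfsg.Agent.H845.OZ
end

-- part: H477/OZ/OmRow
section
/-!
# `Omega_{2n+1}(q)`, `q` odd, `n ≥ 5`: the row from the congruences (S4842, helper477)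
-/

set_option autoImplicit false

open Cfsg Cfsg.Agent.H730.OZ

namespace Cfsg.Agent.H477.OZ

universe u

/-- **The row `Omega_{2n+1}(q)`, `n ≥ 5`, from its congruences** for `k = 0, 1, 2`. -/
theorem row_of_cong {S : Type u} [Group S] [Finite S] (hs : IsSimpleGroup S) {F : Type} [Field F] [Fintype F] {n : ℕ}
    (hn : 5 ≤ n) (ho : Odd (Fintype.card F)) (e : S ≃* POmega F (quadFormOdd n F))
    (hc : ∀ k r p a : ℕ, k ≤ 2 → p.Prime → r.Prime → 0 < a → Fintype.card F = p ^ a →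
      orderOf ((p : ℕ) : ZMod r) = a * (2 * (n - k)) → orderOf ((p ^ a : ℕ) : ZMod r) = 2 * (n - k) →
      H730.OZ.Cong p r (2 * a * k ^ 2) S) : H730.OZ.Row S := by
  obtain ⟨p, hch⟩ := CharP.exists F
  obtain ⟨hp, a, ha, hq⟩ := H366.OZ.exists_pow F p
  refine fun χ hχ hz => absurd hz (none_of_cong hs hp (H366.OZ.fact_oodd e ho (by omega) hp ha hq) (by positivity)
    (H366.OZ.kaw_oodd e ho (by omega)) (H366.OZ.not_dvd_oodd e ho (by omega) hp ha hq) ?_ hχ)
  intro m ε hε hm0 hm hC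
  refine Cfsg.Agent.H167.OZ.om_false hp ha hn ?_ hm0 hm hε fun k r hk hr hD hD' =>
    hC r _ (hc k r p a hk hp hr ha hq hD hD')
  rintro ⟨h1, -⟩
  rw [← hq] at h1
  rw [h1] at ho
  exact absurd ho (by decide)

end Cfsg.Agent.H477.OZ
end

-- part: H477/OZ/OmCount
section
/-!
# The `p`-elements of the centralizer of a torus element of `Om (Q.prod Q')` (S4842, helper477)
-/

set_option autoImplicit false
set_option linter.unusedSectionVars false

namespace Cfsg.Agent.H477.OZ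

open Module QuadraticMap Cfsg
open Cfsg.Agent.LieClassical.OrthCore Cfsg.Agent.H182.Sign Cfsg.Agent.H93.CJ Cfsg.Agent.H530.OZ
open Cfsg.Agent.H160.QSpin Cfsg.Agent.H160.QDisc Cfsg.Agent.H160.QSplit
open Cfsg.Agent.H205.OZ

variable {F L P : Type} [Field F] [Fintype F] [Field L] [Finite L] [Algebra F L] [AddCommGroup P] [Module F P] [Finite P]
  {Q : QuadraticForm F L} {Q' : QuadraticForm F P} {p m k r : ℕ} {u lam : L}

variable (D : Dat p m k r Q Q' u lam)

include D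

theorem mem_K_of_p {v : Om (Q.prod Q')} (hv : Commute D.z v) {j : ℕ} (ho : orderOf v = p ^ j) : v ∈ D.inj.range := by
  have hpf : Fact p.Prime := ⟨D.pp⟩
  have hch := D.ch
  have hchL : CharP L p := charP_of_injective_algebraMap (algebraMap F L).injective p
  obtain ⟨α, hα, s, ε, h1, h2, h3⟩ := D.exists_blk hv
  have h4 : v ^ p ^ j = 1 := by rw [← ho, pow_orderOf_eq_one]
  have h5 : (pr (mulL F α hα) s) ^ p ^ j = 1 := by
    rw [← h1]
    exact congrArg Subtype.val h4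
  rw [pr_pow] at h5
  have h6 : (mulL F α hα) ^ p ^ j = 1 := (Dat.pr_inj (h5.trans pr_one.symm)).1
  have h7 : α ^ p ^ j = 1 := by
    have h8 := LinearEquiv.congr_fun h6 (1 : L)
    rw [mulL_pow] at h8
    rwa [mul_one] at h8
  have h9 : α = 1 := by
    have h10 := sub_pow_char_pow (R := L) (p := p) (n := j) α 1
    rw [h7, one_pow, sub_self] at h10
    exact sub_eq_zero.1 (pow_eq_zero_iff (pow_ne_zero _ D.pp.ne_zero) |>.1 h10)
  subst h9
  rw [Dat.mulL_one] at h1 h2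
  have h11 : ε = 1 := el_unique h2 (El.one Q)
  subst h11
  exact D.mem_K.2 ⟨s, h3, h1⟩

omit D [Finite P] [Fintype F] in
theorem eq_one_of_dim_one (hd : finrank F P = 1) {s : P ≃ₗ[F] P} (hs : LinearEquiv.det s = 1) : s = 1 := by
  obtain ⟨v, hv, hall⟩ := finrank_eq_one_iff'.1 hd
  obtain ⟨c, hc⟩ := hall (s v)
  have h1 : (s : P →ₗ[F] P) = c • LinearMap.id := by
    refine LinearMap.ext fun w => ?_
    obtain ⟨d, rfl⟩ := hall w
    show s (d • v) = c • (d • v)
    rw [map_smul, ← hc, smul_comm]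
  have h2 : LinearMap.det (s : P →ₗ[F] P) = 1 := by
    rw [← LinearEquiv.coe_det, hs, Units.val_one]
  rw [h1, LinearMap.det_smul, hd, pow_one, LinearMap.det_id, mul_one] at h2
  refine LinearEquiv.ext fun w => ?_
  have h3 : s w = (s : P →ₗ[F] P) w := rfl
  rw [h3, h1, h2, one_smul]
  rfl

theorem count {a : ℕ} (ha : 0 < a) (hF : Fintype.card F = p ^ a) :
    Nat.card {v : Om (Q.prod Q') // Commute D.z v ∧ ∃ j : ℕ, orderOf v = p ^ j} = p ^ (2 * a * k ^ 2) := by
  have hp2 : p ≠ 2 := by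
    rintro rfl
    have := D.odd_q
    rw [hF, Nat.odd_pow_iff ha.ne'] at this
    exact absurd this (by decide)
  have hset : {v : Om (Q.prod Q') | Commute D.z v ∧ ∃ j : ℕ, orderOf v = p ^ j} =
      D.inj '' (H730.OZ.pSet p (Om Q')) := by
    ext v
    constructor
    · rintro ⟨hv, j, hj⟩
      obtain ⟨s, rfl⟩ := mem_K_of_p D hv hj
      refine ⟨s, ⟨j, ?_⟩, rfl⟩
      rw [← hj]
      exact (orderOf_injective D.inj D.inj_injective s).symm
    · rintro ⟨s, ⟨j, hj⟩, rfl⟩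
      refine ⟨D.comm_of_blk (α := 1) (hα := one_ne_zero) (s := s) ?_, j, ?_⟩
      · rw [Dat.mulL_one, D.coe_inj]
      · rw [← hj]
        exact orderOf_injective D.inj D.inj_injective s
  have h1 : Nat.card {v : Om (Q.prod Q') // Commute D.z v ∧ ∃ j : ℕ, orderOf v = p ^ j} =
      ({v : Om (Q.prod Q') | Commute D.z v ∧ ∃ j : ℕ, orderOf v = p ^ j}).ncard := Nat.card_coe_set_eq _
  rw [h1, hset, Set.ncard_image_of_injective _ D.inj_injective]
  rcases Nat.eq_zero_or_pos k with hk | hk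
  · have hd : finrank F P = 1 := by rw [D.dimP, hk]
    have h2 : H730.OZ.pSet p (Om Q') = {1} := by
      ext s
      rw [Set.mem_singleton_iff]
      have hs1 : s = 1 := Subtype.ext (eq_one_of_dim_one hd s.2.2.1)
      exact ⟨fun _ => hs1, fun _ => ⟨0, by rw [hs1, orderOf_one, pow_zero]⟩⟩
    rw [h2, Set.ncard_singleton, hk]
    norm_num
  · exact card_unip D.pp ha hF hp2 hk D.nd D.dimP

end Cfsg.Agent.H477.OZ
end

-- part: H530/OZ/OmLinK
section
/-!
# S4842, `Ω_{2n+1}`: linear characters of `K` invariant under `d` (helper530)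
-/

set_option autoImplicit false
set_option linter.unusedSectionVars false

namespace Cfsg.Agent.H530.OZ.OmK

open Module QuadraticMap Cfsg
open Cfsg.Agent.LieClassical.OrthCore Cfsg.Agent.H182.Sign Cfsg.Agent.H93.CJ Cfsg.Agent.H530.OZ
open Cfsg.Agent.H160.QSpin Cfsg.Agent.H160.QDisc Cfsg.Agent.H160.QSplit Cfsg.Agent.H205.OZ

variable {F L P : Type} [Field F] [Fintype F] [Field L] [Finite L] [Algebra F L] [AddCommGroup P] [Module F P] [Finite P]
  {Q : QuadraticForm F L} {Q' : QuadraticForm F P} {p m k r : ℕ} {u lam : L}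

theorem hlin (D : Dat p m k r Q Q' u lam) (hk : 1 ≤ k) {d : Om (Q.prod Q')} {β : L} {hβ : β ≠ 0} {s₁ : P ≃ₗ[F] P}
    (hd : (d : (L × P) ≃ₗ[F] (L × P)) = pr (mulL F β hβ) s₁) (hs₁ : El Q' (-1) s₁) :
    ∀ f : D.inj.range →* ℂˣ, (∀ (w : D.inj.range) (hw : d * w * d⁻¹ ∈ D.inj.range), f ⟨d * w * d⁻¹, hw⟩ = f w) →
      ∀ w, f w = 1 := by
  intro f hf
  have h1 := H845.OZ.lin_trivial D.two D.nd hk D.dimP hs₁ (f.comp D.inj.rangeRestrict) (by
    intro g h
    have h' : s₁ * (g : P ≃ₗ[F] P) * s₁⁻¹ ∈ Om Q' := h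
    have h2 : (d * (D.inj.rangeRestrict g : Om (Q.prod Q')) * d⁻¹) = D.inj ⟨s₁ * (g : P ≃ₗ[F] P) * s₁⁻¹, h'⟩ := by
      apply Subtype.ext
      exact D.conj_K hd (x := (D.inj.rangeRestrict g : Om (Q.prod Q'))) (D.coe_inj g)
    have h3 : d * (D.inj.rangeRestrict g : Om (Q.prod Q')) * d⁻¹ ∈ D.inj.range := by
      rw [h2]
      exact ⟨_, rfl⟩
    have h4 := hf (D.inj.rangeRestrict g) h3
    show f (D.inj.rangeRestrict ⟨s₁ * (g : P ≃ₗ[F] P) * s₁⁻¹, h'⟩) = f (D.inj.rangeRestrict g)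
    rw [← h4]
    congr 1
    exact Subtype.ext h2.symm)
  intro w
  obtain ⟨g, hg⟩ := D.inj.rangeRestrict_surjective w
  rw [← hg]
  exact DFunLike.congr_fun h1 g

end Cfsg.Agent.H530.OZ.OmK
end

-- part: H205/OZ/Row
section
/-!
# S4842: the row `Ω_{2n+1}(q)`, `q` odd, `n ≥ 5` (helper205; pieces by helper477, helper530, helper845)
-/

set_option autoImplicit false
set_option linter.unusedSectionVars false

namespace Cfsg.Agent.H205.OZ

open Module QuadraticMap Cfsg Cfsg.Agent.Characters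
open Cfsg.Agent.LieClassical.OrthCore Cfsg.Agent.LieClassical.OrthForms Cfsg.Agent.H182.Sign Cfsg.Agent.H93.CJ
open Cfsg.Agent.H530.OZ
open Cfsg.Agent.H160.QSpin Cfsg.Agent.H160.QDisc Cfsg.Agent.H160.QSplit

universe v

theorem num_big {q m k : ℕ} (hq : 3 ≤ q) (hm : 3 ≤ m) (hk : k ≤ 2) : 2 * (2 * m + 2 * k + 2) < q ^ m + 1 := by
  have h1 : 3 ^ m ≤ q ^ m := Nat.pow_le_pow_left hq m
  have h2 : 4 * m + 15 ≤ 3 ^ m := by
    induction m, hm using Nat.le_induction with
    | base => norm_num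
    | succ m hm ih =>
      have := ih (Nat.pow_le_pow_left hq m)
      rw [pow_succ]
      omega
  omega

/-- **The congruences of `Ω_{2n+1}(q)`**, all `n`. -/
theorem cong_odd_gen {S : Type v} [Group S] {F : Type} [Field F] [Fintype F] {n : ℕ}
    (ho : Odd (Fintype.card F)) (e : S ≃* POmega F (quadFormOdd n F)) {k r p a : ℕ} (hm : 1 ≤ n - k)
    (hkm : k < n - k) (hbig : 2 * (2 * (n - k) + 2 * k + 2) < Fintype.card F ^ (n - k) + 1) (hp : p.Prime) (hr : r.Prime) (ha : 0 < a) (hF : Fintype.card F = p ^ a)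
    (hord : orderOf ((p ^ a : ℕ) : ZMod r) = 2 * (n - k)) : H730.OZ.Cong p r (2 * a * k ^ 2) S := by
  classical
  have hfr : Fact r.Prime := ⟨hr⟩
  have hfp : Fact p.Prime := ⟨hp⟩
  set m := n - k with hmd
  have h2 : (2 : F) ≠ 0 := two_ne_of_odd rfl ho
  have hch : CharP F p := by
    refine (CharP.charP_iff_prime_eq_zero hp).2 ?_
    have h3 : ((Fintype.card F : ℕ) : F) = 0 := FiniteField.cast_card_eq_zero F
    rw [hF, Nat.cast_pow] at h3
    exact pow_eq_zero_iff ha.ne' |>.1 h3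
  rw [← hF] at hord
  set q := Fintype.card F with hq
  have hq2 : 2 ≤ q := Fintype.one_lt_card
  -- arithmetic
  have hne : ∀ i, 0 < i → i < 2 * m → ((q : ℕ) : ZMod r) ^ i ≠ 1 := by
    intro i hi hi2 h
    have h3 := Nat.le_of_dvd hi (orderOf_dvd_of_pow_eq_one h)
    rw [hord] at h3
    omega
  have cond : ∀ i : ℕ, 0 < i → i < 2 * m → ¬ r ∣ q ^ i - 1 := by
    intro i hi hi2 h
    apply hne i hi hi2
    have h3 : ((q ^ i - 1 : ℕ) : ZMod r) = 0 := (ZMod.natCast_eq_zero_iff _ _).2 h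
    rw [Nat.cast_sub (Nat.one_le_pow _ _ (by omega)), Nat.cast_pow, Nat.cast_one, sub_eq_zero] at h3
    exact h3
  have hq0 : ((q : ℕ) : ZMod r) ≠ 0 := by
    intro h
    have h3 := pow_orderOf_eq_one ((q : ℕ) : ZMod r)
    rw [hord, h, zero_pow (by omega)] at h3
    exact zero_ne_one h3
  have hrq : ¬ r ∣ q := fun h => hq0 ((ZMod.natCast_eq_zero_iff _ _).2 h)
  have hdvd : r ∣ q ^ m + 1 := by
    have h3 := pow_orderOf_eq_one ((q : ℕ) : ZMod r)
    rw [hord, mul_comm, pow_mul, pow_two, mul_self_eq_one_iff] at h3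
    rcases h3 with h3 | h3
    · exact absurd h3 (hne m (by omega) (by omega))
    · rw [← ZMod.natCast_eq_zero_iff, Nat.cast_add, Nat.cast_pow, h3, Nat.cast_one, neg_add_cancel]
  obtain ⟨L, _, _, _, Q, u, hQ, hu, huQ⟩ := exists_torusM F (k := m) (by omega)
  obtain ⟨s, hs⟩ := hdvd
  have hlo : orderOf (u ^ s) = r := by
    have hs0 : s ≠ 0 := by
      rintro rfl
      omega
    rw [orderOf_pow_of_dvd hs0 (by rw [hu, hs]; exact dvd_mul_left _ _), hu, hs]
    exact Nat.mul_div_cancel _ (Nat.pos_of_ne_zero hs0)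
  have hnd : Nondeg (oddForm k F) := nondeg_oddForm k F h2
  have hdP : finrank F (Unit ⊕ (Fin k ⊕ Fin k) → F) = 2 * k + 1 := finrank_odd F k
  have D : Dat p m k r Q (oddForm k F) u (u ^ s) :=
    { two := h2, pp := hp, ch := hch, hm := by omega, sg := hQ, nd := hnd, dimP := hdP, hu := hu, huQ := huQ, hr := hr
      hlam := ⟨s, rfl⟩, hlo := hlo, cond := cond
      hrP := Cfsg.Agent.H845.OZ.one_of_rpow hdP hkm hr hrq cond }
  have h3 := D.cong_om (a := a) (fun v hv j hj => H477.OZ.mem_K_of_p D hv hj) (H477.OZ.count D ha hF)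
    (fun hk d β hβ s₁ hd hs₁ => H530.OZ.OmK.hlin D hk hd hs₁)
    (fun R hzR hC d β hβ s₁ hd => H845.OZ.sep D R hzR hC hbig hd)
  have : Module.Finite F L := Module.Finite.of_finite
  obtain ⟨e'⟩ := nonempty_om h2 D.ndM (n := n) (by omega) (by
    rw [Module.finrank_prod, hQ.dim, hdP]
    omega)
  exact H845.OZ.Cong.congr (e.trans e').symm h3

/-- **The congruences of `Ω_{2n+1}(q)`**, `3 ≤ n - k`. -/
theorem cong_odd {S : Type v} [Group S] {F : Type} [Field F] [Fintype F] {n : ℕ}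
    (ho : Odd (Fintype.card F)) (e : S ≃* POmega F (quadFormOdd n F)) {k r p a : ℕ} (hk : k ≤ 2) (hm : 3 ≤ n - k)
    (hkm : k < n - k) (hp : p.Prime) (hr : r.Prime) (ha : 0 < a) (hF : Fintype.card F = p ^ a)
    (hord : orderOf ((p ^ a : ℕ) : ZMod r) = 2 * (n - k)) : H730.OZ.Cong p r (2 * a * k ^ 2) S := by
  have hq2 : 2 ≤ Fintype.card F := Fintype.one_lt_card
  have hq3 : 3 ≤ Fintype.card F := by
    rcases Nat.lt_or_ge 2 (Fintype.card F) with h | h
    · exact h
    · exfalso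
      have : Fintype.card F = 2 := le_antisymm h hq2
      rw [this] at ho
      exact absurd ho (by decide)
  exact cong_odd_gen ho e (by omega) hkm (num_big hq3 hm hk) hp hr ha hF hord

/-- `Ω_7(q)`, `q ≥ 5`: the primes `r ∣ q ^ 2 + 1`. -/
theorem cong_seven {S : Type v} [Group S] {F : Type} [Field F] [Fintype F]
    (ho : Odd (Fintype.card F)) (h5 : 5 ≤ Fintype.card F) (e : S ≃* POmega F (quadFormOdd 3 F)) {r p a : ℕ}
    (hp : p.Prime) (hr : r.Prime) (ha : 0 < a) (hF : Fintype.card F = p ^ a)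
    (hord : orderOf ((p ^ a : ℕ) : ZMod r) = 4) : H730.OZ.Cong p r (2 * a) S := by
  have h1 : 5 ^ 2 ≤ Fintype.card F ^ 2 := Nat.pow_le_pow_left h5 2
  have := cong_odd_gen (n := 3) (k := 1) ho e (by omega) (by omega) (by
    show 2 * (2 * 2 + 2 * 1 + 2) < Fintype.card F ^ 2 + 1
    omega) hp hr ha hF hord
  rwa [one_pow, mul_one] at this

/-- **The row `Ω_{2n+1}(q)`, `q` odd, `n ≥ 5`.** -/
theorem row_omega_odd {S : Type v} [Group S] [Finite S] (hs : IsSimpleGroup S) {F : Type} [Field F] [Fintype F] {n : ℕ}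
    (hn : 5 ≤ n) (ho : Odd (Fintype.card F)) (e : S ≃* POmega F (quadFormOdd n F)) : H730.OZ.Row S :=
  H477.OZ.row_of_cong hs hn ho e fun k r p a hk hp hr ha hF _ hord =>
    cong_odd ho e hk (by omega) (by omega) hp hr ha hF hord

end Cfsg.Agent.H205.OZ
end

private theorem dce_6b54a6f8b032 : _root_.True := by
  try have : _root_.True := by simp only [_root_.Cfsg.Agent.H93.CJ.mulL.congr_simp]
  try have : _root_.True := by simp only [_root_.Cfsg.Agent.H205.OZ.Dat.z.congr_simp]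
  try have : _root_.True := by simp only [_root_.Cfsg.Agent.H160.QSpin.El.congr_simp]
  exact _root_.True.intro
end

-- part: H448/OZ/OmMid
section
set_option linter.all false
open scoped Cfsg.Agent.FastGrp

/-!
# S4842: `Ω₇, Ω₉`: everything except the middle value (helper448)
-/

set_option autoImplicit false

open Cfsg Cfsg.Agent.H730.OZ

namespace Cfsg.Agent.H448.OZ

universe u

variable {S : Type u} [Group S] [Finite S] {F : Type} [Field F] [Fintype F] {p a : ℕ}

/-- **`Ω₇(q)`, `q ≥ 5` odd.** -/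
theorem row_seven (hs : IsSimpleGroup S) (e : S ≃* POmega F (quadFormOdd 3 F)) (ho : Odd (Fintype.card F))
    (h5 : 5 ≤ Fintype.card F) (hp : p.Prime) (ha : 0 < a) (hF : Fintype.card F = p ^ a)
    (hHC : ∀ χ : S → ℂ, IsIrrCharacter S χ → OneZero χ → ∑ᶠ u ∈ pSet p S, χ u = (p : ℂ) ^ (a * 6) * χ 1 → False) :
    Row S := by
  refine row_oodd3 hs e ho hp ha hF (fun r hr hord => ?_) hHC
  rw [one_pow, mul_one]
  exact H205.OZ.cong_seven ho h5 e hp hr ha hF (by rw [← hF]; exact hord)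

/-- **`Ω₉(q)`, `q` odd.** -/
theorem row_nine (hs : IsSimpleGroup S) (e : S ≃* POmega F (quadFormOdd 4 F)) (ho : Odd (Fintype.card F))
    (hp : p.Prime) (ha : 0 < a) (hF : Fintype.card F = p ^ a)
    (hHC : ∀ χ : S → ℂ, IsIrrCharacter S χ → OneZero χ → ∑ᶠ u ∈ pSet p S, χ u = (p : ℂ) ^ (a * 8) * χ 1 → False) :
    Row S := by
  refine row_oodd4 hs e ho hp ha hF (fun r hr hord => ?_) hHC
  exact H205.OZ.cong_odd ho e (n := 4) (k := 1) (by norm_num) (by norm_num) (by norm_num) hp hr ha hF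
    (by rw [← hF]; exact hord)

end Cfsg.Agent.H448.OZ
end

-- part: H769/OZ/SpRow_mg
section
prune_inst 0x60140501053c010000000009471201e768600049000080000c88202440788ee60408288603c2024020220000d003d0068110000000240000004000000011c05810000040080480008c20010000080000000000000000000000000000000000000200000000
set_option linter.all false
open scoped Cfsg.Agent.FastGrp

-- part: H769/OZ/BalW
section
/-!
# Witt models: the root groups of type I are images of `SL₂`, in the symplectic case also those of type II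
(helper769, S4842)

* `bal_short`, `qq_short` : `i + 1 < n`;
* `bal_long`, `qq_long` : `PSp`, the last node.
-/

set_option autoImplicit false
set_option linter.unusedSectionVars false

namespace Cfsg.Agent.H769.OZ

open CoxeterSystem Cfsg Cfsg.Agent.ChevalleyStructure.CoxeterGeom Cfsg.Agent.Tits.Roots
open Cfsg.Agent.Tits.Core Cfsg.Agent.Tits.RootComb Cfsg.Agent.Nodes.TypeC
open Cfsg.Agent.Nodes Cfsg.Agent.Nodes.Comb Cfsg.Agent.Nodes.Reps Cfsg.Agent.Nodes.WittRoot Cfsg.Agent.Nodes.BNOf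
open Cfsg.Agent.Nodes.WittRGD Cfsg.Agent.Nodes.WittAll Cfsg.Agent.Nodes.OppDec
open Cfsg.Agent.TitsThree Cfsg.Agent.TitsThree.Siegel Cfsg.Agent.TitsThree.WittFrame
  Cfsg.Agent.TitsThree.WittWeyl Cfsg.Agent.TitsThree.FrameCN Cfsg.Agent.TitsThree.SpIdent
open Cfsg.Agent.ChevalleyStructure.SL2Hom Cfsg.Agent.H985.VZ Cfsg.Agent.H62.FrameSL
open Matrix

variable {F : Type*} [Field F] {V : Type*} [AddCommGroup V] [Module F V] {H : HForm F V} {n : ℕ}
  {Fr : Frame H (Fin n)} {K : Type*} [Group K] (M : Model Fr K) {p : ℕ}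

section gen

variable {i : Fin n} {Φ : _root_.Matrix.SpecialLinearGroup (Fin 2) F →* (V ≃ₗ[F] V)} (h1 : ∀ g, Φ g ∈ M.I)

include h1

/-- the map to the model -/
def fM : _root_.Matrix.SpecialLinearGroup (Fin 2) F →* K := M.φ.comp (Φ.codRestrict M.I h1)

theorem fM_apply (g : _root_.Matrix.SpecialLinearGroup (Fin 2) F) : fM M h1 g = M.φ ⟨Φ g, h1 g⟩ := rfl

theorem fM_U (h2 : ∀ g, g ∈ WittRoot.rg Fr (sr i) ↔ ∃ c, g = Φ (up c)) (y : K) :
    y ∈ WittModel.X M (sr i) ↔ ∃ c, y = fM M h1 (up c) := by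
  rw [WittModel.mem_X]
  constructor
  · rintro ⟨g, hg, hg2, rfl⟩
    obtain ⟨c, rfl⟩ := (h2 g).1 hg2
    exact ⟨c, rfl⟩
  · rintro ⟨c, rfl⟩
    exact ⟨Φ (up c), h1 _, (h2 _).2 ⟨c, rfl⟩, rfl⟩

theorem fM_inj (h3 : ∀ c, (∀ v, ∃ a : F, Φ (up c) v = a • v) → c = 0) (c : F) (h : fM M h1 (up c) = 1) : c = 0 :=
  h3 c fun v => M.ker v _ h

theorem fM_T (h4 : ∀ a, Mono Fr (Φ (dg a)) id) (a : Fˣ) : fM M h1 (dg a) ∈ WittModel.T M :=
  Subgroup.mem_map_of_mem _ (Subgroup.mem_subgroupOf.2 ((mem_Tor Fr M.I).2 ⟨h1 _, h4 a⟩))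

variable {W : Type*} [Group W] {cs : CoxeterSystem (CoxeterMatrix.B n) W} {nw : Fin n → K}

theorem bal_of [Finite F] [Finite W] (R : RGD cs (isCartan n) p (WittModel.T M) nw (WittModel.X M))
    (h2 : ∀ g, g ∈ WittRoot.rg Fr (sr i) ↔ ∃ c, g = Φ (up c))
    (h3 : ∀ c, (∀ v, ∃ a : F, Φ (up c) v = a • v) → c = 0) (h4 : ∀ a, Mono Fr (Φ (dg a)) id)
    (h5 : ∃ a, nw i = fM M h1 (dg a * wm)) : Bal (WittModel.X M) (WittModel.T M) nw i :=
  bal_SL R (fM M h1) (fM_U M h1 h2) (fM_inj M h1 h3) (fM_T M h1 h4) h5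

theorem qq_of (h2 : ∀ g, g ∈ WittRoot.rg Fr (sr i) ↔ ∃ c, g = Φ (up c))
    (h3 : ∀ c, (∀ v, ∃ a : F, Φ (up c) v = a • v) → c = 0) : qq (WittModel.X M) i = Nat.card F :=
  qq_SL (fM M h1) (fM_U M h1 h2) (fM_inj M h1 h3)

end gen

/-! ### Matrices -/

theorem coe_lo (c : F) : mt (lo c) = !![1, 0; c, 1] := rfl

theorem wm_up : up (1 : F) * lo (-1) * up 1 = dg 1 * wm := by
  apply mt_inj
  rw [mt_mul, mt_mul, mt_mul, coe_up, coe_lo, coe_wm, coe_dg, Matrix.mul_fin_two, Matrix.mul_fin_two,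
    Matrix.mul_fin_two]
  simp

theorem wm_up' : up (-1 : F) * lo 1 * up (-1) = dg (-1) * wm := by
  apply mt_inj
  rw [mt_mul, mt_mul, mt_mul, coe_up, coe_lo, coe_wm, coe_dg, Matrix.mul_fin_two, Matrix.mul_fin_two,
    Matrix.mul_fin_two]
  simp

/-! ### Type I -/

section short

variable {i j : Fin n} (hij : (i : ℕ) + 1 = j)

include hij in
theorem ne_of_succ : i ≠ j := fun h => by rw [h] at hij; omega

include hij in
theorem nx_eq : nx i = (j, false) := by
  have hi : (i : ℕ) + 1 < n := by have := j.2; omega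
  unfold nx
  rw [dif_pos hi]
  congr 1
  exact Fin.ext hij

theorem phiS_mem (hA : AmbT Fr p M.I) (hne : i ≠ j) (g : _root_.Matrix.SpecialLinearGroup (Fin 2) F) : phiS Fr hne g ∈ M.I := by
  have h1 : (phiS Fr hne).range ≤ M.I := by
    rw [phiS_range]
    refine sup_le ?_ ?_
    · have := hA.PG_le (a := (i, true)) (b := (j, false))
      rwa [PG_ne Fr (by exact hne)] at this
    · have := hA.PG_le (a := (j, true)) (b := (i, false))
      rwa [PG_ne Fr (by exact hne.symm)] at this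
  exact h1 ⟨g, rfl⟩

include hij in
theorem phiS_rg (g : V ≃ₗ[F] V) : g ∈ WittRoot.rg Fr (sr i) ↔ ∃ c, g = phiS Fr (ne_of_succ hij) (up c) := by
  rw [rg_sr, nx_eq hij, PG_ne Fr (by exact ne_of_succ hij), mem_XG]
  simp only [phiS_up]

theorem phiS_scalar (hne : i ≠ j) (c : F) (h : ∀ v, ∃ a : F, phiS Fr hne (up c) v = a • v) : c = 0 := by
  obtain ⟨a, ha⟩ := h (Fr.b (j, true))
  rw [phiS_e'] at ha
  have h1 : (up c).1 0 1 • Fr.b (i, true) + (up c).1 1 1 • Fr.b (j, true) = (0 : F) • Fr.b (i, true) + a • Fr.b (j, true) := by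
    rw [ha, zero_smul, zero_add]
  exact (indep Fr hne h1).1

theorem phiS_mono_dg (hne : i ≠ j) (a : Fˣ) : Mono Fr (phiS Fr hne (dg a)) id := by
  have hε := H.ε_ne
  have e00 : (dg a).1 0 0 = (a : F) := rfl
  have e01 : (dg a).1 0 1 = 0 := rfl
  have e10 : (dg a).1 1 0 = 0 := rfl
  have e11 : (dg a).1 1 1 = (a⁻¹ : Fˣ) := rfl
  rintro ⟨k, s⟩
  by_cases h1 : k = i
  · subst h1
    cases s
    · refine ⟨H.σ ((a⁻¹ : Fˣ) : F), by simp, ?_⟩
      rw [phiS_apply, linS_apply, e00, e01, e10, e11]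
      simp only [hf, hs, hn Fr hne, mul_zero, mul_one, add_zero, sub_zero, zero_smul, map_zero,
        inv_mul_cancel₀ hε, id, neg_zero]
      module
    · refine ⟨a, a.ne_zero, ?_⟩
      rw [phiS_e, e00, e10, zero_smul, add_zero]
      rfl
  · by_cases h2 : k = j
    · subst h2
      cases s
      · refine ⟨H.σ (a : F), by simp, ?_⟩
        rw [phiS_apply, linS_apply, e00, e01, e10, e11]
        simp only [hf, hs, hn Fr hne.symm, mul_zero, mul_one, add_zero, zero_add, sub_zero, zero_smul,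
          map_zero, inv_mul_cancel₀ hε, id, neg_zero]
        module
      · refine ⟨(a⁻¹ : Fˣ), Units.ne_zero _, ?_⟩
        rw [phiS_e', e01, e11, zero_smul, zero_add]
        rfl
    · refine ⟨1, one_ne_zero, ?_⟩
      rw [phiS_apply, linS_apply, e00, e01, e10, e11]
      simp only [hn Fr h1, hn Fr h2, mul_zero, add_zero, sub_zero, zero_smul, one_smul, id]

include hij in
theorem nn_short (p0 : Fr.Adm) : _root_.Cfsg.Agent.Nodes.WittRGD.nn Fr p0 i = phiS Fr (ne_of_succ hij) (dg 1 * wm) := by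
  have hi : (i : ℕ) + 1 < n := by have := j.2; omega
  rw [WittRGD.nn, if_pos hi, nx_eq hij, ← wm_up, map_mul, map_mul, phiS_up, phiS_lo, nX, inv_one]
  rfl

variable {W : Type*} [Group W] {cs : CoxeterSystem (CoxeterMatrix.B n) W} {nw : Fin n → K}

include hij in
theorem bal_short [Finite F] [Finite W] (hA : AmbT Fr p M.I)
    (R : RGD cs (isCartan n) p (WittModel.T M) nw (WittModel.X M)) {p0 : Fr.Adm}
    (hnw : nw i = M.φ ⟨_root_.Cfsg.Agent.Nodes.WittRGD.nn Fr p0 i, WittAll.nn_mem hA p0 i⟩) : Bal (WittModel.X M) (WittModel.T M) nw i :=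
  bal_of M (phiS_mem M hA (ne_of_succ hij)) R (phiS_rg hij) (phiS_scalar _) (phiS_mono_dg _)
    ⟨1, by rw [hnw, fM_apply]; congr 1; exact Subtype.ext (nn_short hij p0)⟩

include hij in
theorem qq_short (hA : AmbT Fr p M.I) : qq (WittModel.X M) i = Nat.card F :=
  qq_of M (phiS_mem M hA (ne_of_succ hij)) (phiS_rg hij) (phiS_scalar _)

end short

/-! ### Type II, the symplectic case -/

section long

variable {m : ℕ} {i : Fin m} (hi : ¬ (i : ℕ) + 1 < m)

include hi in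
theorem nx_last : nx i = (i, true) := by
  unfold nx
  rw [dif_neg hi]

theorem phiL_mem (hA : AmbT (frame m F) p (KInstSp.model m F).I) (i : Fin m) (g : _root_.Matrix.SpecialLinearGroup (Fin 2) F) :
    phiL (frame m F) i g ∈ (KInstSp.model m F).I := by
  have h1 : (phiL (frame m F) i).range ≤ (KInstSp.model m F).I := by
    rw [phiL_range]
    refine sup_le ?_ ?_
    · have := hA.PG_le (a := (i, true)) (b := (i, true))
      rwa [PG_self] at this
    · have := hA.PG_le (a := (i, false)) (b := (i, false))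
      rwa [PG_self] at this
  exact h1 ⟨g, rfl⟩

include hi in
theorem phiL_rg (g : (Fin m ⊕ Fin m → F) ≃ₗ[F] (Fin m ⊕ Fin m → F)) :
    g ∈ WittRoot.rg (frame m F) (sr i) ↔ ∃ c, g = phiL (frame m F) i (up c) := by
  rw [rg_sr, nx_last hi, PG_self, mem_ZG]
  constructor
  · rintro ⟨q, rfl⟩
    refine ⟨-q.c, ?_⟩
    rw [phiL_up, _root_.neg_neg, ← eq_adm]
  · rintro ⟨c, rfl⟩
    exact ⟨_, phiL_up i c⟩

theorem phiL_scalar (i : Fin m) (c : F) (h : ∀ v, ∃ a : F, phiL (frame m F) i (up c) v = a • v) : c = 0 := by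
  obtain ⟨a, ha⟩ := h ((frame m F).b (i, false))
  rw [phiL_f] at ha
  have h1 : (up c).1 0 1 • (frame m F).b (i, true) + (up c).1 1 1 • (frame m F).b (i, false) =
      (0 : F) • (frame m F).b (i, true) + a • (frame m F).b (i, false) := by
    rw [ha, zero_smul, zero_add]
  exact (indepL (frame m F) i h1).1

theorem phiL_mono_dg (i : Fin m) (a : Fˣ) : Mono (frame m F) (phiL (frame m F) i (dg a)) id := by
  have e00 : (dg a).1 0 0 = (a : F) := rfl
  have e01 : (dg a).1 0 1 = 0 := rfl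
  have e10 : (dg a).1 1 0 = 0 := rfl
  have e11 : (dg a).1 1 1 = (a⁻¹ : Fˣ) := rfl
  rintro ⟨k, s⟩
  by_cases h1 : k = i
  · subst h1
    cases s
    · refine ⟨(a⁻¹ : Fˣ), Units.ne_zero _, ?_⟩
      rw [phiL_f, e01, e11, zero_smul, zero_add]
      rfl
    · refine ⟨a, a.ne_zero, ?_⟩
      rw [phiL_e, e00, e10, zero_smul, add_zero]
      rfl
  · refine ⟨1, one_ne_zero, ?_⟩
    rw [phiL_apply, linL_apply]
    simp only [hn (frame m F) h1, mul_zero, add_zero, zero_smul, one_smul, id]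

include hi in
theorem nn_long : _root_.Cfsg.Agent.Nodes.WittRGD.nn (frame m F) (adm 1) i = phiL (frame m F) i (dg (-1) * wm) := by
  rw [WittRGD.nn, if_neg hi, ← wm_up', map_mul, map_mul, phiL_up, phiL_lo, nZ, _root_.neg_neg]
  congr 2
  · congr 1
    rw [eq_adm (Frame.Adm.smul _ _), Frame.Adm.smul_c]
    congr 1
    simp [Frame.η, adm, SpIdent.form]
  · rw [eq_adm (Frame.Adm.smul _ _), Frame.Adm.smul_c]
    congr 1
    simp only [adm, SpIdent.form, _root_.mul_one, _root_.RingEquiv.refl_apply, _root_.inv_one, _root_.RingEquiv.map_neg_one, _root_.mul_neg, _root_.neg_neg]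

variable {W : Type*} [Group W] {cs : CoxeterSystem (CoxeterMatrix.B m) W} {nw : Fin m → PSp m F}

include hi in
theorem bal_long [Finite F] [Finite W] (hA : AmbT (frame m F) p (KInstSp.model m F).I)
    (R : RGD cs (isCartan m) p (WittModel.T (KInstSp.model m F)) nw (WittModel.X (KInstSp.model m F)))
    (hnw : nw i = (KInstSp.model m F).φ ⟨_root_.Cfsg.Agent.Nodes.WittRGD.nn (frame m F) (adm 1) i, WittAll.nn_mem hA (adm 1) i⟩) :
    Bal (WittModel.X (KInstSp.model m F)) (WittModel.T (KInstSp.model m F)) nw i :=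
  bal_of (KInstSp.model m F) (phiL_mem hA i) R (phiL_rg hi) (phiL_scalar i) (phiL_mono_dg i)
    ⟨-1, by rw [hnw, fM_apply]; congr 1; exact Subtype.ext (nn_long hi)⟩

include hi in
theorem qq_long (hA : AmbT (frame m F) p (KInstSp.model m F).I) : qq (WittModel.X (KInstSp.model m F)) i = Nat.card F :=
  qq_of (KInstSp.model m F) (phiL_mem hA i) (phiL_rg hi) (phiL_scalar i)

end long

end Cfsg.Agent.H769.OZ
end

-- part: H769/OZ/SpComb
section
/-!
# The Weyl group of type `C₂` and the `T`-characters of `PSp₄(q)` (helper769, S4842)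
-/

set_option autoImplicit false
set_option linter.unusedSectionVars false

namespace Cfsg.Agent.H769.OZ

open CoxeterSystem Cfsg Cfsg.Agent.ChevalleyStructure.CoxeterGeom Cfsg.Agent.Tits.Roots Cfsg.Agent.Nodes.TypeC
open Cfsg.Agent.Tits.Core
open Cfsg.Agent.Nodes Cfsg.Agent.Nodes.Comb Cfsg.Agent.Nodes.Reps Cfsg.Agent.Nodes.WittRoot Cfsg.Agent.Nodes.BNOf
open Cfsg.Agent.H985.VZ

/-! ### Combinatorics of `C₂` -/

section comb

variable {W : Type*} [Group W] (cs : CoxeterSystem (CoxeterMatrix.B 2) W)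

theorem short_rep (w : W) : ∃ c d : Fin 2 × Bool, c.1 ≠ d.1 ∧ ee (rep cs (isCartan 2) w (sr 0)) = wt c + wt d := by
  induction w using cs.simple_induction_left with
  | one =>
    refine ⟨(0, true), nx 0, ?_, ?_⟩
    · decide
    · rw [map_one, Module.End.one_apply, ee_sr]
      rfl
  | mul_simple_left w i ih =>
    obtain ⟨c, d, hcd, e⟩ := ih
    refine ⟨sg i c, sg i d, fun h => hcd ((sg_fst_eq i).1 h), ?_⟩
    rw [rep_mul_apply, rep_simple]
    exact ee_refl_of e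

/-- the simple roots are not conjugate -/
theorem rep_ne (w : W) : rep cs (isCartan 2) w (sr 0) ≠ sr 1 := by
  intro h
  obtain ⟨c, d, hcd, e⟩ := short_rep cs w
  rw [h, ee_sr] at e
  have h1 : bt (1 : Fin 2) = wt ((1 : Fin 2), true) + wt ((1 : Fin 2), true) := rfl
  rw [h1] at e
  rcases wt_add_eq (Or.inr rfl) (Or.inl hcd) e with ⟨h2, h3⟩ | ⟨h2, h3⟩
  · exact hcd (by rw [← h2, ← h3])
  · exact hcd (by rw [← h2, ← h3])

theorem braid4 : cs.simple 1 * (cs.simple 0 * cs.simple 1 * cs.simple 0) * cs.simple 1 =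
    cs.simple 0 * cs.simple 1 * cs.simple 0 := by
  have h1 := cs.simple_mul_simple_pow 0 1
  have h2 : CoxeterMatrix.B 2 0 1 = 4 := by decide
  rw [h2] at h1
  have h0 : cs.simple 0 * cs.simple 0 = 1 := cs.simple_mul_simple_self 0
  have h3 : cs.simple 1 * cs.simple 1 = 1 := cs.simple_mul_simple_self 1
  have i0 : (cs.simple 0)⁻¹ = cs.simple 0 := cs.inv_simple 0
  have i1 : (cs.simple 1)⁻¹ = cs.simple 1 := cs.inv_simple 1
  have e : (cs.simple 0 * cs.simple 1) ^ 4 = (cs.simple 0 * cs.simple 1 * cs.simple 0) *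
      (cs.simple 1 * (cs.simple 0 * cs.simple 1 * cs.simple 0) * cs.simple 1) := by
    simp only [pow_succ, pow_zero, one_mul, mul_assoc]
  rw [e] at h1
  have h4 := eq_inv_of_mul_eq_one_right h1
  rw [h4, mul_inv_rev, mul_inv_rev, i0, i1, mul_assoc]

/-- the conjugates of the long simple reflection -/
theorem conj_long (w : W) : w⁻¹ * cs.simple 1 * w = cs.simple 1 ∨
    w⁻¹ * cs.simple 1 * w = cs.simple 0 * cs.simple 1 * cs.simple 0 := by
  have i0 : (cs.simple 0)⁻¹ = cs.simple 0 := cs.inv_simple 0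
  have i1 : (cs.simple 1)⁻¹ = cs.simple 1 := cs.inv_simple 1
  have h0 : cs.simple 0 * cs.simple 0 = 1 := cs.simple_mul_simple_self 0
  have h3 : cs.simple 1 * cs.simple 1 = 1 := cs.simple_mul_simple_self 1
  induction w using cs.simple_induction_right with
  | one => left; simp
  | mul_simple_right w i ih =>
    have e : (w * cs.simple i)⁻¹ * cs.simple 1 * (w * cs.simple i) =
        (cs.simple i)⁻¹ * (w⁻¹ * cs.simple 1 * w) * cs.simple i := by group
    rw [e]
    fin_cases i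
    · rcases ih with h | h
      · right
        rw [h]
        change (cs.simple 0)⁻¹ * cs.simple 1 * cs.simple 0 = _
        rw [i0]
      · left
        rw [h]
        change (cs.simple 0)⁻¹ * (cs.simple 0 * cs.simple 1 * cs.simple 0) * cs.simple 0 = _
        rw [mul_assoc, mul_assoc (cs.simple 0 * cs.simple 1), h0, mul_one, ← mul_assoc, inv_mul_cancel, one_mul]
    · rcases ih with h | h
      · left
        rw [h]
        change (cs.simple 1)⁻¹ * cs.simple 1 * cs.simple 1 = _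
        rw [inv_mul_cancel, one_mul]
      · right
        rw [h]
        change (cs.simple 1)⁻¹ * (cs.simple 0 * cs.simple 1 * cs.simple 0) * cs.simple 1 = _
        rw [i1]
        exact braid4 cs

theorem B2_zero_one : CoxeterMatrix.B 2 0 1 = 2 * 2 := by decide

end comb

/-! ### The `T`-characters -/

section chars

variable {W Y : Type*} [Group W] [Group Y] {cs : CoxeterSystem (CoxeterMatrix.B 2) W} {T : Subgroup Y} {n : Fin 2 → Y}
  {hN : NSys (CoxeterMatrix.B 2) T n}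

/-- a character fixed by the short simple reflection, with a conjugate fixed by the long one, is fixed by both -/
theorem fix_both {l l' : T →* ℂˣ} {w : W} (h0 : Mv cs hN (cs.simple 0) l l) (hw : Mv cs hN w l l')
    (h1 : Mv cs hN (cs.simple 1) l' l') : Mv cs hN (cs.simple 1) l l := by
  have h2 : Mv cs hN (w⁻¹ * cs.simple 1 * w) l l := by
    rw [mul_assoc]
    exact (hw.mul h1).mul hw.inv
  rcases conj_long cs w with h | h
  · rwa [h] at h2
  · rw [h] at h2
    have h3 : Mv cs hN (cs.simple 0 * (cs.simple 0 * cs.simple 1 * cs.simple 0) * cs.simple 0) l l := by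
      have := (h0.mul h2).mul h0
      rwa [← mul_assoc] at this
    have e : cs.simple 0 * (cs.simple 0 * cs.simple 1 * cs.simple 0) * cs.simple 0 = cs.simple 1 := by
      have k0 : cs.simple 0 * cs.simple 0 = 1 := cs.simple_mul_simple_self 0
      rw [mul_assoc, mul_assoc (cs.simple 0 * cs.simple 1), k0, mul_one, ← mul_assoc, k0, one_mul]
    rwa [e] at h3

end chars

/-! ### Arithmetic -/

theorem arith {q d : ℕ} (hq : 2 ≤ q) {ya yb : ℂ} (ha : ya = q ∨ ya = (q : ℂ)⁻¹ ∨ ya = 1)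
    (hb : yb = q ∨ yb = (q : ℂ)⁻¹ ∨ yb = 1)
    (h : (d : ℂ) * ((1 + ya) * (1 + yb) * ∑ i ∈ Finset.range 2, (ya * yb) ^ i) =
      (1 + q : ℂ) * (1 + q) * ∑ i ∈ Finset.range 2, ((q : ℂ) * q) ^ i) :
    d = 1 ∨ d = q ^ 4 ∨ q ^ 2 + 1 ∣ 8 * d := by
  have hq0 : (q : ℂ) ≠ 0 := by exact_mod_cast (by omega : q ≠ 0)
  have hq1 : (1 + q : ℂ) ≠ 0 := by exact_mod_cast (by omega : 1 + q ≠ 0)
  have hq2 : (1 + (q : ℂ) ^ 2) ≠ 0 := by exact_mod_cast (by positivity : 1 + q ^ 2 ≠ 0)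
  simp only [Finset.sum_range_succ, Finset.sum_range_zero, pow_zero, pow_one, zero_add] at h
  have mix : ∀ N : ℕ, (8 * d : ℂ) = N * (q ^ 2 + 1) → q ^ 2 + 1 ∣ 8 * d := by
    intro N hN
    refine ⟨N, ?_⟩
    have : ((8 * d : ℕ) : ℂ) = (((q ^ 2 + 1) * N : ℕ) : ℂ) := by
      push_cast
      rw [hN]
      ring
    exact_mod_cast this
  rcases ha with rfl | rfl | rfl <;> rcases hb with rfl | rfl | rfl
  · left
    have h1 : ((1 + q : ℂ) * (1 + q) * (1 + q ^ 2)) * (d - 1) = 0 := by linear_combination h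
    have h2 := (mul_eq_zero.1 h1).resolve_left (mul_ne_zero (mul_ne_zero hq1 hq1) hq2)
    exact_mod_cast sub_eq_zero.1 h2
  · right; right
    apply mix (4 * q)
    rw [mul_inv_cancel₀ hq0] at h
    field_simp at h
    push_cast
    have h1 : (1 + q : ℂ) * (8 * d - 4 * q * (q ^ 2 + 1)) = 0 := by linear_combination 4 * h
    exact sub_eq_zero.1 ((mul_eq_zero.1 h1).resolve_left hq1)
  · right; right
    apply mix 4
    push_cast
    have h1 : (1 + q : ℂ) * ((1 + q) * (8 * d - 4 * (q ^ 2 + 1))) = 0 := by linear_combination 4 * h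
    exact sub_eq_zero.1 ((mul_eq_zero.1 ((mul_eq_zero.1 h1).resolve_left hq1)).resolve_left hq1)
  · right; right
    apply mix (4 * q)
    rw [inv_mul_cancel₀ hq0] at h
    field_simp at h
    push_cast
    have h1 : (1 + q : ℂ) * (8 * d - 4 * q * (q ^ 2 + 1)) = 0 := by linear_combination 4 * h
    exact sub_eq_zero.1 ((mul_eq_zero.1 h1).resolve_left hq1)
  · right; left
    field_simp at h
    have h1 : ((1 + q : ℂ) * (1 + q) * (1 + q ^ 2)) * (d - q ^ 4) = 0 := by linear_combination h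
    have h2 := (mul_eq_zero.1 h1).resolve_left (mul_ne_zero (mul_ne_zero hq1 hq1) hq2)
    exact_mod_cast sub_eq_zero.1 h2
  · right; right
    apply mix (4 * q ^ 2)
    field_simp at h
    push_cast
    have h1 : (1 + q : ℂ) * ((1 + q) * (8 * d - 4 * q ^ 2 * (q ^ 2 + 1))) = 0 := by linear_combination 4 * h
    exact sub_eq_zero.1 ((mul_eq_zero.1 ((mul_eq_zero.1 h1).resolve_left hq1)).resolve_left hq1)
  · right; right
    apply mix 4
    push_cast
    have h1 : (1 + q : ℂ) * ((1 + q) * (8 * d - 4 * (q ^ 2 + 1))) = 0 := by linear_combination 4 * h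
    exact sub_eq_zero.1 ((mul_eq_zero.1 ((mul_eq_zero.1 h1).resolve_left hq1)).resolve_left hq1)
  · right; right
    apply mix (4 * q ^ 2)
    field_simp at h
    push_cast
    have h1 : (1 + q : ℂ) * ((1 + q) * (8 * d - 4 * q ^ 2 * (q ^ 2 + 1))) = 0 := by linear_combination 4 * h
    exact sub_eq_zero.1 ((mul_eq_zero.1 ((mul_eq_zero.1 h1).resolve_left hq1)).resolve_left hq1)
  · right; right
    apply mix ((1 + q) ^ 2)
    push_cast
    linear_combination h

end Cfsg.Agent.H769.OZ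
end

-- part: H769/OZ/SpRow
section
/-!
# The row `PSp₄(q)`, `q ≥ 4`, `q ≠ 5` (helper769, S4842)

No irreducible character of `PSp₄(q)` vanishes on exactly one class: `V^U ≠ 0`, the torus character is fixed by the
Weyl group, hence `χ(1)` is `1`, `q⁴` or has a prime divisor of `q² + 1` (`arith`).
-/

set_option autoImplicit false
set_option linter.unusedSectionVars false

namespace Cfsg.Agent.H769.OZ

open CoxeterSystem Cfsg Cfsg.Agent.Characters Cfsg.Agent.ChevalleyStructure.CoxeterGeom Cfsg.Agent.Tits.Roots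
open Cfsg.Agent.Nodes.TypeC Cfsg.Agent.H604.OZ
open Cfsg.Agent.Nodes Cfsg.Agent.Nodes.Comb Cfsg.Agent.Nodes.Reps Cfsg.Agent.Nodes.WittRoot Cfsg.Agent.Nodes.BNOf
open Cfsg.Agent.Nodes.WittRGD Cfsg.Agent.Nodes.WittAll Cfsg.Agent.Nodes.LeviDec
open Cfsg.Agent.TitsThree Cfsg.Agent.TitsThree.Siegel Cfsg.Agent.TitsThree.WittFrame
  Cfsg.Agent.TitsThree.WittWeyl Cfsg.Agent.TitsThree.FrameCN Cfsg.Agent.TitsThree.SpIdent
open Cfsg.Agent.H985.VZ Cfsg.Agent.ClassicalGeometry Cfsg.Agent.H631.VZ Cfsg.Agent.H686.CharKit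

theorem compl_one : ({1}ᶜ : Set (Fin 2)) = {0} := by
  ext i
  (revert i; simp only [_root_.Fin.forall_fin_succ, Fin.isValue, _root_.Set.mem_compl_iff, _root_.Set.mem_singleton_iff, _root_.zero_ne_one, _root_.not_false_eq_true, _root_.Fin.succ_ne_zero, _root_.iff_false, _root_.Decidable.not_not, _root_.Fin.succ_zero_eq_one, _root_.IsEmpty.forall_iff, _root_.and_self])

theorem compl_zero : ({0}ᶜ : Set (Fin 2)) = {1} := by
  ext i
  (revert i; simp only [_root_.Fin.forall_fin_succ, Fin.isValue, _root_.Set.mem_compl_iff, _root_.Set.mem_singleton_iff, _root_.not_true_eq_false, _root_.zero_ne_one, _root_.Fin.succ_ne_zero, _root_.not_false_eq_true, _root_.true_iff, _root_.Fin.succ_zero_eq_one, _root_.IsEmpty.forall_iff, _root_.and_self])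

/-- one of two non-conjugate elements is not a zero -/
theorem exists_ne_zero {G : Type*} [Group G] {χ : IrrCharacter G} {x : G} (h : H732.VZ.One χ x) {P : G → Prop}
    (hP : ∃ t t' : G, ¬ IsConj t t' ∧ P t ∧ P t') : ∃ t, P t ∧ (χ : G → ℂ) t ≠ 0 := by
  obtain ⟨t, t', hc, h1, h2⟩ := hP
  by_cases h3 : (χ : G → ℂ) t = 0
  · refine ⟨t', h2, fun h4 => hc ((h.uniq t h3).symm.trans (h.uniq t' h4))⟩
  · exact ⟨t, h1, h3⟩

theorem yy_cases {I Y : Type*} [Fintype I] [DecidableEq I] [Group Y] {T : Subgroup Y} {n : I → Y}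
    {X : (I → ℤ) → Subgroup Y} {l : T →* ℂˣ} {i : I} {y : ℂ} {q : ℕ} (h : YY X n l i y) (hn : n i ∈ Li X i)
    (hb : Bal X T n i) (hq : qq X i = q) : y = q ∨ y = (q : ℂ)⁻¹ ∨ y = 1 := by
  by_cases ht : Triv X l i
  · rcases h.triv hn ht with h1 | h1
    · exact Or.inl (by rw [h1, hq])
    · exact Or.inr (Or.inl (by rw [h1, hq]))
  · exact Or.inr (Or.inr (h.bal hn hb ht))

/-- the order of a finite field is not six -/
theorem card_ne_six {F : Type*} [Field F] [Fintype F] : Fintype.card F ≠ 6 := by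
  intro h
  obtain ⟨p, hp⟩ := CharP.exists F
  obtain ⟨a, hpp, ha⟩ := FiniteField.card F p
  rw [h] at ha
  have h2 : 2 ∣ p ^ (a : ℕ) := by rw [← ha]; norm_num
  have h3 : 3 ∣ p ^ (a : ℕ) := by rw [← ha]; norm_num
  have h4 := (Nat.prime_dvd_prime_iff_eq Nat.prime_two hpp).1 (Nat.prime_two.dvd_of_dvd_pow h2)
  have h5 := (Nat.prime_dvd_prime_iff_eq Nat.prime_three hpp).1 (Nat.prime_three.dvd_of_dvd_pow h3)
  omega

/-- **The row `PSp₄(q)`, `4 ≤ q ≠ 5`.** -/
theorem row_psp4 (F : Type) [Field F] [Fintype F] (hq : 4 ≤ Fintype.card F) (hq5 : Fintype.card F ≠ 5)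
    (_hs : IsSimpleGroup (PSp 2 F)) : H730.OZ.Row (PSp 2 F) := by
  classical
  refine row_of fun χ x hx => ?_
  obtain ⟨N, ρ, hρ, hχ⟩ := χ.2
  obtain ⟨p, hp⟩ := CharP.exists F
  have hpp : Fact p.Prime := ⟨CharP.char_is_prime F p⟩
  have cs := (CoxeterMatrix.B 2).toCoxeterSystem
  have hA : AmbT (frame 2 F) p (KInstSp.model 2 F).I := AmbT.of_amb WittU.amb_Sp p
  have R := rgdC_model (KInstSp.model 2 F) hA (p0 := adm 1) one_ne_zero cs
  have hW : Finite (CoxeterMatrix.B 2).Group := finite_W cs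
  have hG := GG_eq (F := F) 2 (by norm_num) cs
  have hT := T_comm (F := F) 2
  -- elliptic elements
  obtain ⟨ta, hta, ha⟩ := exists_ne_zero hx (exists_S cs (p := p) (by rw [Nat.card_eq_fintype_card]; exact hq))
  have hq6 := card_ne_six (F := F)
  obtain ⟨tb, htb, hb⟩ := exists_ne_zero hx (exists_L cs (p := p) (by rw [Nat.card_eq_fintype_card]; omega))
  rw [compl_one] at hta
  rw [compl_zero] at htb
  rw [← hχ] at ha hb
  have h0 : VU cs (isCartan 2) (WittModel.X (KInstSp.model 2 F)) ρ ≠ ⊥ :=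
    VU_ne_bot R hG hρ (a := 0) (b := 1) (rep_ne cs) (hta.toFree.fx_ne_bot R ha) (htb.toFree.fx_ne_bot R hb)
  obtain ⟨l, hl, hla⟩ := exists_fix R hG hT hρ h0 hta ha
  obtain ⟨l', hl', hlb⟩ := exists_fix R hG hT hρ h0 htb hb
  obtain ⟨w, hw⟩ := exists_mv R hG hρ hl hl'
  have hlb' := fix_both hla hw hlb
  obtain ⟨-, -, ya, yb, hya, hyb, hd⟩ := rank_two R hG hT hρ (a := (0 : Fin 2)) (b := 1) (by decide)
    (fun i => by (revert i; simp only [_root_.Fin.forall_fin_succ, Fin.isValue, _root_.zero_ne_one, _root_.or_false, _root_.Fin.succ_ne_zero, _root_.false_or, _root_.Fin.succ_zero_eq_one, _root_.IsEmpty.forall_iff, _root_.and_self])) B2_zero_one (by norm_num) hl hla hlb' hta ha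
  have qa : qq (WittModel.X (KInstSp.model 2 F)) (0 : Fin 2) = Fintype.card F := by
    rw [qq_short (KInstSp.model 2 F) (i := 0) (j := 1) rfl hA, Nat.card_eq_fintype_card]
  have qb : qq (WittModel.X (KInstSp.model 2 F)) (1 : Fin 2) = Fintype.card F := by
    rw [qq_long (F := F) (p := p) (i := (1 : Fin 2)) (by norm_num) hA, Nat.card_eq_fintype_card]
  have ba := bal_short (KInstSp.model 2 F) (i := 0) (j := 1) rfl hA R (p0 := adm 1) rfl
  have bb := bal_long (F := F) (p := p) (i := (1 : Fin 2)) (cs := cs) (by norm_num) hA R rfl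
  have ca := yy_cases hya (n_mem_Li hA 0) ba qa
  have cb := yy_cases hyb (n_mem_Li hA 1) bb qb
  rw [qa, qb, hχ, ← charDegree_irr χ] at hd
  rcases arith (by omega) ca cb hd with h1 | h1 | h1
  · have := one_lt_deg hx
    omega
  · exact not_dvd_st hq hx (by rw [h1])
  · exact not_dvd_cox hq hx h1

end Cfsg.Agent.H769.OZ
end

-- part: H333/OZ/SpCent
section
/-!
# Centralizers of elements with a cyclic vector in `Sp_{2m}` and `PSp_{2m}` (helper333, S4842)

* `card_cent_le` : `z` in `Sp_{2m}(F)` with a cyclic vector `v`: `|C(z)|` is at most the number of vectors `b` with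
  `ω(b, z ^ k b) = ω(v, z ^ k v)`;
* `card_quot` : `|C(z)| = 2 |C(z̄)|` for `z ^ r = 1`, `r` odd, `char F ≠ 2`.
-/

set_option autoImplicit false
set_option linter.unusedSectionVars false

namespace Cfsg.Agent.H333.OZ

open Matrix Cfsg

universe u

section sp

variable {F : Type u} [Field F] {m : ℕ}

theorem mem_cent' {G : Type*} [Group G] {g z : G} : g ∈ Subgroup.centralizer ({z} : Set G) ↔ g * z = z * g :=
  Subgroup.mem_centralizer_singleton_iff

/-- the commutation of matrices -/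
theorem mat_comm {g z : symplecticGroup (Fin m) F} (h : g * z = z * g) (n : ℕ) (v : Fin m ⊕ Fin m → F) :
    (g : Matrix (Fin m ⊕ Fin m) (Fin m ⊕ Fin m) F) *ᵥ
        ((z : Matrix (Fin m ⊕ Fin m) (Fin m ⊕ Fin m) F) ^ n *ᵥ v) =
      (z : Matrix (Fin m ⊕ Fin m) (Fin m ⊕ Fin m) F) ^ n *ᵥ
        ((g : Matrix (Fin m ⊕ Fin m) (Fin m ⊕ Fin m) F) *ᵥ v) := by
  have h1 : (g : Matrix (Fin m ⊕ Fin m) (Fin m ⊕ Fin m) F) * (z : Matrix (Fin m ⊕ Fin m) (Fin m ⊕ Fin m) F) =
      (z : Matrix (Fin m ⊕ Fin m) (Fin m ⊕ Fin m) F) * (g : Matrix (Fin m ⊕ Fin m) (Fin m ⊕ Fin m) F) :=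
    congrArg Subtype.val h
  have h2 : Commute (g : Matrix (Fin m ⊕ Fin m) (Fin m ⊕ Fin m) F)
      (z : Matrix (Fin m ⊕ Fin m) (Fin m ⊕ Fin m) F) := h1
  rw [Matrix.mulVec_mulVec, Matrix.mulVec_mulVec, (h2.pow_right n).eq]

/-- the form is preserved -/
theorem form_eq (g : symplecticGroup (Fin m) F) (x y : Fin m ⊕ Fin m → F) :
    ((g : Matrix (Fin m ⊕ Fin m) (Fin m ⊕ Fin m) F) *ᵥ x) ⬝ᵥ
        (J (Fin m) F *ᵥ ((g : Matrix (Fin m ⊕ Fin m) (Fin m ⊕ Fin m) F) *ᵥ y)) =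
      x ⬝ᵥ (J (Fin m) F *ᵥ y) := by
  have h := SymplecticGroup.mem_iff'.1 g.2
  rw [Matrix.mulVec_mulVec, Matrix.dotProduct_mulVec, Matrix.vecMul_mulVec, ← Matrix.mul_assoc, h,
    ← Matrix.dotProduct_mulVec]

variable [Finite F]

/-- **Centralizers of cyclic elements of `Sp_{2m}(F)`.** -/
theorem card_cent_le {ι : Type*} [DecidableEq ι] (z : symplecticGroup (Fin m) F) (v : Fin m ⊕ Fin m → F)
    (E E' : Matrix (Fin m ⊕ Fin m) (Fin m ⊕ Fin m) F) (hE : E * E' = 1)
    (hcol : ∀ j, ∃ n : ℕ, (fun i => E i j) = (z : Matrix (Fin m ⊕ Fin m) (Fin m ⊕ Fin m) F) ^ n *ᵥ v)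
    (T : Finset ι) (f : (Fin m ⊕ Fin m → F) → ι) (hf : Function.Injective f)
    (hT : ∀ b : Fin m ⊕ Fin m → F, (∀ n : ℕ,
      b ⬝ᵥ (J (Fin m) F *ᵥ ((z : Matrix (Fin m ⊕ Fin m) (Fin m ⊕ Fin m) F) ^ n *ᵥ b)) =
      v ⬝ᵥ (J (Fin m) F *ᵥ ((z : Matrix (Fin m ⊕ Fin m) (Fin m ⊕ Fin m) F) ^ n *ᵥ v))) → f b ∈ T) :
    Nat.card (Subgroup.centralizer ({z} : Set (symplecticGroup (Fin m) F))) ≤ T.card := by
  have hmem : ∀ g : Subgroup.centralizer ({z} : Set (symplecticGroup (Fin m) F)),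
      f (((g : symplecticGroup (Fin m) F) : Matrix (Fin m ⊕ Fin m) (Fin m ⊕ Fin m) F) *ᵥ v) ∈ T := by
    intro g
    refine hT _ fun n => ?_
    rw [← mat_comm (mem_cent'.1 g.2) n v, form_eq]
  rw [← Nat.card_eq_finsetCard T]
  refine Nat.card_le_card_of_injective (fun g => (⟨_, hmem g⟩ : T)) ?_
  intro g g' hgg
  have h1 := hf (congrArg Subtype.val hgg)
  apply Subtype.ext
  apply Subtype.ext
  -- the columns of `g * E`
  have h2 : ((g : symplecticGroup (Fin m) F) : Matrix (Fin m ⊕ Fin m) (Fin m ⊕ Fin m) F) * E =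
      ((g' : symplecticGroup (Fin m) F) : Matrix (Fin m ⊕ Fin m) (Fin m ⊕ Fin m) F) * E := by
    ext i j
    obtain ⟨n, hn⟩ := hcol j
    have h3 : ∀ A : Matrix (Fin m ⊕ Fin m) (Fin m ⊕ Fin m) F, (A * E) i j = (A *ᵥ (fun i => E i j)) i := by
      intro A
      rfl
    rw [h3, h3, hn, mat_comm (mem_cent'.1 g.2), mat_comm (mem_cent'.1 g'.2), h1]
  have h3 := congrArg (fun A => A * E') h2
  simp only [Matrix.mul_assoc, hE, Matrix.mul_one] at h3
  exact h3

end sp

section psp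

variable {F : Type u} [Field F] [Finite F] {m : ℕ}

theorem finite_sp : Finite (symplecticGroup (Fin m) F) := Subtype.finite

/-- `-1` -/
def neg1 (m : ℕ) (F : Type u) [Field F] : symplecticGroup (Fin m) F := ⟨-1, by
  rw [SymplecticGroup.mem_iff]
  simp⟩

theorem neg1_center : neg1 m F ∈ Subgroup.center (symplecticGroup (Fin m) F) := by
  rw [Subgroup.mem_center_iff]
  intro g
  apply Subtype.ext
  change (g : Matrix (Fin m ⊕ Fin m) (Fin m ⊕ Fin m) F) * -1 =
    -1 * (g : Matrix (Fin m ⊕ Fin m) (Fin m ⊕ Fin m) F)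
  simp

theorem neg1_ne (hm : 1 ≤ m) (h2 : (2 : F) ≠ 0) : neg1 m F ≠ 1 := by
  intro h
  have h1 := congrArg Subtype.val h
  have h3 := congrFun (congrFun h1 (Sum.inl ⟨0, hm⟩)) (Sum.inl ⟨0, hm⟩)
  change (-1 : Matrix (Fin m ⊕ Fin m) (Fin m ⊕ Fin m) F) _ _ = (1 : Matrix _ _ F) _ _ at h3
  rw [Matrix.neg_apply, Matrix.one_apply_eq] at h3
  apply h2
  linear_combination -h3

/-- **From `Sp` to `PSp`.** -/
theorem card_quot (hm : 1 ≤ m) (h2 : (2 : F) ≠ 0) {z : symplecticGroup (Fin m) F} {r : ℕ} (hr : Odd r)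
    (hz : z ^ r = 1) :
    2 * Nat.card (Subgroup.centralizer ({(QuotientGroup.mk z : PSp m F)} : Set (PSp m F))) ≤
      Nat.card (Subgroup.centralizer ({z} : Set (symplecticGroup (Fin m) F))) := by
  have hfin := finite_sp (F := F) (m := m)
  -- commuting modulo the centre is commuting
  have hc : ∀ g : symplecticGroup (Fin m) F, (QuotientGroup.mk g : PSp m F) * QuotientGroup.mk z =
      QuotientGroup.mk z * QuotientGroup.mk g → g * z = z * g := by
    intro g hg
    have h1 : (z * g)⁻¹ * (g * z) ∈ Subgroup.center (symplecticGroup (Fin m) F) := by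
      rw [← QuotientGroup.eq]
      exact hg.symm
    obtain ⟨c, hc, hcz⟩ : ∃ c ∈ Subgroup.center (symplecticGroup (Fin m) F), g * z * g⁻¹ = z * c := by
      refine ⟨_, h1, ?_⟩
      have h3 := Subgroup.mem_center_iff.1 h1 (z * g)
      have h4 : g * z = z * g * ((z * g)⁻¹ * (g * z)) := by group
      have h5 := Subgroup.mem_center_iff.1 h1 g
      calc g * z * g⁻¹ = z * g * ((z * g)⁻¹ * (g * z)) * g⁻¹ := by rw [← h4]
        _ = z * (g * ((z * g)⁻¹ * (g * z))) * g⁻¹ := by group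
        _ = z * (((z * g)⁻¹ * (g * z)) * g) * g⁻¹ := by rw [h5]
        _ = _ := by group
    have h3 : c ^ r = 1 := by
      have h4 : (g * z * g⁻¹) ^ r = 1 := by rw [conj_pow, hz, mul_one, mul_inv_cancel]
      have h5 : Commute z c := Subgroup.mem_center_iff.1 hc z
      rw [hcz, h5.mul_pow, hz, one_mul] at h4
      exact h4
    have h4 : c ^ 2 = 1 := by
      apply Subtype.ext
      change (c : Matrix (Fin m ⊕ Fin m) (Fin m ⊕ Fin m) F) ^ 2 = 1
      rcases ClassicalGeometry.SympInvolutions.center_eq hc with h | h <;> rw [h] <;> simp only [_root_.one_pow, _root_.even_two, _root_.Even.neg_pow]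
    have h5 : c = 1 := by
      obtain ⟨k, rfl⟩ := hr
      rw [pow_succ, pow_mul, h4, one_pow, one_mul] at h3
      exact h3
    rw [h5, mul_one, mul_inv_eq_iff_eq_mul] at hcz
    exact hcz
  -- the homomorphism
  let φ : Subgroup.centralizer ({z} : Set (symplecticGroup (Fin m) F)) →*
      Subgroup.centralizer ({(QuotientGroup.mk z : PSp m F)} : Set (PSp m F)) :=
    ((QuotientGroup.mk' (Subgroup.center (symplecticGroup (Fin m) F))).comp (Subgroup.subtype _)).codRestrict _ (by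
      intro g
      rw [mem_cent']
      have h1 := congrArg (QuotientGroup.mk' (Subgroup.center (symplecticGroup (Fin m) F))) (mem_cent'.1 g.2)
      rw [map_mul, map_mul] at h1
      exact h1)
  have hφ : Function.Surjective φ := by
    rintro ⟨y, hy⟩
    obtain ⟨g, rfl⟩ := QuotientGroup.mk_surjective y
    rw [mem_cent'] at hy
    exact ⟨⟨g, mem_cent'.2 (hc g hy)⟩, rfl⟩
  have h1 : Nat.card φ.ker * Nat.card φ.range = Nat.card (Subgroup.centralizer ({z} : Set (symplecticGroup (Fin m) F))) := by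
    rw [← Subgroup.index_ker φ, Subgroup.card_mul_index]
  have h3 : Nat.card φ.range =
      Nat.card (Subgroup.centralizer ({(QuotientGroup.mk z : PSp m F)} : Set (PSp m F))) := by
    rw [MonoidHom.range_eq_top.2 hφ]
    exact Nat.card_congr Subgroup.topEquiv.toEquiv
  have h4 : 2 ≤ Nat.card φ.ker := by
    let n1 : Subgroup.centralizer ({z} : Set (symplecticGroup (Fin m) F)) :=
      ⟨neg1 m F, mem_cent'.2 (Subgroup.mem_center_iff.1 neg1_center z).symm⟩
    have h5 : n1 ∈ φ.ker := by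
      rw [MonoidHom.mem_ker]
      apply Subtype.ext
      exact (QuotientGroup.eq_one_iff _).2 neg1_center
    have h6 : n1 ≠ 1 := fun h => neg1_ne hm h2 (congrArg Subtype.val h)
    have : Nontrivial φ.ker := ⟨⟨⟨n1, h5⟩, 1, fun h => h6 (congrArg Subtype.val h)⟩⟩
    exact Finite.one_lt_card
  rw [← h1, h3]
  exact Nat.mul_le_mul_right _ h4

end psp

end Cfsg.Agent.H333.OZ
end

-- part: H333/OZ/Sp63Data
section
/-!
# Elements of order 7 and 13 of `PSp_6(3)` and their centralizers (helper333, S4842)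

The elements are explicit matrices with a cyclic vector; `SpCent.card_cent_le` reduces the bound of the
centralizer to a count in `(ZMod 3) ^ 6` by the kernel.
-/

set_option autoImplicit false
set_option maxRecDepth 100000

open Matrix Cfsg

namespace Cfsg.Agent.H333.OZ

/-- the matrices of `Sp_6(3)` -/
abbrev M63 : Type := Matrix (Fin 3 ⊕ Fin 3) (Fin 3 ⊕ Fin 3) (ZMod 3)

/-- the cyclic vector -/
def v63 : Fin 3 ⊕ Fin 3 → ZMod 3 := Sum.elim ![1, 0, 0] ![0, 0, 0]

/-- the coordinates -/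
abbrev T63 : Type := ZMod 3 × ZMod 3 × ZMod 3 × ZMod 3 × ZMod 3 × ZMod 3

/-- the vector with given coordinates -/
def vec63 (a : T63) : Fin 3 ⊕ Fin 3 → ZMod 3 :=
  Sum.elim ![a.1, a.2.1, a.2.2.1] ![a.2.2.2.1, a.2.2.2.2.1, a.2.2.2.2.2]

/-- the coordinates of a vector -/
def co63 (b : Fin 3 ⊕ Fin 3 → ZMod 3) : T63 :=
  (b (Sum.inl 0), b (Sum.inl 1), b (Sum.inl 2), b (Sum.inr 0), b (Sum.inr 1), b (Sum.inr 2))

theorem vec_co63 (b : Fin 3 ⊕ Fin 3 → ZMod 3) : vec63 (co63 b) = b := by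
  funext i
  rcases i with i | i <;> fin_cases i <;> rfl

theorem co63_inj : Function.Injective co63 := fun a b h => by
  rw [← vec_co63 a, ← vec_co63 b, h]

/-- a sum of six terms -/
private def s63 (f : Fin 3 ⊕ Fin 3 → ℕ) : ℕ :=
  Nat.add (Nat.add (Nat.add (f (.inl 0)) (f (.inl 1))) (f (.inl 2))) (Nat.add (Nat.add (f (.inr 0)) (f (.inr 1))) (f (.inr 2)))

private theorem s63_eq (f : Fin 3 ⊕ Fin 3 → ℕ) : s63 f = ∑ i, f i := by
  rw [Fintype.sum_sum_type, Fin.sum_univ_three, Fin.sum_univ_three]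
  rfl

/-- a form on natural numbers -/
private def q63 (M : M63) (x : Fin 3 ⊕ Fin 3 → ZMod 3) : ℕ :=
  Nat.mod (s63 fun i => Nat.mul (x i).val (s63 fun j => Nat.mul (M i j).val (x j).val)) 3

private theorem q63_iff (M : M63) (x : Fin 3 ⊕ Fin 3 → ZMod 3) (c : ZMod 3) :
    x ⬝ᵥ (M *ᵥ x) = c ↔ Nat.beq (q63 M x) c.val = true := by
  have h : x ⬝ᵥ (M *ᵥ x) = ((s63 fun i => Nat.mul (x i).val (s63 fun j => Nat.mul (M i j).val (x j).val) : ℕ) : ZMod 3) := by
    simp only [s63_eq, Nat.mul_eq, Nat.cast_sum, Nat.cast_mul, ZMod.natCast_zmod_val]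
    rfl
  rw [h, Nat.beq_eq, ← (ZMod.val_injective 3).eq_iff, ZMod.val_natCast]
  rfl

/-- an element of order 7 -/
def a7 : M63 := fromBlocks !![1, 2, 1; 0, 0, 0; 2, 2, 2] !![2, 0, 1; 1, 0, 2; 1, 1, 0]
    !![0, 0, 0; 1, 0, 2; 0, 0, 0] !![1, 1, 1; 1, 2, 2; 2, 1, 2]

/-- the cyclic basis -/
def a7E : M63 := fromBlocks !![1, 1, 0; 0, 0, 0; 0, 2, 1] !![1, 1, 1; 0, 1, 1; 1, 2, 2]
    !![0, 0, 1; 0, 1, 1; 0, 0, 1] !![0, 0, 2; 1, 0, 0; 2, 2, 1]

/-- the inverse -/
def a7Ei : M63 := fromBlocks !![1, 2, 2; 0, 1, 1; 0, 0, 2] !![2, 1, 1; 0, 2, 0; 2, 2, 1]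
    !![0, 2, 0; 0, 1, 1; 0, 0, 2] !![1, 0, 2; 2, 1, 2; 1, 2, 1]

/-- the form `ω(x, z ^ 1 y)` -/
def a7M1 : M63 := fromBlocks !![0, 0, 0; 2, 0, 1; 0, 0, 0] !![2, 2, 2; 2, 1, 1; 1, 2, 1]
    !![1, 2, 1; 0, 0, 0; 2, 2, 2] !![2, 0, 1; 1, 0, 2; 1, 1, 0]

/-- the form `ω(x, z ^ 2 y)` -/
def a7M2 : M63 := fromBlocks !![2, 0, 1; 2, 0, 0; 2, 0, 1] !![2, 2, 1; 1, 0, 2; 2, 0, 1]
    !![0, 1, 0; 0, 0, 0; 1, 2, 2] !![0, 1, 0; 2, 0, 2; 1, 2, 0]

/-- the form `ω(x, z ^ 3 y)` -/
def a7M3 : M63 := fromBlocks !![0, 0, 2; 2, 1, 2; 1, 0, 1] !![2, 2, 1; 0, 0, 1; 0, 1, 0]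
    !![1, 0, 2; 0, 0, 0; 1, 0, 0] !![2, 2, 1; 0, 1, 0; 0, 1, 1]

/-- the power 2 -/
def a7P2 : M63 := fromBlocks !![0, 1, 0; 0, 0, 0; 1, 2, 2] !![0, 1, 0; 2, 0, 2; 1, 2, 0]
    !![1, 0, 2; 1, 0, 0; 1, 0, 2] !![1, 1, 2; 2, 0, 1; 1, 0, 2]

/-- the power 4 -/
def a7P4 : M63 := fromBlocks !![1, 0, 0; 1, 0, 2; 2, 2, 0] !![1, 0, 0; 1, 2, 2; 2, 0, 2]
    !![0, 2, 1; 0, 1, 0; 2, 2, 1] !![1, 0, 1; 0, 0, 0; 2, 0, 0]

/-- the power 6 -/
def a7P6 : M63 := fromBlocks !![1, 1, 2; 1, 2, 1; 1, 2, 2] !![1, 2, 2; 0, 0, 2; 2, 1, 0]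
    !![0, 2, 0; 0, 0, 0; 0, 1, 0] !![1, 0, 2; 2, 0, 2; 1, 0, 2]

theorem a7_sp : a7 * J (Fin 3) (ZMod 3) * a7ᵀ = J (Fin 3) (ZMod 3) := by decide +kernel

theorem a7_E : a7E * a7Ei = 1 := by decide +kernel

theorem a7_M1 : J (Fin 3) (ZMod 3) * a7 = a7M1 := by decide +kernel

theorem a7_M2 : a7M1 * a7 = a7M2 := by decide +kernel

theorem a7_M3 : a7M2 * a7 = a7M3 := by decide +kernel

theorem a7_P2 : a7 * a7 = a7P2 := by decide +kernel

theorem a7_P4 : a7P2 * a7P2 = a7P4 := by decide +kernel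

theorem a7_P6 : a7P4 * a7P2 = a7P6 := by decide +kernel

theorem a7_P7 : a7P6 * a7 = 1 := by decide +kernel

theorem a7_pow : a7 ^ 7 = 1 := by
  have h2 : a7 ^ 2 = a7P2 := by rw [pow_two, a7_P2]
  have h4 : a7 ^ 4 = a7P4 := by rw [show (4 : ℕ) = 2 + 2 from rfl, pow_add, h2, a7_P4]
  have h6 : a7 ^ 6 = a7P6 := by rw [show (6 : ℕ) = 4 + 2 from rfl, pow_add, h4, h2, a7_P6]
  rw [show (7 : ℕ) = 6 + 1 from rfl, pow_add, h6, pow_one, a7_P7]

/-- the vectors with the same products -/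
def a7T : Finset T63 := Finset.univ.filter fun a =>
  vec63 a ⬝ᵥ (a7M1 *ᵥ vec63 a) = 0 ∧ vec63 a ⬝ᵥ (a7M2 *ᵥ vec63 a) = 2 ∧
    vec63 a ⬝ᵥ (a7M3 *ᵥ vec63 a) = 0

private noncomputable def _root_.Cfsg.Agent.LsF.f8a3916_0 : {f // @Cfsg.Agent.H333.OZ.q63 = f} := ⟨_, by first | (delta Cfsg.Agent.H333.OZ.q63; rewrite [Cfsg.Agent.LsF.zval_eq]; exact rfl) | exact rfl⟩
private noncomputable def _root_.Cfsg.Agent.LsF.f8a3916_1 : {f // @Cfsg.Agent.H333.OZ.a7M1 = f} := ⟨_, by first | (delta Cfsg.Agent.H333.OZ.a7M1; rewrite [Cfsg.Agent.LsF.mof_pat, Cfsg.Agent.LsF.vecCons_eq]; exact rfl) | exact rfl⟩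
private noncomputable def _root_.Cfsg.Agent.LsF.f8a3916_2 : {f // @Cfsg.Agent.H333.OZ.vec63 = f} := ⟨_, by first | (delta Cfsg.Agent.H333.OZ.vec63; rewrite [Cfsg.Agent.LsF.vecCons_eq]; exact rfl) | exact rfl⟩
private noncomputable def _root_.Cfsg.Agent.LsF.f8a3916_3 : {f // @Cfsg.Agent.H333.OZ.a7M2 = f} := ⟨_, by first | (delta Cfsg.Agent.H333.OZ.a7M2; rewrite [Cfsg.Agent.LsF.mof_pat, Cfsg.Agent.LsF.vecCons_eq]; exact rfl) | exact rfl⟩
private noncomputable def _root_.Cfsg.Agent.LsF.f8a3916_4 : {f // @Cfsg.Agent.H333.OZ.a7M3 = f} := ⟨_, by first | (delta Cfsg.Agent.H333.OZ.a7M3; rewrite [Cfsg.Agent.LsF.mof_pat, Cfsg.Agent.LsF.vecCons_eq]; exact rfl) | exact rfl⟩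
theorem a7_card : a7T.card = 28 := by
  have h : a7T = Finset.univ.filter fun a => (Nat.beq (q63 a7M1 (vec63 a)) 0 && (Nat.beq (q63 a7M2 (vec63 a)) 2 &&
      Nat.beq (q63 a7M3 (vec63 a)) 0)) = true :=
    Finset.filter_congr fun a _ => by
      rw [q63_iff, q63_iff, q63_iff, Bool.and_eq_true, Bool.and_eq_true]
      rfl
  rw [h]
  (refine of_decide_eq_true ?_; (try (rewrite [Cfsg.Agent.LsF.f8a3916_0.2, Cfsg.Agent.LsF.f8a3916_1.2, Cfsg.Agent.LsF.f8a3916_2.2, Cfsg.Agent.LsF.f8a3916_3.2, Cfsg.Agent.LsF.f8a3916_4.2, Cfsg.Agent.LsF.zFintype_eq, Cfsg.Agent.LsF.prodFintype_eq, Cfsg.Agent.LsF.fcard_eq, Cfsg.Agent.LsF.ffilter_eq, Cfsg.Agent.LsF.and_eq, Cfsg.Agent.LsF.instDecEq_eq, Cfsg.Agent.LsF.dBoolEq_eq, Cfsg.Agent.LsF.decide_eq])); decide +kernel)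

theorem a7_v1 : v63 ⬝ᵥ (a7M1 *ᵥ v63) = 0 := by decide +kernel

theorem a7_v2 : v63 ⬝ᵥ (a7M2 *ᵥ v63) = 2 := by decide +kernel

theorem a7_v3 : v63 ⬝ᵥ (a7M3 *ᵥ v63) = 0 := by decide +kernel

theorem a7_col0 : (fun i => a7E i (Sum.inl 0)) = v63 := by decide +kernel

theorem a7_col1 : (fun i => a7E i (Sum.inl 1)) = a7 *ᵥ (fun i => a7E i (Sum.inl 0)) := by
  decide +kernel

theorem a7_col2 : (fun i => a7E i (Sum.inl 2)) = a7 *ᵥ (fun i => a7E i (Sum.inl 1)) := by
  decide +kernel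

theorem a7_col3 : (fun i => a7E i (Sum.inr 0)) = a7 *ᵥ (fun i => a7E i (Sum.inl 2)) := by
  decide +kernel

theorem a7_col4 : (fun i => a7E i (Sum.inr 1)) = a7 *ᵥ (fun i => a7E i (Sum.inr 0)) := by
  decide +kernel

theorem a7_col5 : (fun i => a7E i (Sum.inr 2)) = a7 *ᵥ (fun i => a7E i (Sum.inr 1)) := by
  decide +kernel

theorem a7_col (j : Fin 3 ⊕ Fin 3) : ∃ n : ℕ, (fun i => a7E i j) = a7 ^ n *ᵥ v63 := by
  have h0 : (fun i => a7E i (Sum.inl 0)) = a7 ^ 0 *ᵥ v63 := by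
    rw [pow_zero, one_mulVec, a7_col0]
  have h1 : (fun i => a7E i (Sum.inl 1)) = a7 ^ 1 *ᵥ v63 := by
    rw [a7_col1, h0, mulVec_mulVec, ← pow_succ']
  have h2 : (fun i => a7E i (Sum.inl 2)) = a7 ^ 2 *ᵥ v63 := by
    rw [a7_col2, h1, mulVec_mulVec, ← pow_succ']
  have h3 : (fun i => a7E i (Sum.inr 0)) = a7 ^ 3 *ᵥ v63 := by
    rw [a7_col3, h2, mulVec_mulVec, ← pow_succ']
  have h4 : (fun i => a7E i (Sum.inr 1)) = a7 ^ 4 *ᵥ v63 := by
    rw [a7_col4, h3, mulVec_mulVec, ← pow_succ']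
  have h5 : (fun i => a7E i (Sum.inr 2)) = a7 ^ 5 *ᵥ v63 := by
    rw [a7_col5, h4, mulVec_mulVec, ← pow_succ']
  rcases j with j | j <;> fin_cases j
  · exact ⟨0, h0⟩
  · exact ⟨1, h1⟩
  · exact ⟨2, h2⟩
  · exact ⟨3, h3⟩
  · exact ⟨4, h4⟩
  · exact ⟨5, h5⟩

/-- the element of `Sp_6(3)` -/
def a7s : symplecticGroup (Fin 3) (ZMod 3) := ⟨a7, SymplecticGroup.mem_iff.2 a7_sp⟩

theorem a7s_pow : a7s ^ 7 = 1 := Subtype.ext a7_pow

theorem a7_cent : Nat.card (Subgroup.centralizer ({a7s} : Set (symplecticGroup (Fin 3) (ZMod 3)))) ≤ 28 := by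
  rw [← a7_card]
  refine card_cent_le a7s v63 a7E a7Ei a7_E a7_col a7T co63 co63_inj fun b hb => ?_
  have e1 : ∀ x : Fin 3 ⊕ Fin 3 → ZMod 3, J (Fin 3) (ZMod 3) *ᵥ (a7 ^ 1 *ᵥ x) = a7M1 *ᵥ x := by
    intro x
    rw [mulVec_mulVec, pow_one, a7_M1]
  have e2 : ∀ x : Fin 3 ⊕ Fin 3 → ZMod 3, J (Fin 3) (ZMod 3) *ᵥ (a7 ^ 2 *ᵥ x) = a7M2 *ᵥ x := by
    intro x
    rw [mulVec_mulVec, pow_succ, pow_one, ← Matrix.mul_assoc, a7_M1, a7_M2]
  have e3 : ∀ x : Fin 3 ⊕ Fin 3 → ZMod 3, J (Fin 3) (ZMod 3) *ᵥ (a7 ^ 3 *ᵥ x) = a7M3 *ᵥ x := by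
    intro x
    rw [mulVec_mulVec, pow_succ, pow_succ, pow_one, ← Matrix.mul_assoc, ← Matrix.mul_assoc, a7_M1, a7_M2,
      a7_M3]
  have h1 := hb 1
  have h2 := hb 2
  have h3 := hb 3
  change b ⬝ᵥ (J (Fin 3) (ZMod 3) *ᵥ (a7 ^ 1 *ᵥ b)) = v63 ⬝ᵥ (J (Fin 3) (ZMod 3) *ᵥ (a7 ^ 1 *ᵥ v63)) at h1
  change b ⬝ᵥ (J (Fin 3) (ZMod 3) *ᵥ (a7 ^ 2 *ᵥ b)) = v63 ⬝ᵥ (J (Fin 3) (ZMod 3) *ᵥ (a7 ^ 2 *ᵥ v63)) at h2
  change b ⬝ᵥ (J (Fin 3) (ZMod 3) *ᵥ (a7 ^ 3 *ᵥ b)) = v63 ⬝ᵥ (J (Fin 3) (ZMod 3) *ᵥ (a7 ^ 3 *ᵥ v63)) at h3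
  rw [e1, e1, a7_v1] at h1
  rw [e2, e2, a7_v2] at h2
  rw [e3, e3, a7_v3] at h3
  rw [a7T, Finset.mem_filter, vec_co63]
  exact ⟨Finset.mem_univ _, h1, h2, h3⟩

/-- an element of order 13 -/
def a13 : M63 := fromBlocks !![0, 1, 0; 2, 2, 2; 0, 1, 0] !![2, 0, 2; 0, 2, 0; 0, 0, 1]
    !![0, 2, 2; 0, 0, 0; 0, 0, 1] !![0, 2, 0; 2, 0, 0; 0, 2, 1]

/-- the cyclic basis -/
def a13E : M63 := fromBlocks !![1, 0, 2; 0, 2, 1; 0, 0, 2] !![0, 2, 2; 1, 2, 2; 1, 0, 0]
    !![0, 0, 1; 0, 0, 0; 0, 0, 0] !![0, 2, 1; 2, 0, 1; 2, 1, 1]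

/-- the inverse -/
def a13Ei : M63 := fromBlocks !![1, 0, 0; 0, 2, 1; 0, 0, 1] !![1, 1, 2; 2, 2, 1; 2, 2, 2]
    !![0, 0, 2; 0, 0, 0; 0, 0, 2] !![2, 2, 2; 0, 2, 1; 2, 0, 2]

/-- the form `ω(x, z ^ 1 y)` -/
def a13M1 : M63 := fromBlocks !![0, 1, 1; 0, 0, 0; 0, 0, 2] !![0, 1, 0; 1, 0, 0; 0, 1, 2]
    !![0, 1, 0; 2, 2, 2; 0, 1, 0] !![2, 0, 2; 0, 2, 0; 0, 0, 1]

/-- the form `ω(x, z ^ 2 y)` -/
def a13M2 : M63 := fromBlocks !![2, 0, 2; 0, 2, 2; 0, 2, 2] !![2, 2, 1; 0, 2, 0; 2, 1, 1]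
    !![2, 0, 2; 1, 2, 1; 2, 2, 0] !![0, 1, 2; 2, 1, 0; 0, 1, 1]

/-- the form `ω(x, z ^ 3 y)` -/
def a13M3 : M63 := fromBlocks !![0, 2, 2; 1, 0, 1; 1, 1, 0] !![2, 0, 1; 1, 1, 2; 2, 1, 0]
    !![0, 1, 2; 1, 1, 2; 1, 0, 2] !![0, 1, 2; 1, 2, 0; 0, 0, 2]

/-- the power 2 -/
def a13P2 : M63 := fromBlocks !![2, 0, 2; 1, 2, 1; 2, 2, 0] !![0, 1, 2; 2, 1, 0; 0, 1, 1]
    !![1, 0, 1; 0, 1, 1; 0, 1, 1] !![1, 1, 2; 0, 1, 0; 1, 2, 2]

/-- the power 4 -/
def a13P4 : M63 := fromBlocks !![2, 1, 1; 2, 1, 1; 0, 0, 2] !![2, 0, 1; 0, 1, 1; 2, 1, 0]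
    !![2, 2, 0; 0, 2, 2; 1, 2, 0] !![0, 2, 0; 2, 0, 1; 2, 0, 1]

/-- the power 8 -/
def a13P8 : M63 := fromBlocks !![2, 0, 2; 1, 1, 1; 1, 0, 0] !![2, 0, 1; 1, 2, 2; 0, 0, 1]
    !![2, 2, 2; 0, 2, 0; 2, 0, 0] !![2, 2, 0; 0, 2, 0; 1, 0, 1]

/-- the power 12 -/
def a13P12 : M63 := fromBlocks !![0, 2, 0; 2, 0, 2; 0, 0, 1] !![1, 0, 0; 0, 1, 0; 1, 0, 2]
    !![0, 0, 0; 1, 0, 0; 1, 0, 2] !![0, 2, 0; 1, 2, 1; 0, 2, 0]

theorem a13_sp : a13 * J (Fin 3) (ZMod 3) * a13ᵀ = J (Fin 3) (ZMod 3) := by decide +kernel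

theorem a13_E : a13E * a13Ei = 1 := by decide +kernel

theorem a13_M1 : J (Fin 3) (ZMod 3) * a13 = a13M1 := by decide +kernel

theorem a13_M2 : a13M1 * a13 = a13M2 := by decide +kernel

theorem a13_M3 : a13M2 * a13 = a13M3 := by decide +kernel

theorem a13_P2 : a13 * a13 = a13P2 := by decide +kernel

theorem a13_P4 : a13P2 * a13P2 = a13P4 := by decide +kernel

theorem a13_P8 : a13P4 * a13P4 = a13P8 := by decide +kernel

theorem a13_P12 : a13P8 * a13P4 = a13P12 := by decide +kernel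

theorem a13_P13 : a13P12 * a13 = 1 := by decide +kernel

theorem a13_pow : a13 ^ 13 = 1 := by
  have h2 : a13 ^ 2 = a13P2 := by rw [pow_two, a13_P2]
  have h4 : a13 ^ 4 = a13P4 := by rw [show (4 : ℕ) = 2 + 2 from rfl, pow_add, h2, a13_P4]
  have h8 : a13 ^ 8 = a13P8 := by rw [show (8 : ℕ) = 4 + 4 from rfl, pow_add, h4, a13_P8]
  have h12 : a13 ^ 12 = a13P12 := by rw [show (12 : ℕ) = 8 + 4 from rfl, pow_add, h8, h4, a13_P12]
  rw [show (13 : ℕ) = 12 + 1 from rfl, pow_add, h12, pow_one, a13_P13]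

/-- the vectors with the same products -/
def a13T : Finset T63 := Finset.univ.filter fun a =>
  vec63 a ⬝ᵥ (a13M1 *ᵥ vec63 a) = 0 ∧ vec63 a ⬝ᵥ (a13M2 *ᵥ vec63 a) = 2 ∧
    vec63 a ⬝ᵥ (a13M3 *ᵥ vec63 a) = 0

private noncomputable def _root_.Cfsg.Agent.LsF.f8a3916_5 : {f // @Cfsg.Agent.H333.OZ.a13M1 = f} := ⟨_, by first | (delta Cfsg.Agent.H333.OZ.a13M1; rewrite [Cfsg.Agent.LsF.mof_pat, Cfsg.Agent.LsF.vecCons_eq]; exact rfl) | exact rfl⟩
private noncomputable def _root_.Cfsg.Agent.LsF.f8a3916_6 : {f // @Cfsg.Agent.H333.OZ.a13M2 = f} := ⟨_, by first | (delta Cfsg.Agent.H333.OZ.a13M2; rewrite [Cfsg.Agent.LsF.mof_pat, Cfsg.Agent.LsF.vecCons_eq]; exact rfl) | exact rfl⟩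
private noncomputable def _root_.Cfsg.Agent.LsF.f8a3916_7 : {f // @Cfsg.Agent.H333.OZ.a13M3 = f} := ⟨_, by first | (delta Cfsg.Agent.H333.OZ.a13M3; rewrite [Cfsg.Agent.LsF.mof_pat, Cfsg.Agent.LsF.vecCons_eq]; exact rfl) | exact rfl⟩
theorem a13_card : a13T.card = 26 := by
  have h : a13T = Finset.univ.filter fun a => (Nat.beq (q63 a13M1 (vec63 a)) 0 && (Nat.beq (q63 a13M2 (vec63 a)) 2 &&
      Nat.beq (q63 a13M3 (vec63 a)) 0)) = true :=
    Finset.filter_congr fun a _ => by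
      rw [q63_iff, q63_iff, q63_iff, Bool.and_eq_true, Bool.and_eq_true]
      rfl
  rw [h]
  (refine of_decide_eq_true ?_; (try (rewrite [Cfsg.Agent.LsF.f8a3916_0.2, Cfsg.Agent.LsF.f8a3916_5.2, Cfsg.Agent.LsF.f8a3916_2.2, Cfsg.Agent.LsF.f8a3916_6.2, Cfsg.Agent.LsF.f8a3916_7.2, Cfsg.Agent.LsF.zFintype_eq, Cfsg.Agent.LsF.prodFintype_eq, Cfsg.Agent.LsF.fcard_eq, Cfsg.Agent.LsF.ffilter_eq, Cfsg.Agent.LsF.and_eq, Cfsg.Agent.LsF.instDecEq_eq, Cfsg.Agent.LsF.dBoolEq_eq, Cfsg.Agent.LsF.decide_eq])); decide +kernel)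

theorem a13_v1 : v63 ⬝ᵥ (a13M1 *ᵥ v63) = 0 := by decide +kernel

theorem a13_v2 : v63 ⬝ᵥ (a13M2 *ᵥ v63) = 2 := by decide +kernel

theorem a13_v3 : v63 ⬝ᵥ (a13M3 *ᵥ v63) = 0 := by decide +kernel

theorem a13_col0 : (fun i => a13E i (Sum.inl 0)) = v63 := by decide +kernel

theorem a13_col1 : (fun i => a13E i (Sum.inl 1)) = a13 *ᵥ (fun i => a13E i (Sum.inl 0)) := by
  decide +kernel

theorem a13_col2 : (fun i => a13E i (Sum.inl 2)) = a13 *ᵥ (fun i => a13E i (Sum.inl 1)) := by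
  decide +kernel

theorem a13_col3 : (fun i => a13E i (Sum.inr 0)) = a13 *ᵥ (fun i => a13E i (Sum.inl 2)) := by
  decide +kernel

theorem a13_col4 : (fun i => a13E i (Sum.inr 1)) = a13 *ᵥ (fun i => a13E i (Sum.inr 0)) := by
  decide +kernel

theorem a13_col5 : (fun i => a13E i (Sum.inr 2)) = a13 *ᵥ (fun i => a13E i (Sum.inr 1)) := by
  decide +kernel

theorem a13_col (j : Fin 3 ⊕ Fin 3) : ∃ n : ℕ, (fun i => a13E i j) = a13 ^ n *ᵥ v63 := by
  have h0 : (fun i => a13E i (Sum.inl 0)) = a13 ^ 0 *ᵥ v63 := by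
    rw [pow_zero, one_mulVec, a13_col0]
  have h1 : (fun i => a13E i (Sum.inl 1)) = a13 ^ 1 *ᵥ v63 := by
    rw [a13_col1, h0, mulVec_mulVec, ← pow_succ']
  have h2 : (fun i => a13E i (Sum.inl 2)) = a13 ^ 2 *ᵥ v63 := by
    rw [a13_col2, h1, mulVec_mulVec, ← pow_succ']
  have h3 : (fun i => a13E i (Sum.inr 0)) = a13 ^ 3 *ᵥ v63 := by
    rw [a13_col3, h2, mulVec_mulVec, ← pow_succ']
  have h4 : (fun i => a13E i (Sum.inr 1)) = a13 ^ 4 *ᵥ v63 := by
    rw [a13_col4, h3, mulVec_mulVec, ← pow_succ']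
  have h5 : (fun i => a13E i (Sum.inr 2)) = a13 ^ 5 *ᵥ v63 := by
    rw [a13_col5, h4, mulVec_mulVec, ← pow_succ']
  rcases j with j | j <;> fin_cases j
  · exact ⟨0, h0⟩
  · exact ⟨1, h1⟩
  · exact ⟨2, h2⟩
  · exact ⟨3, h3⟩
  · exact ⟨4, h4⟩
  · exact ⟨5, h5⟩

/-- the element of `Sp_6(3)` -/
def a13s : symplecticGroup (Fin 3) (ZMod 3) := ⟨a13, SymplecticGroup.mem_iff.2 a13_sp⟩

theorem a13s_pow : a13s ^ 13 = 1 := Subtype.ext a13_pow

theorem a13_cent : Nat.card (Subgroup.centralizer ({a13s} : Set (symplecticGroup (Fin 3) (ZMod 3)))) ≤ 26 := by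
  rw [← a13_card]
  refine card_cent_le a13s v63 a13E a13Ei a13_E a13_col a13T co63 co63_inj fun b hb => ?_
  have e1 : ∀ x : Fin 3 ⊕ Fin 3 → ZMod 3, J (Fin 3) (ZMod 3) *ᵥ (a13 ^ 1 *ᵥ x) = a13M1 *ᵥ x := by
    intro x
    rw [mulVec_mulVec, pow_one, a13_M1]
  have e2 : ∀ x : Fin 3 ⊕ Fin 3 → ZMod 3, J (Fin 3) (ZMod 3) *ᵥ (a13 ^ 2 *ᵥ x) = a13M2 *ᵥ x := by
    intro x
    rw [mulVec_mulVec, pow_succ, pow_one, ← Matrix.mul_assoc, a13_M1, a13_M2]
  have e3 : ∀ x : Fin 3 ⊕ Fin 3 → ZMod 3, J (Fin 3) (ZMod 3) *ᵥ (a13 ^ 3 *ᵥ x) = a13M3 *ᵥ x := by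
    intro x
    rw [mulVec_mulVec, pow_succ, pow_succ, pow_one, ← Matrix.mul_assoc, ← Matrix.mul_assoc, a13_M1, a13_M2,
      a13_M3]
  have h1 := hb 1
  have h2 := hb 2
  have h3 := hb 3
  change b ⬝ᵥ (J (Fin 3) (ZMod 3) *ᵥ (a13 ^ 1 *ᵥ b)) = v63 ⬝ᵥ (J (Fin 3) (ZMod 3) *ᵥ (a13 ^ 1 *ᵥ v63)) at h1
  change b ⬝ᵥ (J (Fin 3) (ZMod 3) *ᵥ (a13 ^ 2 *ᵥ b)) = v63 ⬝ᵥ (J (Fin 3) (ZMod 3) *ᵥ (a13 ^ 2 *ᵥ v63)) at h2
  change b ⬝ᵥ (J (Fin 3) (ZMod 3) *ᵥ (a13 ^ 3 *ᵥ b)) = v63 ⬝ᵥ (J (Fin 3) (ZMod 3) *ᵥ (a13 ^ 3 *ᵥ v63)) at h3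
  rw [e1, e1, a13_v1] at h1
  rw [e2, e2, a13_v2] at h2
  rw [e3, e3, a13_v3] at h3
  rw [a13T, Finset.mem_filter, vec_co63]
  exact ⟨Finset.mem_univ _, h1, h2, h3⟩

/-- an element with square `-1` which commutes with `a7` -/
def a4 : M63 := fromBlocks !![2, 0, 2; 2, 1, 1; 1, 0, 0] !![0, 2, 2; 2, 1, 0; 2, 0, 1]
    !![2, 1, 0; 1, 2, 1; 0, 1, 0] !![1, 1, 2; 0, 2, 0; 1, 2, 0]

theorem a4_sp : a4 * J (Fin 3) (ZMod 3) * a4ᵀ = J (Fin 3) (ZMod 3) := by decide +kernel

theorem a4_sq : a4 * a4 = -1 := by decide +kernel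

theorem a4_comm : a4 * a7 = a7 * a4 := by decide +kernel

/-- the element of `Sp_6(3)` -/
def a4s : symplecticGroup (Fin 3) (ZMod 3) := ⟨a4, SymplecticGroup.mem_iff.2 a4_sp⟩

end Cfsg.Agent.H333.OZ
end

-- part: H333/OZ/Psp63
section
/-!
# One vanishing class: `PSp_6(3)` (helper333, S4842)

`|G| = 2^9 3^9 5 7 13`. The isolated prime 13 and `|C(z)| = 14` for `z` of order 7 leave the degrees
27, 729, 64, 1728. Burnside's theorem and the subgroup `M = Sp_2(3) ∘ Sp_4(3)` (index `3^4 7 13`)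
finish: `3 ^ 9 ∣ |C(x)|` for 27, 729, `|M| ≤ |C(x)|` for 64, `8 ≤ |C(x)|` for 1728.
-/

set_option autoImplicit false
set_option maxRecDepth 100000

open Cfsg Cfsg.Agent.Characters Cfsg.Agent.H732.VZ Cfsg.Agent.H604.OZ

namespace Cfsg.Agent.H333.OZ

universe u

/-! ### general group theory -/

section gen

variable {G : Type u} [Group G]

/-- a `p`-element is conjugate into a subgroup of index prime to `p` -/
theorem exists_conj_mem [Finite G] {p : ℕ} (hp : p.Prime) {M : Subgroup G} (hM : ¬ p ∣ M.index) {x : G} {k : ℕ}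
    (hx : x ^ p ^ k = 1) : ∃ y ∈ M, IsConj x y := by
  have : Fact p.Prime := ⟨hp⟩
  have hP : IsPGroup p (Subgroup.zpowers x) := by
    intro g
    obtain ⟨n, hn⟩ := Subgroup.mem_zpowers_iff.1 g.2
    refine ⟨k, ?_⟩
    apply Subtype.ext
    change (g : G) ^ p ^ k = 1
    rw [← hn, ← zpow_natCast, ← zpow_mul, mul_comm, zpow_mul, zpow_natCast, hx, one_zpow]
  have hfin : Finite (G ⧸ M) := inferInstance
  have h1 := hP.nonempty_fixed_point_of_prime_not_dvd_card (G ⧸ M) (by rwa [← Subgroup.index_eq_card])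
  obtain ⟨q, hq⟩ := h1
  obtain ⟨g, rfl⟩ := QuotientGroup.mk_surjective q
  have h2 := hq ⟨x, Subgroup.mem_zpowers x⟩
  have h3 : (QuotientGroup.mk (x * g) : G ⧸ M) = QuotientGroup.mk g := h2
  rw [eq_comm, QuotientGroup.eq] at h3
  refine ⟨_, h3, isConj_iff.2 ⟨g⁻¹, ?_⟩⟩
  group

/-- a central involution: every centralizer has at least four elements -/
theorem four_le_of_central [Finite G] {z : G} (hz : z ∈ Subgroup.center G) (hz1 : z ≠ 1) (hz2 : z * z = 1)
    (hG : 4 ≤ Nat.card G) (a : G) : 4 ≤ Nat.card (Subgroup.centralizer ({a} : Set G)) := by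
  have hc := Subgroup.mem_center_iff.1 hz
  by_cases ha : a = 1 ∨ a = z
  · have h1 : Subgroup.centralizer ({a} : Set G) = ⊤ := by
      rw [eq_top_iff]
      intro g _
      rw [mem_cent']
      rcases ha with rfl | rfl
      · simp
      · exact hc g
    rw [h1, Nat.card_congr Subgroup.topEquiv.toEquiv]
    exact hG
  · push Not at ha
    have m1 : (1 : G) ∈ Subgroup.centralizer ({a} : Set G) := one_mem _
    have m2 : z ∈ Subgroup.centralizer ({a} : Set G) := mem_cent'.2 (hc a).symm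
    have m3 : a ∈ Subgroup.centralizer ({a} : Set G) := mem_cent'.2 rfl
    have m4 : a * z ∈ Subgroup.centralizer ({a} : Set G) := mul_mem m3 m2
    let f : Fin 4 → Subgroup.centralizer ({a} : Set G) := ![⟨1, m1⟩, ⟨z, m2⟩, ⟨a, m3⟩, ⟨a * z, m4⟩]
    have hf : Function.Injective f := by
      have e1 : a * z ≠ 1 := fun h => ha.2 (by
        have := congrArg (· * z) h
        simpa [mul_assoc, hz2] using this)
      have e2 : a * z ≠ z := fun h => ha.1 (by simpa using h)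
      have e3 : a * z ≠ a := fun h => hz1 (by simpa using h)
      intro i j hij
      fin_cases i <;> fin_cases j <;> first | rfl | (exfalso; have hij' := congrArg Subtype.val hij; simp only [f, Fin.mk_one, Fin.zero_eta,
        Fin.isValue, Fin.reduceFinMk, Matrix.cons_val] at hij')
      · exact hz1 hij'.symm
      · exact ha.1 hij'.symm
      · exact e1 hij'.symm
      · exact hz1 hij'
      · exact ha.2 hij'.symm
      · exact e2 hij'.symm
      · exact ha.1 hij'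
      · exact ha.2 hij'
      · exact e3 hij'.symm
      · exact e1 hij'
      · exact e2 hij'
      · exact e3 hij'
    have h1 := Nat.card_le_card_of_injective f hf
    simpa only [_root_.ge_iff_le, _root_.Nat.card_eq_fintype_card, _root_.Fintype.card_fin] using h1

end gen

section Msub

/-- `Sp_2(3)` -/
abbrev SA : Type := Matrix.symplecticGroup (Fin 1) (ZMod 3)

/-- `Sp_4(3)` -/
abbrev SB : Type := Matrix.symplecticGroup (Fin 2) (ZMod 3)

/-- `Sp_6(3)` -/
abbrev SC : Type := Matrix.symplecticGroup (Fin 3) (ZMod 3)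

/-- `Sp_2(3) × Sp_4(3) → Sp_6(3)` -/
def Phi0 : SA × SB →* SC :=
  (H376.SpEmb.reidx (finSumFinEquiv (m := 1) (n := 2))).comp (H376.SpEmb.blk (Fin 1) (Fin 2))

theorem Phi0_inj : Function.Injective Phi0 :=
  (H376.SpEmb.reidx_injective _).comp (H376.SpEmb.blk_injective _ _)

theorem Phi0_neg : Phi0 (neg1 1 (ZMod 3), neg1 2 (ZMod 3)) = neg1 3 (ZMod 3) := by
  apply Subtype.ext
  change ((Phi0 (neg1 1 (ZMod 3), neg1 2 (ZMod 3)) : SC) : M63) = -1
  decide +kernel

/-- `Sp_2(3) × Sp_4(3) → PSp_6(3)` -/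
def Phi : SA × SB →* PSp 3 (ZMod 3) := (QuotientGroup.mk' (Subgroup.center SC)).comp Phi0

theorem mem_ker_Phi {p : SA × SB} : p ∈ Phi.ker ↔ p = 1 ∨ p = (neg1 1 (ZMod 3), neg1 2 (ZMod 3)) := by
  rw [MonoidHom.mem_ker]
  constructor
  · intro h
    have h1 : Phi0 p ∈ Subgroup.center SC := (QuotientGroup.eq_one_iff _).1 h
    rcases ClassicalGeometry.SympInvolutions.center_eq h1 with h2 | h2
    · left
      apply Phi0_inj
      rw [map_one]
      exact Subtype.ext h2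
    · right
      apply Phi0_inj
      rw [Phi0_neg]
      exact Subtype.ext h2
  · rintro (rfl | rfl)
    · exact map_one _
    · refine (QuotientGroup.eq_one_iff _).2 ?_
      rw [Phi0_neg]
      exact neg1_center

theorem two_ne : (2 : ZMod 3) ≠ 0 := by decide

theorem card_SA : Nat.card SA = 24 := by
  rw [S0245.result (F := ZMod 3) (q := 3) (ZMod.card 3) 1]
  rfl

theorem card_SB : Nat.card SB = 51840 := by
  rw [S0245.result (F := ZMod 3) (q := 3) (ZMod.card 3) 2]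
  rfl

theorem card_G : Nat.card (PSp 3 (ZMod 3)) = 4585351680 := by
  have h := H277.ClsPsp.card_psp (F := ZMod 3) (q := 3) (ZMod.card 3) (m := 3) (by norm_num)
  rw [show 3 ^ (3 ^ 2) * ∏ i ∈ Finset.range 3, (3 ^ (2 * (i + 1)) - 1) = 9170703360 by decide +kernel,
    show Nat.gcd 2 (3 - 1) = 2 by decide] at h
  omega

theorem card_ker_Phi : Nat.card Phi.ker = 2 := by
  have h1 : (Phi.ker : Set (SA × SB)) = {1, (neg1 1 (ZMod 3), neg1 2 (ZMod 3))} := by
    ext p
    exact mem_ker_Phi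
  have h2 : Nat.card Phi.ker = ((Phi.ker : Set (SA × SB))).ncard := rfl
  rw [h2, h1, Set.ncard_pair]
  intro h
  exact neg1_ne (F := ZMod 3) (m := 1) le_rfl two_ne (congrArg Prod.fst h).symm

theorem card_range_Phi : Nat.card Phi.range = 622080 := by
  have h1 : Nat.card Phi.ker * Nat.card Phi.range = Nat.card (SA × SB) := by
    rw [← Subgroup.index_ker Phi, Subgroup.card_mul_index]
  rw [Nat.card_prod, card_SA, card_SB, card_ker_Phi] at h1
  omega

theorem index_range_Phi : Phi.range.index = 7371 := by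
  have h1 := Subgroup.card_mul_index Phi.range
  rw [card_range_Phi, card_G] at h1
  omega

/-- the involution centralized by `M` -/
def tinv : PSp 3 (ZMod 3) := Phi (neg1 1 (ZMod 3), 1)

theorem tinv_ne : tinv ≠ 1 := by
  intro h
  have h1 : ((neg1 1 (ZMod 3), 1) : SA × SB) ∈ Phi.ker := h
  rcases mem_ker_Phi.1 h1 with h2 | h2
  · exact neg1_ne (F := ZMod 3) (m := 1) le_rfl two_ne (congrArg Prod.fst h2)
  · exact neg1_ne (F := ZMod 3) (m := 2) (by norm_num) two_ne (congrArg Prod.snd h2).symm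

theorem range_le_tinv : Phi.range ≤ Subgroup.centralizer ({tinv} : Set (PSp 3 (ZMod 3))) := by
  rintro _ ⟨p, rfl⟩
  rw [mem_cent', tinv, ← map_mul, ← map_mul]
  congr 1
  refine Prod.ext ?_ ?_
  · exact Subgroup.mem_center_iff.1 neg1_center p.1
  · change p.2 * 1 = 1 * p.2
    rw [mul_one, one_mul]

/-- the centralizers of the elements of `M` -/
theorem eight_le (p : SA × SB) : 8 ≤ Nat.card (Subgroup.centralizer ({Phi p} : Set (PSp 3 (ZMod 3)))) := by
  have hA : Finite SA := finite_sp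
  have hB : Finite SB := finite_sp
  have sq : ∀ m : ℕ, neg1 m (ZMod 3) * neg1 m (ZMod 3) = 1 := by
    intro m
    apply Subtype.ext
    change (-1 : Matrix (Fin m ⊕ Fin m) (Fin m ⊕ Fin m) (ZMod 3)) * -1 = 1
    rw [neg_mul_neg, one_mul]
  have h1 : 4 ≤ Nat.card (Subgroup.centralizer ({p.1} : Set SA)) :=
    four_le_of_central neg1_center (neg1_ne (F := ZMod 3) (m := 1) le_rfl two_ne) (sq 1) (by rw [card_SA]; norm_num) _
  have h2 : 4 ≤ Nat.card (Subgroup.centralizer ({p.2} : Set SB)) :=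
    four_le_of_central neg1_center (neg1_ne (F := ZMod 3) (m := 2) (by norm_num) two_ne) (sq 2)
      (by rw [card_SB]; norm_num) _
  -- the product of the centralizers
  let D : Subgroup (SA × SB) := (Subgroup.centralizer ({p.1} : Set SA)).prod (Subgroup.centralizer ({p.2} : Set SB))
  have hD : Nat.card D = Nat.card (Subgroup.centralizer ({p.1} : Set SA)) *
      Nat.card (Subgroup.centralizer ({p.2} : Set SB)) := by
    rw [← Nat.card_prod]
    exact Nat.card_congr (Subgroup.prodEquiv _ _).toEquiv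
  have h3 : 16 ≤ Nat.card D := by
    rw [hD]
    exact Nat.mul_le_mul h1 h2
  have h4 : D.map Phi ≤ Subgroup.centralizer ({Phi p} : Set (PSp 3 (ZMod 3))) := by
    rintro _ ⟨d, hd, rfl⟩
    rw [mem_cent', ← map_mul, ← map_mul]
    congr 1
    exact Prod.ext (mem_cent'.1 hd.1) (mem_cent'.1 hd.2)
  have h5 : Nat.card D ≤ 2 * Nat.card (D.map Phi) := by
    have h6 : Nat.card (Phi.comp D.subtype).ker * Nat.card (Phi.comp D.subtype).range = Nat.card D := by
      rw [← Subgroup.index_ker (Phi.comp D.subtype), Subgroup.card_mul_index]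
    have h7 : (Phi.comp D.subtype).range = D.map Phi := by
      rw [MonoidHom.range_comp, Subgroup.range_subtype]
    have h8 : Nat.card (Phi.comp D.subtype).ker ≤ 2 := by
      refine le_of_le_of_eq ?_ card_ker_Phi
      have hfin : Finite Phi.ker := inferInstance
      refine Nat.card_le_card_of_injective (fun y => (⟨((y : D) : SA × SB), y.2⟩ : Phi.ker)) ?_
      intro y y' hyy
      apply Subtype.ext
      apply Subtype.ext
      exact congrArg (fun z : Phi.ker => (z : SA × SB)) hyy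
    rw [← h6, h7]
    exact Nat.mul_le_mul_right _ h8
  have hfinC : Finite (Subgroup.centralizer ({Phi p} : Set (PSp 3 (ZMod 3)))) := by
    have : Finite SC := finite_sp
    infer_instance
  have h9 := Subgroup.card_le_of_le h4
  omega

end Msub

/-! ### the elements of order 7 and 13 -/

section elements

/-- the group is large -/
theorem mk_ne_one {z : SC} (h : 2 * Nat.card (Subgroup.centralizer ({(QuotientGroup.mk z : PSp 3 (ZMod 3))} :
    Set (PSp 3 (ZMod 3)))) ≤ 28) : (QuotientGroup.mk z : PSp 3 (ZMod 3)) ≠ 1 := by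
  intro h1
  rw [h1] at h
  have h2 : Subgroup.centralizer ({(1 : PSp 3 (ZMod 3))} : Set (PSp 3 (ZMod 3))) = ⊤ := by
    rw [eq_top_iff]
    intro g _
    rw [mem_cent', mul_one, one_mul]
  rw [h2, Nat.card_congr Subgroup.topEquiv.toEquiv, card_G] at h
  omega

/-- **an element of order 13** -/
theorem exists_13 : ∃ z : PSp 3 (ZMod 3), orderOf z = 13 ∧
    Nat.card (Subgroup.centralizer ({z} : Set (PSp 3 (ZMod 3)))) ≤ 13 := by
  have h1 := card_quot (F := ZMod 3) (m := 3) (by norm_num) two_ne (z := a13s) (r := 13) (by decide) a13s_pow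
  have h2 := a13_cent
  have h3 : 2 * Nat.card (Subgroup.centralizer ({(QuotientGroup.mk a13s : PSp 3 (ZMod 3))} :
    Set (PSp 3 (ZMod 3)))) ≤ 26 := h1.trans h2
  refine ⟨QuotientGroup.mk a13s, ?_, by omega⟩
  have : Fact (Nat.Prime 13) := ⟨by norm_num⟩
  refine orderOf_eq_prime ?_ (mk_ne_one (by omega))
  have h4 := congrArg (QuotientGroup.mk' (Subgroup.center SC)) a13s_pow
  rw [map_pow, map_one] at h4
  exact h4

/-- **an element of order 7** -/
theorem exists_7 : ∃ z : PSp 3 (ZMod 3), orderOf z = 7 ∧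
    Nat.card (Subgroup.centralizer ({z} : Set (PSp 3 (ZMod 3)))) = 14 := by
  have h1 := card_quot (F := ZMod 3) (m := 3) (by norm_num) two_ne (z := a7s) (r := 7) (by decide) a7s_pow
  have h2 := a7_cent
  have h3 : 2 * Nat.card (Subgroup.centralizer ({(QuotientGroup.mk a7s : PSp 3 (ZMod 3))} :
    Set (PSp 3 (ZMod 3)))) ≤ 28 := h1.trans h2
  have hfin : Finite SC := finite_sp
  have : Fact (Nat.Prime 7) := ⟨by norm_num⟩
  have h5 : orderOf (QuotientGroup.mk a7s : PSp 3 (ZMod 3)) = 7 := by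
    refine orderOf_eq_prime ?_ (mk_ne_one (by omega))
    have h4 := congrArg (QuotientGroup.mk' (Subgroup.center SC)) a7s_pow
    rw [map_pow, map_one] at h4
    exact h4
  refine ⟨QuotientGroup.mk a7s, h5, ?_⟩
  have h6 : 7 ∣ Nat.card (Subgroup.centralizer ({(QuotientGroup.mk a7s : PSp 3 (ZMod 3))} :
      Set (PSp 3 (ZMod 3)))) := by
    rw [← h5]
    exact Subgroup.orderOf_dvd_natCard _ (mem_cent'.2 rfl)
  have h7 : 2 ∣ Nat.card (Subgroup.centralizer ({(QuotientGroup.mk a7s : PSp 3 (ZMod 3))} :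
      Set (PSp 3 (ZMod 3)))) := by
    have e1 : a4s * a4s = neg1 3 (ZMod 3) := Subtype.ext a4_sq
    have e2 : a4s * a7s = a7s * a4s := Subtype.ext a4_comm
    have e3 : orderOf (QuotientGroup.mk a4s : PSp 3 (ZMod 3)) = 2 := by
      have : Fact (Nat.Prime 2) := ⟨Nat.prime_two⟩
      refine orderOf_eq_prime ?_ ?_
      · rw [pow_two]
        exact (QuotientGroup.eq_one_iff (a4s * a4s)).2 (by rw [e1]; exact neg1_center)
      · intro h8
        have h9 : a4s ∈ Subgroup.center SC := (QuotientGroup.eq_one_iff _).1 h8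
        have h10 : a4s * a4s = 1 := by
          apply Subtype.ext
          change (a4s : M63) * (a4s : M63) = 1
          rcases ClassicalGeometry.SympInvolutions.center_eq h9 with h | h <;> rw [h] <;> simp
        rw [e1] at h10
        exact neg1_ne (F := ZMod 3) (m := 3) (by norm_num) two_ne h10
    rw [← e3]
    refine Subgroup.orderOf_dvd_natCard _ (mem_cent'.2 ?_)
    have h8 := congrArg (QuotientGroup.mk' (Subgroup.center SC)) e2
    rw [map_mul, map_mul] at h8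
    exact h8
  have hpos : 0 < Nat.card (Subgroup.centralizer ({(QuotientGroup.mk a7s : PSp 3 (ZMod 3))} :
      Set (PSp 3 (ZMod 3)))) := Nat.card_pos
  omega

end elements

/-! ### the row -/

section row

theorem val_N : Cfsg.Agent.H417.Divs.val [(2, 9), (3, 9), (5, 1), (7, 1), (13, 1)] = 4585351680 := by decide +kernel

theorem notComm : ¬ IsMulCommutative (PSp 3 (ZMod 3)) := by
  intro h
  obtain ⟨z, -, hz⟩ := exists_7
  have h2 : Subgroup.centralizer ({z} : Set (PSp 3 (ZMod 3))) = ⊤ := by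
    rw [eq_top_iff]
    intro g _
    rw [mem_cent']
    exact h.is_comm.comm g z
  rw [h2, Nat.card_congr Subgroup.topEquiv.toEquiv, card_G] at hz
  omega

theorem row_zmod [Finite (PSp 3 (ZMod 3))] [IsSimpleGroup (PSp 3 (ZMod 3))] : H730.OZ.Row (PSp 3 (ZMod 3)) := by
  have hN := card_G
  refine row_of fun χ x h => ?_
  have h4 : 4 ≤ cent x := four_le_cent h (by rw [hN]; norm_num) (by rw [hN]; norm_num)
  obtain ⟨z7, hz7, hc7⟩ := exists_7
  obtain ⟨z13, hz13, hc13⟩ := exists_13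
  have hiso : ∀ r ∈ [7, 13], charDegree (χ : PSp 3 (ZMod 3) → ℂ) % r = 0 ∨
      charDegree (χ : PSp 3 (ZMod 3) → ℂ) % r = 1 ∨ charDegree (χ : PSp 3 (ZMod 3) → ℂ) % r = r - 1 := by
    intro r hr
    simp only [List.mem_cons, List.not_mem_nil, or_false] at hr
    rcases hr with rfl | rfl
    · exact Or.inr (H672.OZ.two_mod_of h (by norm_num) le_rfl (by rw [hN]; norm_num) (by rw [hN]; norm_num)
        (by rw [hN]; norm_num) hz7 hc7 h4)
    · exact H672.OZ.iso_mod_of h (by norm_num) (by norm_num) (by rw [hN]; norm_num) (by rw [hN]; norm_num) hz13 hc13 h4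
  have hm := H672.OZ.mem_of_sieve4 h hN val_N
    (by
      intro x hx
      simp only [List.mem_cons, List.not_mem_nil, or_false] at hx
      rcases hx with rfl | rfl | rfl | rfl | rfl <;> norm_num)
    (by decide +kernel) h4 hiso (D := [27, 729, 64, 1728]) (_root_.Cfsg.Agent.H672.OZ.LowExp.all_of4 (by decide +kernel))
  have := Fintype.ofFinite (PSp 3 (ZMod 3))
  have hna := notComm
  -- Burnside at 3
  have burn3 : ∀ k : ℕ, charDegree (χ : PSp 3 (ZMod 3) → ℂ) = 3 ^ k → 3 ^ 9 ≤ cent x := by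
    intro k hk
    obtain ⟨g, hg, hgi⟩ := exists_central (G := PSp 3 (ZMod 3)) (r := 3) Nat.prime_three (by rw [hN]; norm_num)
    have hg1 : g ≠ 1 := by
      rintro rfl
      rw [orderOf_one] at hg
      omega
    have h0 := eq_zero_of_coprime hna χ h.zero hg1 (by
      rw [hk]
      exact ((Nat.Prime.coprime_iff_not_dvd Nat.prime_three).2 hgi).symm.pow_right k)
    have hcon := h.uniq g h0
    rw [H672.OZ.cent_eq_of_conj hcon]
    refine Nat.le_of_dvd Nat.card_pos ?_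
    have h5 := Subgroup.card_mul_index (Subgroup.centralizer ({g} : Set (PSp 3 (ZMod 3))))
    refine (Nat.Coprime.pow_left 9 ((Nat.Prime.coprime_iff_not_dvd Nat.prime_three).2 hgi)).dvd_of_dvd_mul_right ?_
    rw [h5, hN]
    norm_num
  simp only [List.mem_cons, List.not_mem_nil, or_false] at hm
  rcases hm with hd | hd | hd | hd
  · have h5 := H672.OZ.cent_le_of h hN (r := 5) (n := 1) (by norm_num) hd (by norm_num) (by norm_num) (by norm_num)
    have h6 := burn3 3 hd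
    norm_num only [] at h5 h6
    omega
  · have h5 := H672.OZ.cent_le_of h hN (r := 2) (n := 9) (by norm_num) hd (by norm_num) (by norm_num) (by norm_num)
    have h6 := burn3 6 hd
    norm_num only [] at h5 h6
    omega
  · have h5 := H672.OZ.cent_le_of h hN (r := 2) (n := 9) (by norm_num) hd (by norm_num) (by norm_num) (by norm_num)
    have hodd : Nat.Coprime (Subgroup.centralizer ({tinv} : Set (PSp 3 (ZMod 3)))).index
        (charDegree (χ : PSp 3 (ZMod 3) → ℂ)) := by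
      have h6 : (Subgroup.centralizer ({tinv} : Set (PSp 3 (ZMod 3)))).index ∣ 7371 := by
        rw [← index_range_Phi]
        exact Subgroup.index_dvd_of_le range_le_tinv
      rw [hd]
      exact Nat.Coprime.coprime_dvd_left h6 (by norm_num)
    have h0 := eq_zero_of_coprime hna χ h.zero tinv_ne hodd
    have h7 := H672.OZ.cent_eq_of_conj (h.uniq _ h0)
    have h8 := Subgroup.card_le_of_le range_le_tinv
    rw [card_range_Phi] at h8
    change 622080 ≤ cent tinv at h8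
    norm_num only [] at h5
    omega
  · have h5 := H672.OZ.cent_le_of h hN (r := 5) (n := 1) (by norm_num) hd (by norm_num) (by norm_num) (by norm_num)
    rw [pow_one] at h5
    have hxp : ∃ p k : ℕ, p.Prime ∧ ¬ p ∣ 7371 ∧ x ^ p ^ k = 1 := by
      have h6 : x ^ cent x = 1 := by
        rw [← orderOf_dvd_iff_pow_eq_one]
        exact Subgroup.orderOf_dvd_natCard _ (mem_cent'.2 rfl)
      rcases (by omega : cent x = 4 ∨ cent x = 5) with h7 | h7
      · rw [h7] at h6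
        exact ⟨2, 2, Nat.prime_two, by norm_num, h6⟩
      · rw [h7] at h6
        exact ⟨5, 1, by norm_num, by norm_num, by rw [pow_one]; exact h6⟩
    obtain ⟨p, k, hp, hpi, hxk⟩ := hxp
    obtain ⟨y, ⟨q, rfl⟩, hy⟩ := exists_conj_mem hp (by rw [index_range_Phi]; exact hpi) hxk
    have h7 := H672.OZ.cent_eq_of_conj hy
    have h8 := eight_le q
    change 8 ≤ cent (Phi q) at h8
    omega

/-- **`PSp_6(3)`.** -/
theorem row_psp6_3 (F : Type) [Field F] [Fintype F] (hF : Fintype.card F = 3) (hs : IsSimpleGroup (PSp 3 F)) :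
    H730.OZ.Row (PSp 3 F) := by
  have : Fact (Nat.Prime 3) := ⟨Nat.prime_three⟩
  have e : F ≃+* ZMod 3 := (FiniteField.ringEquivOfCardEq (by rw [hF, ZMod.card])) 
  have hfin : Finite (PSp 3 F) := by
    have : Finite (Matrix.symplecticGroup (Fin 3) F) := finite_sp
    infer_instance
  have hfin' : Finite (PSp 3 (ZMod 3)) := by
    have : Finite SC := finite_sp
    infer_instance
  let f : PSp 3 F ≃* PSp 3 (ZMod 3) := LieClassical.FieldTransfer.pspCongr 3 e
  have hs' : IsSimpleGroup (PSp 3 (ZMod 3)) := f.symm.isSimpleGroup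
  exact H730.OZ.Row.congr f row_zmod

end row

end Cfsg.Agent.H333.OZ
end

private theorem dce_ce31300af465 : _root_.True := by
  try have : _root_.True := by simp only [_root_.Cfsg.Agent.TitsThree.Siegel.HForm.mk.congr_simp]
  try have : _root_.True := by simp only [_root_.Cfsg.Agent.H333.OZ.tinv.eq_1]
  try have : _root_.True := by simp only [_root_.Cfsg.Agent.H62.FrameSL.phiS.congr_simp]
  try have : _root_.True := by simp only [_root_.Cfsg.Agent.H333.OZ.a13T.eq_1]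
  try have : _root_.True := by simp only [_root_.Cfsg.Agent.H333.OZ.a7T.eq_1]
  try have : _root_.True := by simp only [_root_.Cfsg.Agent.TitsThree.SpIdent.form.eq_1]
  try have : _root_.True := by simp only [_root_.Cfsg.Agent.Nodes.WittRGD.nn.eq_1]
  exact _root_.True.intro
end

-- part: H530/OZ/KCRow
section
prune_inst 0x6240044200be200000004050040200215480000000040000008a608040200a00200808000048001101a2200090004002811000020420000000a000400000504010080040420400008c20010000000010000000000000000000000000000000000204010000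
set_option linter.all false
open scoped Cfsg.Agent.FastGrp

-- part: H279/OZ/CoverK
section
/-!
# K-constancy through a central extension, common zeros (S4842, helper279)

* `cover_sylow` : the cyclic Sylow subgroup of the quotient (proof of helper530);
* `cong_of_cover` : `Cong p r k S` for a central extension `π : H →* S`, `z` of order `r`, `K ≤ C_H(z)`, every
  nonprincipal irreducible character of `K` vanishing on all elements of a certain order.
-/

set_option autoImplicit false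

open Cfsg Cfsg.Agent.Characters Cfsg.Agent.H530.OZ

namespace Cfsg.Agent.H279.OZ

universe u v

/-- elements of the same order of a cyclic subgroup -/
theorem mem_zpowers_of_orderOf {D : Type*} [Group D] [Finite D] {H : Subgroup D} (h : IsCyclic H) {x y : D}
    (hx : x ∈ H) (hy : y ∈ H) (hxy : orderOf x = orderOf y) : x ∈ Subgroup.zpowers y := by
  classical
  have := h
  have : Fintype H := Fintype.ofFinite H
  have hpos : 0 < orderOf (⟨y, hy⟩ : H) := orderOf_pos _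
  have h1 := IsCyclic.card_pow_eq_one_le (α := H) hpos
  have h2 : (Finset.univ.filter (fun u : H => u ∈ Subgroup.zpowers (⟨y, hy⟩ : H))) ⊆
      (Finset.univ.filter (fun u : H => u ^ orderOf (⟨y, hy⟩ : H) = 1)) := by
    intro u hu
    simp only [Finset.mem_filter, Finset.mem_univ, true_and] at hu ⊢
    obtain ⟨k, rfl⟩ := Subgroup.mem_zpowers_iff.1 hu
    rw [← zpow_natCast, ← zpow_mul, mul_comm, zpow_mul, zpow_natCast, pow_orderOf_eq_one, one_zpow]
  have h3 : (Finset.univ.filter (fun u : H => u ∈ Subgroup.zpowers (⟨y, hy⟩ : H))).card =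
      orderOf (⟨y, hy⟩ : H) := by
    rw [← Nat.card_zpowers, Nat.card_eq_fintype_card, Fintype.card_subtype]
  have h4 := Finset.eq_of_subset_of_card_le h2 (by rw [h3]; exact h1)
  have h5 : (⟨x, hx⟩ : H) ∈ Finset.univ.filter (fun u : H => u ∈ Subgroup.zpowers (⟨y, hy⟩ : H)) := by
    rw [h4]
    simp only [Finset.mem_filter, Finset.mem_univ, true_and]
    have h6 : orderOf (⟨y, hy⟩ : H) = orderOf (⟨x, hx⟩ : H) := by
      rw [Subgroup.orderOf_mk, Subgroup.orderOf_mk, hxy]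
    rw [h6, pow_orderOf_eq_one]
  simp only [Finset.mem_filter, Finset.mem_univ, true_and] at h5
  obtain ⟨k, hk⟩ := Subgroup.mem_zpowers_iff.1 h5
  exact Subgroup.mem_zpowers_iff.2 ⟨k, congrArg Subtype.val hk⟩

section cover

variable {H : Type v} {S : Type u} [Group H] [Finite H] [Group S] {π : H →* S} {p r c : ℕ}

/-- **A cyclic Sylow subgroup** of the quotient (from the proof of `H530.OZ.isoAt_of_cover`). -/
theorem cover_sylow (hπ : Function.Surjective π) (hr : r.Prime)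
    (hcen : ∀ k ∈ π.ker, ∀ h : H, k * h = h * k)
    (hc : ∀ k ∈ π.ker, k ^ c = 1) (hcr : c.Coprime r) {z : H} (hz : orderOf z = r)
    {L : Type*} [Field L] (τ : Subgroup.centralizer ({z} : Set H) →* Lˣ)
    (hτ : ∀ x : Subgroup.centralizer ({z} : Set H), (∃ j : ℕ, x ^ (r ^ j) = 1) → τ x = 1 → x = 1)
    (hcomm : ∀ x y : Subgroup.centralizer ({z} : Set H), (∃ j : ℕ, x ^ (r ^ j) = 1) → Commute x y) :
    ∃ R' : Sylow r S, IsCyclic (R' : Subgroup S) ∧ orderOf (π z) = r ∧ π z ∈ (R' : Subgroup S) ∧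
      ∀ y, Commute (π z) y → ∀ t ∈ (R' : Subgroup S), Commute t y := by
  classical
  have hfr : Fact r.Prime := ⟨hr⟩
  have hfS : Finite S := Finite.of_surjective π hπ
  have hmem : ∀ {x : H}, x ∈ Subgroup.centralizer ({z} : Set H) ↔ Commute z x := by
    intro x
    rw [Subgroup.mem_centralizer_singleton_iff]
    exact ⟨fun h => h.symm, fun h => h.symm⟩
  have hzz : z ∈ Subgroup.centralizer ({z} : Set H) := hmem.2 (Commute.refl z)
  -- elements of order dividing `r` in the centralizer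
  have hord : ∀ x : H, Commute z x → x ^ r = 1 → x ∈ Subgroup.zpowers z := by
    intro x hx hxr
    set x' : Subgroup.centralizer ({z} : Set H) := ⟨x, hmem.2 hx⟩ with hx'
    set z' : Subgroup.centralizer ({z} : Set H) := ⟨z, hzz⟩ with hz'
    have hz'o : orderOf (τ z') = r := by
      rcases (Nat.dvd_prime hr).1 (orderOf_dvd_of_pow_eq_one (x := τ z') (n := r) (by
        rw [← map_pow]
        have : z' ^ r = 1 := Subtype.ext (by
          show z ^ r = 1
          rw [← hz, pow_orderOf_eq_one])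
        rw [this, map_one])) with h | h
      · exfalso
        have h1 := hτ z' ⟨1, Subtype.ext (by
          show z ^ (r ^ 1) = 1
          rw [pow_one, ← hz, pow_orderOf_eq_one])⟩ (orderOf_eq_one_iff.1 h)
        have h2 : z = 1 := congrArg Subtype.val h1
        rw [h2, orderOf_one] at hz
        exact hr.one_lt.ne hz
      · exact h
    have hprim : IsPrimitiveRoot (τ z' : L) r := by
      rw [← hz'o, ← orderOf_units]
      exact IsPrimitiveRoot.orderOf _
    have hxr' : ((τ x' : Lˣ) : L) ^ r = 1 := by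
      rw [← Units.val_pow_eq_pow_val, ← map_pow]
      have : x' ^ r = 1 := Subtype.ext hxr
      rw [this, map_one, Units.val_one]
    have : NeZero r := ⟨hr.ne_zero⟩
    obtain ⟨i, hi, hi2⟩ := hprim.eq_pow_of_pow_eq_one hxr'
    have h3 : τ (x' * (z' ^ i)⁻¹) = 1 := by
      rw [map_mul, map_inv, map_pow]
      have : τ z' ^ i = τ x' := Units.ext (by rw [Units.val_pow_eq_pow_val]; exact hi2)
      rw [this, mul_inv_cancel]
    have hcx : Commute x' z' := Subtype.ext hx.symm.eq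
    have h4 := hτ (x' * (z' ^ i)⁻¹) ⟨1, by
      have h5 : Commute x' (z' ^ i)⁻¹ := (hcx.pow_right i).inv_right
      rw [pow_one, h5.mul_pow, inv_pow, ← pow_mul, mul_comm i r, pow_mul]
      have h6 : x' ^ r = 1 := Subtype.ext hxr
      have h7 : z' ^ r = 1 := Subtype.ext (by
        show z ^ r = 1
        rw [← hz, pow_orderOf_eq_one])
      rw [h6, h7, one_pow, inv_one, mul_one]⟩ h3
    have h5 : x' = z' ^ i := mul_inv_eq_one.1 h4
    have h6 : x = z ^ i := congrArg Subtype.val h5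
    rw [h6]
    exact Subgroup.npow_mem_zpowers z i
  -- the Sylow subgroup
  have hzP : IsPGroup r (Subgroup.zpowers z) := IsPGroup.of_card (n := 1) (by rw [Nat.card_zpowers, hz, pow_one])
  obtain ⟨R, hR⟩ := hzP.exists_le_sylow
  have hzR : z ∈ (R : Subgroup H) := hR (Subgroup.mem_zpowers z)
  have hz1 : z ≠ 1 := by
    rintro rfl
    rw [orderOf_one] at hz
    exact hr.one_lt.ne hz
  have hRC : (R : Subgroup H) ≤ Subgroup.centralizer ({z} : Set H) := by
    have hnt : Nontrivial (R : Subgroup H) := ⟨⟨⟨z, hzR⟩, 1, fun h => hz1 (congrArg Subtype.val h)⟩⟩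
    have hcnt := R.2.center_nontrivial
    obtain ⟨y, hy⟩ := exists_ne (1 : Subgroup.center (R : Subgroup H))
    -- an element of order `r` in the centre
    have hyo : ∃ j : ℕ, orderOf (y : (R : Subgroup H)) = r ^ (j + 1) := by
      obtain ⟨j, hj⟩ := (IsPGroup.iff_orderOf.1 R.2) (y : (R : Subgroup H))
      rcases j with _ | j
      · exfalso
        rw [pow_zero] at hj
        exact hy (Subtype.ext (orderOf_eq_one_iff.1 hj))
      · exact ⟨j, hj⟩
    obtain ⟨j, hj⟩ := hyo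
    set w : (R : Subgroup H) := (y : (R : Subgroup H)) ^ (r ^ j) with hw
    have hwo : orderOf w = r := by
      rw [hw, orderOf_pow_of_dvd (pow_pos hr.pos j).ne' (by rw [hj]; exact pow_dvd_pow r (Nat.le_succ j)), hj,
        Nat.pow_div (Nat.le_succ j) hr.pos]
      simp
    have hwc : w ∈ Subgroup.center (R : Subgroup H) := Subgroup.pow_mem _ y.2 _
    have hwc' : ∀ t : (R : Subgroup H), t * w = w * t := fun t => (Subgroup.mem_center_iff.1 hwc t)
    have hwz : Commute z (w : H) := by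
      have := congrArg Subtype.val (hwc' ⟨z, hzR⟩)
      exact this
    have hw1 : (w : H) ∈ Subgroup.zpowers z := by
      refine hord _ hwz ?_
      have : w ^ r = 1 := orderOf_dvd_iff_pow_eq_one.1 (dvd_of_eq hwo)
      exact congrArg Subtype.val this
    have hwo' : orderOf (w : H) = r := by rw [Subgroup.orderOf_coe, hwo]
    have hzw : z ∈ Subgroup.zpowers (w : H) := by
      have h1 : Subgroup.zpowers (w : H) ≤ Subgroup.zpowers z := by rwa [Subgroup.zpowers_le]
      have h2 := Subgroup.eq_of_le_of_card_ge h1 (by rw [Nat.card_zpowers, Nat.card_zpowers, hwo', hz])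
      rw [h2]
      exact Subgroup.mem_zpowers z
    intro t ht
    rw [hmem]
    obtain ⟨k, hk⟩ := Subgroup.mem_zpowers_iff.1 hzw
    rw [← hk]
    have h1 : Commute (w : H) t := (congrArg Subtype.val (hwc' ⟨t, ht⟩)).symm
    exact h1.zpow_left k
  have hRr : ∀ x : Subgroup.centralizer ({z} : Set H), (x : H) ∈ (R : Subgroup H) → ∃ j : ℕ, x ^ (r ^ j) = 1 := by
    intro x hx
    obtain ⟨j, hj⟩ := R.2 ⟨x, hx⟩
    have h1 : (x : H) ^ (r ^ j) = 1 := congrArg Subtype.val hj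
    exact ⟨j, Subtype.ext h1⟩
  have hRcyc : IsCyclic (R : Subgroup H) := by
    let f : (R : Subgroup H) →* Lˣ := τ.comp (Subgroup.inclusion hRC)
    have hf : Function.Injective f := by
      rw [injective_iff_map_eq_one]
      intro x hx
      have h1 := hτ (Subgroup.inclusion hRC x) (hRr _ x.2) hx
      have h2 : (x : H) = 1 := congrArg Subtype.val h1
      exact Subtype.ext h2
    let g : (R : Subgroup H) →* L := (Units.coeHom L).comp f
    exact isCyclic_of_injective_ringHom g (fun a b hab => hf (Units.ext hab))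
  set R' : Sylow r S := R.mapSurjective hπ with hR'
  have hR'c : ((R' : Sylow r S) : Subgroup S) = (R : Subgroup H).map π := Sylow.coe_mapSurjective hπ R
  have hR'cyc : IsCyclic (R' : Subgroup S) := by
    rw [hR'c]
    exact isCyclic_of_surjective (π.subgroupMap (R : Subgroup H)) (π.subgroupMap_surjective _)
  -- the order of `π z`
  have hπz : orderOf (π z) = r := by
    rcases (Nat.dvd_prime hr).1 (hz ▸ orderOf_map_dvd π z) with h | h
    · exfalso
      have h1 : π z = 1 := orderOf_eq_one_iff.1 h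
      have h2 : z ^ c = 1 := hc z (MonoidHom.mem_ker.2 h1)
      have h3 : r ∣ c := hz ▸ orderOf_dvd_of_pow_eq_one h2
      exact hr.one_lt.ne' (Nat.dvd_one.1 (hcr ▸ Nat.dvd_gcd h3 dvd_rfl))
    · exact h
  have hC : ∀ y, Commute (π z) y → ∀ t ∈ (R' : Subgroup S), Commute t y := by
    intro y hy t ht
    obtain ⟨y, rfl⟩ := hπ y
    rw [hR'c] at ht
    obtain ⟨t, ht', rfl⟩ := Subgroup.mem_map.1 ht
    have h1 := commute_of_map hcen hc hcr hz hy
    have h2 := hcomm ⟨t, hRC ht'⟩ ⟨y, hmem.2 h1⟩ (hRr ⟨t, hRC ht'⟩ ht')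
    have h3 : Commute t y := congrArg Subtype.val h2.eq
    exact h3.map π
  exact ⟨R', hR'cyc, hπz, by rw [hR'c]; exact Subgroup.mem_map_of_mem π hzR, hC⟩

/-- **K-constancy through a central extension.** -/
theorem cong_of_cover [Finite S] (hπ : Function.Surjective π) (hr : r.Prime) (hp : p.Prime) (hrp : r ≠ p)
    (hcen : ∀ k ∈ π.ker, ∀ h : H, k * h = h * k)
    (hc : ∀ k ∈ π.ker, k ^ c = 1) (hcr : c.Coprime r) (hcp : c.Coprime p) {z : H} (hz : orderOf z = r)
    {L : Type*} [Field L] (τ : Subgroup.centralizer ({z} : Set H) →* Lˣ)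
    (hτ : ∀ x : Subgroup.centralizer ({z} : Set H), (∃ j : ℕ, x ^ (r ^ j) = 1) → τ x = 1 → x = 1)
    (hcomm : ∀ x y : Subgroup.centralizer ({z} : Set H), (∃ j : ℕ, x ^ (r ^ j) = 1) → Commute x y)
    (K : Subgroup H) (hKz : ∀ k ∈ K, Commute z k) (hKr : ¬ r ∣ Nat.card K) (hK1 : K ≠ ⊥)
    (hKc : ∀ k ∈ K, (∀ k' ∈ K, k * k' = k' * k) → k = 1)
    (hKN : ∀ n : H, (∃ m : ℕ, n * z * n⁻¹ = z ^ m) → ∀ k ∈ K, n * k * n⁻¹ ∈ K)
    (hZ : ∀ φ : K → ℂ, IsIrrCharacter K φ → (∃ k, φ k ≠ 1) →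
      ∃ k : K, ∀ k' : K, orderOf k' = orderOf k → φ k' = 0)
    (hpK : ∀ x : H, Commute z x → (∃ j : ℕ, x ^ (p ^ j) = 1) → x ∈ K)
    (hnot : ¬ ((∀ x : H, Commute z x → (∀ k ∈ K, Commute x k) → (π x) ^ r = 1) ∧
      ∀ m : ℕ, ¬ r ∣ m → IsConj z (z ^ m)))
    {k : ℕ} (hk : Nat.card {v : K // ∃ j : ℕ, orderOf v = p ^ j} = p ^ k) : H730.OZ.Cong p r k S := by
  classical
  have hfr : Fact r.Prime := ⟨hr⟩
  have := Fintype.ofFinite S
  obtain ⟨R, hcyc, hπz, hzR, hC⟩ := cover_sylow hπ hr hcen hc hcr hz τ hτ hcomm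
  -- the kernel of `π` on `K`
  have hKker : ∀ k ∈ K, π k = 1 → k = 1 := fun k hk h1 =>
    hKc k hk fun k' _ => hcen k (MonoidHom.mem_ker.2 h1) k'
  let f : K →* K.map π := π.subgroupMap K
  have hfs : Function.Surjective f := π.subgroupMap_surjective K
  have hfi : Function.Injective f := by
    rw [injective_iff_map_eq_one]
    intro x hx
    exact Subtype.ext (hKker x x.2 (congrArg Subtype.val hx))
  have hfa : ∀ x : K, ((f x : K.map π) : S) = π x := fun x => rfl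
  let e : K ≃* K.map π := MulEquiv.ofBijective f ⟨hfi, hfs⟩
  have hKcard : Nat.card (K.map π) = Nat.card K := (Nat.card_congr e.toEquiv).symm
  -- centralizers
  have hCC : Subgroup.centralizer ({π z} : Set S) ≤ Subgroup.centralizer ((R : Subgroup S) : Set S) := by
    intro y hy
    rw [Subgroup.mem_centralizer_singleton_iff] at hy
    rw [Subgroup.mem_centralizer_iff]
    intro t ht
    exact hC y (show π z * y = y * π z from hy.symm) t ht
  have hab : (R : Subgroup S) ≤ Subgroup.centralizer ((R : Subgroup S) : Set S) := by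
    intro a ha
    rw [Subgroup.mem_centralizer_iff]
    intro b hb
    have h1 : (⟨b, hb⟩ : (R : Subgroup S)) * ⟨a, ha⟩ = ⟨a, ha⟩ * ⟨b, hb⟩ := by
      have := hcyc.isMulCommutative
      exact Std.Commutative.comm _ _
    exact congrArg Subtype.val h1
  have hK'C : K.map π ≤ Subgroup.centralizer ((R : Subgroup S) : Set S) := by
    rintro _ ⟨x, hx, rfl⟩
    apply hCC
    rw [Subgroup.mem_centralizer_singleton_iff]
    exact ((hKz x hx).map π).symm.eq
  have hK'r : ¬ r ∣ Nat.card (K.map π) := by rwa [hKcard]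
  -- lifts of the elements commuting with `π z`
  have hlift : ∀ y : S, Commute (π z) y → ∃ x : H, Commute z x ∧ π x = y := by
    intro y hy
    obtain ⟨x, rfl⟩ := hπ y
    exact ⟨x, commute_of_map hcen hc hcr hz hy, rfl⟩
  -- lifts of the normalizer
  have hNlift : ∀ n : S, n ∈ Subgroup.normalizer ((R : Subgroup S) : Set S) →
      ∃ h : H, π h = n ∧ ∃ m : ℕ, h * z * h⁻¹ = z ^ m := by
    intro n hn
    obtain ⟨h, rfl⟩ := hπ n
    refine ⟨h, rfl, ?_⟩
    have h1 : π (h * z * h⁻¹) ∈ (R : Subgroup S) := by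
      rw [map_mul, map_mul, map_inv]
      exact (Subgroup.mem_normalizer_iff.1 hn (π z)).1 hzR
    have h2 : orderOf (π (h * z * h⁻¹)) = r := by
      rw [← hπz]
      have h3 : π (h * z * h⁻¹) = MulAut.conj (π h) (π z) := by
        rw [map_mul, map_mul, map_inv]
        rfl
      rw [h3]
      exact orderOf_injective (MulAut.conj (π h)).toMonoidHom (MulAut.conj (π h)).injective (π z)
    -- the elements of order `r` of a cyclic group
    have h3 : π (h * z * h⁻¹) ∈ Subgroup.zpowers (π z) :=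
      mem_zpowers_of_orderOf hcyc h1 hzR (h2.trans hπz.symm)
    obtain ⟨m, hm⟩ : ∃ m : ℕ, π z ^ m = π (h * z * h⁻¹) := by
      obtain ⟨m, -, hm⟩ := (mem_zpowers_iff_mem_range_orderOf.1 h3 |> Finset.mem_image.1)
      exact ⟨m, hm⟩
    refine ⟨m, ?_⟩
    have hk : h * z * h⁻¹ * (z ^ m)⁻¹ ∈ π.ker := by
      rw [MonoidHom.mem_ker, map_mul, ← hm, map_inv, map_pow, mul_inv_cancel]
    set k := h * z * h⁻¹ * (z ^ m)⁻¹ with hkdef
    have h5 : h * z * h⁻¹ = k * z ^ m := by rw [hkdef]; group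
    have h6 : (h * z * h⁻¹) ^ r = 1 := by
      rw [conj_pow, ← hz, pow_orderOf_eq_one, mul_one, mul_inv_cancel]
    have h7 : k ^ r = 1 := by
      have h8 : Commute k (z ^ m) := hcen k hk _
      rw [h5, h8.mul_pow, ← pow_mul, mul_comm m r, pow_mul, ← hz, pow_orderOf_eq_one, one_pow, mul_one] at h6
      rwa [← hz]
    have h8 : k = 1 := by
      have h9 := orderOf_dvd_of_pow_eq_one (hc k hk)
      have h10 := orderOf_dvd_of_pow_eq_one h7
      have h11 : orderOf k = 1 := Nat.dvd_one.1 (hcr ▸ Nat.dvd_gcd h9 h10)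
      exact orderOf_eq_one_iff.1 h11
    rw [h5, h8, one_mul]
  have hK'N : ∀ n ∈ Subgroup.normalizer ((R : Subgroup S) : Set S), ∀ k ∈ K.map π, n * k * n⁻¹ ∈ K.map π := by
    rintro n hn _ ⟨x, hx, rfl⟩
    obtain ⟨h, rfl, m, hm⟩ := hNlift n hn
    refine ⟨h * x * h⁻¹, hKN h ⟨m, hm⟩ x hx, ?_⟩
    rw [map_mul, map_mul, map_inv]
  -- the common zeros
  have hZ' : ∀ φ : K.map π → ℂ, IsIrrCharacter (K.map π) φ → (∃ k, φ k ≠ 1) → ∃ k : K.map π,
      ∀ n ∈ Subgroup.normalizer ((R : Subgroup S) : Set S), ∀ h : n * (k : S) * n⁻¹ ∈ K.map π,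
        φ ⟨n * (k : S) * n⁻¹, h⟩ = 0 := by
    rintro φ hφ ⟨k₁, hk₁⟩
    obtain ⟨x₁, rfl⟩ := hfs k₁
    obtain ⟨k, hk⟩ := hZ (φ ∘ f) (Core.isIrr_comp f hfs hφ) ⟨x₁, hk₁⟩
    refine ⟨f k, fun n hn hh => ?_⟩
    obtain ⟨h, rfl, m, hm⟩ := hNlift n hn
    have h1 : h * (k : H) * h⁻¹ ∈ K := hKN h ⟨m, hm⟩ k k.2
    have h2 := hk ⟨h * (k : H) * h⁻¹, h1⟩ (by
      rw [Subgroup.orderOf_mk, ← Subgroup.orderOf_coe]
      exact orderOf_injective (MulAut.conj h).toMonoidHom (MulAut.conj h).injective (k : H))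
    have h3 : f ⟨h * (k : H) * h⁻¹, h1⟩ = ⟨π h * ((f k : K.map π) : S) * (π h)⁻¹, hh⟩ := by
      apply Subtype.ext
      show π (h * (k : H) * h⁻¹) = π h * π (k : H) * (π h)⁻¹
      rw [map_mul, map_mul, map_inv]
    rw [← h3]
    exact h2
  have hrp' : p ≠ r := hrp.symm
  -- two classes
  have hsep : Sep R (K.map π) (π z) := by
    by_contra hns
    rw [Sep, not_or] at hns
    obtain ⟨hn1, hn2⟩ := hns
    push Not at hn1 hn2
    apply hnot
    -- powers of `π z` and elements of `R`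
    have hgood : ∀ y ∈ (R : Subgroup S), y ≠ 1 →
        Subgroup.centralizer ({y} : Set S) ≤ Subgroup.centralizer ((R : Subgroup S) : Set S) := by
      intro y hy hy1
      -- a power of `y` generates `⟨π z⟩`
      obtain ⟨a, ha⟩ := rpow_of_mem R hy
      have ha0 : a ≠ 0 := by
        rintro rfl
        rw [pow_zero] at ha
        exact hy1 (orderOf_eq_one_iff.1 ha)
      obtain ⟨b, rfl⟩ : ∃ b, a = b + 1 := ⟨a - 1, by omega⟩
      have h1 : orderOf (y ^ (r ^ b)) = r := by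
        rw [orderOf_pow_of_dvd (pow_pos hr.pos b).ne' (by rw [ha]; exact pow_dvd_pow r (Nat.le_succ b)), ha,
          Nat.pow_div (Nat.le_succ b) hr.pos]
        simp
      have h2 : π z ∈ Subgroup.zpowers (y ^ (r ^ b)) :=
        mem_zpowers_of_orderOf hcyc hzR (pow_mem hy _) (hπz.trans h1.symm)
      intro w hw
      apply hCC
      rw [Subgroup.mem_centralizer_singleton_iff] at hw ⊢
      obtain ⟨i, hi⟩ := Subgroup.mem_zpowers_iff.1 h2
      rw [← hi]
      exact ((show Commute w y from hw).pow_right (r ^ b)).zpow_right i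
    constructor
    · intro x hx hxK
      have hxC : π x ∈ Subgroup.centralizer ((R : Subgroup S) : Set S) := hCC (by
        rw [Subgroup.mem_centralizer_singleton_iff]
        exact (hx.map π).symm.eq)
      obtain ⟨l₁, l₂, h12, hl₂, hl₁, hr2⟩ := exists_parts R hxC
      -- `l₂` centralizes `K'`
      have hl₂K : ∀ y ∈ K.map π, l₂ * y = y * l₂ := by
        rintro y ⟨w, hw, rfl⟩
        have h1 : Commute (π x) (π w) := (hxK w hw).map π
        have h2 : Commute l₁ (π w) := Subgroup.mem_centralizer_iff.1 (hK'C ⟨w, hw, rfl⟩) l₁ hl₁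
        have h3 : l₂ = l₁⁻¹ * π x := by rw [h12]; group
        rw [h3]
        exact (h2.inv_left.mul_left h1).eq
      have hl₂m : l₂ ∈ K.map π := by
        by_contra hcon
        exact hr2 (hn1 l₂ hl₂ hl₂K hcon)
      have hl₂1 : l₂ = 1 := by
        obtain ⟨w, hw, hwl⟩ := hl₂m
        have h1 : w = 1 := by
          refine hKc w hw fun k' hk' => ?_
          have h2 : f (⟨w, hw⟩ * ⟨k', hk'⟩) = f (⟨k', hk'⟩ * ⟨w, hw⟩) := by
            apply Subtype.ext
            show π (w * k') = π (k' * w)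
            rw [map_mul, map_mul, hwl]
            exact hl₂K _ ⟨k', hk', rfl⟩
          exact congrArg Subtype.val (hfi h2)
        rw [← hwl, h1, map_one]
      rw [hl₂1, mul_one] at h12
      rw [h12]
      -- `l₁` is conjugate to `π z` or trivial
      by_cases hl : l₁ = 1
      · rw [hl, one_pow]
      · obtain ⟨g, hg⟩ := isConj_iff.1 (hn2 l₁ hl₁ (hgood l₁ hl₁ hl))
        rw [← hg, conj_pow]
        nth_rw 1 [← hπz]
        rw [pow_orderOf_eq_one, mul_one, mul_inv_cancel]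
    · intro m hm
      have hzm1 : π z ^ m ≠ 1 := by
        intro h1
        apply hm
        rw [← hπz]
        exact orderOf_dvd_of_pow_eq_one h1
      obtain ⟨g, hg⟩ := isConj_iff.1 (hn2 (π z ^ m) (pow_mem hzR m) (hgood _ (pow_mem hzR m) hzm1))
      obtain ⟨g, rfl⟩ := hπ g
      refine isConj_iff.2 ⟨g, ?_⟩
      have hk : g * z * g⁻¹ * (z ^ m)⁻¹ ∈ π.ker := by
        rw [MonoidHom.mem_ker, map_mul, map_mul, map_mul, map_inv, map_inv, map_pow, hg, mul_inv_cancel]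
      set k := g * z * g⁻¹ * (z ^ m)⁻¹ with hkdef
      have h5 : g * z * g⁻¹ = k * z ^ m := by rw [hkdef]; group
      have h6 : (g * z * g⁻¹) ^ r = 1 := by
        rw [conj_pow, ← hz, pow_orderOf_eq_one, mul_one, mul_inv_cancel]
      have h7 : k ^ r = 1 := by
        have h8 : Commute k (z ^ m) := hcen k hk _
        rw [h5, h8.mul_pow, ← pow_mul, mul_comm m r, pow_mul, ← hz, pow_orderOf_eq_one, one_pow, mul_one] at h6
        rwa [← hz]
      have h8 : k = 1 := by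
        have h9 := orderOf_dvd_of_pow_eq_one (hc k hk)
        have h10 := orderOf_dvd_of_pow_eq_one h7
        have h11 : orderOf k = 1 := Nat.dvd_one.1 (hcr ▸ Nat.dvd_gcd h9 h10)
        exact orderOf_eq_one_iff.1 h11
      rw [h5, h8, one_mul]
  -- the `p`-elements commuting with `π z`
  have hpK' : ∀ v : S, Commute (π z) v → (∃ j, orderOf v = p ^ j) → v ∈ K.map π := by
    rintro v hv ⟨j, hj⟩
    obtain ⟨x, hx, rfl⟩ := hlift v hv
    -- a power of `x` with the same image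
    have hcj : Nat.Coprime c (p ^ j) := Nat.Coprime.pow_right j hcp
    obtain ⟨i, hi1, hi2⟩ := Nat.chineseRemainder hcj 0 1
    obtain ⟨s, hs⟩ := (Nat.modEq_zero_iff_dvd).1 hi1
    have h1 : π (x ^ i) = π x := by
      rw [map_pow]
      conv_rhs => rw [← pow_one (π x)]
      rw [pow_eq_pow_iff_modEq, hj]
      exact hi2
    have h2 : (x ^ i) ^ (p ^ j) = 1 := by
      have h3 : x ^ (p ^ j) ∈ π.ker := by
        rw [MonoidHom.mem_ker, map_pow, ← hj, pow_orderOf_eq_one]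
      rw [← pow_mul, mul_comm, pow_mul, hs, pow_mul, hc _ h3, one_pow]
    exact ⟨x ^ i, hpK _ (hx.pow_right i) ⟨j, h2⟩, h1⟩
  -- the conclusion
  refine H732.VZ.cong_of_const (z := π z) hp hr hrp hπz ?_ fun χ x hx => ⟨?_, ?_⟩
  · rw [← hk]
    refine (Nat.card_congr ?_).symm
    refine Equiv.ofBijective (fun v => (⟨π (v : K), ?_, ?_⟩ : {v : S // Commute (π z) v ∧ ∃ k : ℕ, orderOf v = p ^ k})) ⟨?_, ?_⟩
    · exact (hKz _ (v : K).2).map π
    · obtain ⟨j, hj⟩ := v.2
      refine ⟨j, ?_⟩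
      rw [← hj]
      have h1 : orderOf (f (v : K)) = orderOf (v : K) := orderOf_injective f hfi (v : K)
      rw [← h1, ← Subgroup.orderOf_coe]
      rfl
    · intro v w hvw
      have h1 : f (v : K) = f (w : K) := Subtype.ext (congrArg (fun t : {v : S // Commute (π z) v ∧ ∃ k : ℕ, orderOf v = p ^ k} => (t : S)) hvw)
      exact Subtype.ext (hfi h1)
    · rintro ⟨v, hv, hv'⟩
      obtain ⟨w, hw, rfl⟩ := hpK' v hv hv'
      refine ⟨⟨⟨w, hw⟩, ?_⟩, rfl⟩
      obtain ⟨j, hj⟩ := hv'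
      refine ⟨j, ?_⟩
      rw [← hj]
      have h1 : orderOf (f (⟨w, hw⟩ : K)) = orderOf (⟨w, hw⟩ : K) := orderOf_injective f hfi _
      rw [← h1, ← Subgroup.orderOf_coe]
      rfl
  · refine H732.VZ.not_dvd_of_sylow R hcyc hπz hzR hCC (Or.inl fun h1 => ?_) χ x hx
    -- `|C(π z)| ≠ r`
    have h2 : K.map π ≤ Subgroup.centralizer ({π z} : Set S) := by
      rintro _ ⟨x, hx, rfl⟩
      rw [Subgroup.mem_centralizer_singleton_iff]
      exact ((hKz x hx).map π).symm.eq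
    have h3 := Subgroup.card_dvd_of_le h2
    rw [h1, hKcard] at h3
    rcases (Nat.dvd_prime hr).1 h3 with h4 | h4
    · exact hK1 (Subgroup.card_eq_one.1 h4)
    · exact hKr (dvd_of_eq h4.symm)
  · have h1 := kconst_one R hab hzR hCC (K.map π) hK'C hK'r hK'N hZ' hsep χ ((H732.VZ.oneZero_iff χ.2).2 ⟨x, hx⟩)
    exact fun v hv hv' => h1 v (hpK' v hv hv')

end cover

end Cfsg.Agent.H279.OZ
end

-- part: H279/OZ/PslZero
section
/-!
# Zeros of the characters of `PSL_2(q²)` common to all automorphic images (S4842, helper279)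

* `zero_of_hall` : a character whose degree is divisible by a Hall divisor `A ≠ 1` of the group order vanishes on all
  elements of a certain order;
* `psl2_zero` : so does every nonprincipal irreducible character of `PSL_2(q²)`.
-/

set_option autoImplicit false

open Cfsg Cfsg.Agent.Characters

namespace Cfsg.Agent.H279.OZ

universe u v

theorem zero_of_hall {K : Type u} [Group K] [Finite K] {A B : ℕ} (hK : Nat.card K = A * B)
    (hcop : Nat.Coprime A B) (hA : A ≠ 1) {φ : K → ℂ} (hφ : IsIrrCharacter K φ) (hd : A ∣ charDegree φ) :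
    ∃ k : K, ∀ k' : K, orderOf k' = orderOf k → φ k' = 0 := by
  have hA0 : A ≠ 0 := by
    rintro rfl
    rw [zero_mul] at hK
    exact Nat.card_pos.ne' hK
  have hs := Nat.minFac_prime hA
  have := Fact.mk hs
  have hsA := Nat.minFac_dvd A
  obtain ⟨a, A', hA', hAA⟩ := Nat.exists_eq_pow_mul_and_not_dvd hA0 A.minFac hs.ne_one
  obtain ⟨k, hk⟩ := exists_prime_orderOf_dvd_card' (G := K) A.minFac (by rw [hK]; exact hsA.mul_right B)
  refine ⟨k, fun k' hk' => ?_⟩
  refine H732.VZ.zero_of_defect (p := A.minFac) (a := a) (n := A' * B) hs ?_ ?_ ⟨φ, hφ⟩ ?_ ?_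
  · rw [hK, ← mul_assoc, ← hAA]
  · intro h
    rcases (Nat.Prime.dvd_mul hs).1 h with h1 | h1
    · exact hA' h1
    · exact hs.one_lt.ne' (Nat.dvd_one.1 (hcop ▸ Nat.dvd_gcd hsA h1))
  · refine dvd_trans ?_ hd
    rw [hAA]
    conv_lhs => rw [← hAA]
    exact Dvd.intro _ rfl
  · rw [hk', hk]

theorem deg_of_eq {K : Type u} [Group K] [Finite K] {φ : K → ℂ} (hφ : IsIrrCharacter K φ) {d : ℕ}
    (h : φ 1 = (d : ℂ)) : charDegree φ = d := by
  have h1 : (charDegree φ : ℂ) = (d : ℂ) := by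
    rw [← h]
    exact H686.CharKit.charDegree_irr ⟨φ, hφ⟩
  exact_mod_cast h1

open Matrix in
theorem perfect_psl2 {E : Type v} [Field E] [Fintype E] (h4 : 4 ≤ Fintype.card E) :
    commutator (ProjectiveSpecialLinearGroup (Fin 2) E) = ⊤ := by
  classical
  obtain ⟨a, ha⟩ := IsCyclic.exists_generator (α := Eˣ)
  have ho : orderOf a = Fintype.card E - 1 := by
    rw [orderOf_eq_card_of_forall_mem_zpowers ha, Nat.card_eq_fintype_card, Fintype.card_units]
  have h2 : ((a : Eˣ) : E) ^ 2 ≠ 1 := by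
    intro h
    have h1 : a ^ 2 = 1 := Units.ext (by rw [Units.val_pow_eq_pow_val, h, Units.val_one])
    have h3 := Nat.le_of_dvd two_pos (orderOf_dvd_of_pow_eq_one h1)
    omega
  exact H727.PslSq.commutator_of_surjective (QuotientGroup.mk' (Subgroup.center (_root_.Matrix.SpecialLinearGroup (Fin 2) E)))
    (QuotientGroup.mk'_surjective _) (Matrix.SL2.commutator_eq_top a.ne_zero h2)

/-- the degree of a nonprincipal irreducible character of `PSL_2(q²)` is divisible by a Hall divisor of the order -/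
theorem psl2_hall {E : Type v} [Field E] [Fintype E] {q : ℕ} (hE : Fintype.card E = q ^ 2) (hq : 2 ≤ q)
    {φ : Matrix.ProjectiveSpecialLinearGroup (Fin 2) E → ℂ} (hφ : IsIrrCharacter _ φ) (h1 : ∃ k, φ k ≠ 1) :
    ∃ A B : ℕ, Nat.card (Matrix.ProjectiveSpecialLinearGroup (Fin 2) E) = A * B ∧ Nat.Coprime A B ∧ A ≠ 1 ∧
      A ∣ charDegree φ := by
  classical
  have hfin : Finite (Matrix.ProjectiveSpecialLinearGroup (Fin 2) E) := by
    unfold Matrix.ProjectiveSpecialLinearGroup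
    infer_instance
  have h4 : 4 ≤ Fintype.card E := by
    rw [hE]
    nlinarith only [hq]
  have hd1 : φ 1 ≠ 1 := by
    intro h
    obtain ⟨k, hk⟩ := h1
    exact hk (Cfsg.Agent.H679.linear_apply_eq_one hφ h (by rw [perfect_psl2 h4]; trivial))
  rcases Nat.even_or_odd q with he | ho
  · -- even
    have hchar : CharP E 2 := by
      have : Even (Fintype.card E) := by rw [hE]; exact he.pow_of_ne_zero two_ne_zero
      have h2 : (2 : E) = 0 := by
        by_contra h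
        exact (Nat.not_even_iff_odd.2 ((ClassicalGeometry.PSL2Basic.two_ne_zero_iff_odd E).1 h)) this
      exact CharTwo.of_one_ne_zero_of_two_eq_zero one_ne_zero h2
    obtain ⟨e⟩ := WeakTI.PslTwo.nonempty_equiv (F := E)
    obtain ⟨hdeg, -⟩ := S2300.result (F := E)
    have hφ' := hdeg (φ ∘ e) (Core.isIrr_comp e.toMonoidHom e.surjective hφ)
    have e1 : (φ ∘ e) 1 = φ 1 := by simp only [_root_.Function.comp_apply, _root_.map_one]
    rw [e1] at hφ'
    have hcard := ClassicalGeometry.PSL2Basic.card_PSL2_even (F := E) (by rw [hE]; exact he.pow_of_ne_zero two_ne_zero)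
    have hev : Even (Fintype.card E) := by rw [hE]; exact he.pow_of_ne_zero two_ne_zero
    obtain ⟨x, hx⟩ : ∃ x, Fintype.card E = x + 1 := ⟨Fintype.card E - 1, by omega⟩
    have hsq : Fintype.card E ^ 2 - 1 = x * (x + 2) := by
      rw [hx, show (x + 1) ^ 2 = x * (x + 2) + 1 by ring, Nat.add_sub_cancel]
    rw [hsq, hx] at hcard
    have hxodd : Odd x := by
      rw [hx] at hev
      exact (Nat.even_add_one.1 hev |> Nat.not_even_iff_odd.1)
    have c1 : Nat.Coprime x (x + 2) := by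
      rw [Nat.coprime_self_add_right]
      exact (Nat.coprime_two_right).2 hxodd
    have c2 : Nat.Coprime (x + 1) x := by
      rw [Nat.coprime_comm, Nat.coprime_self_add_right]
      exact Nat.coprime_one_right x
    have c3 : Nat.Coprime (x + 1) (x + 2) := by
      rw [show x + 2 = (x + 1) + 1 by ring, Nat.coprime_self_add_right]
      exact Nat.coprime_one_right _
    rcases hφ' with h | h | h | h
    · exact absurd h hd1
    · refine ⟨x, (x + 1) * (x + 2), by rw [hcard]; ring, ?_, by omega, ?_⟩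
      · exact Nat.Coprime.mul_right c2.symm c1
      · rw [deg_of_eq (d := x) hφ (by rw [h, hx]; push_cast; ring)]
    · refine ⟨x + 1, x * (x + 2), hcard, ?_, by omega, ?_⟩
      · exact Nat.Coprime.mul_right c2 c3
      · rw [deg_of_eq (d := x + 1) hφ (by rw [h, hx])]
    · refine ⟨x + 2, x * (x + 1), by rw [hcard]; ring, ?_, by omega, ?_⟩
      · exact Nat.Coprime.mul_right c1.symm c3.symm
      · rw [deg_of_eq (d := x + 2) hφ (by rw [h, hx]; push_cast; ring)]
  · -- odd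
    obtain ⟨m, hm⟩ := ho
    have hm1 : 1 ≤ m := by omega
    set h := 2 * m * (m + 1) with hh
    have hE2 : Fintype.card E = 2 * h + 1 := by
      rw [hE, hm, hh]
      ring
    have hhe : Even h := by
      rw [hh, mul_assoc]
      exact even_two_mul _
    have hh4 : 4 ≤ h := by
      rw [hh]
      nlinarith only [hm1]
    obtain ⟨hdeg, -, -, -, -, -, hcard⟩ := H727.PslSq.psl_degrees hE2 hh4 hhe
    obtain ⟨d, hd0, hd⟩ := Core.isIrr_apply_one hφ
    have hmem := hdeg d (H727.DegCount.cnt_pos ⟨φ, hφ⟩ hd)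
    have hdd := deg_of_eq hφ hd
    have c1 : Nat.Coprime (2 * h) (h + 1) := by
      refine Nat.Coprime.mul_left ?_ ?_
      · rw [Nat.coprime_two_left]
        exact hhe.add_one
      · rw [Nat.coprime_self_add_right]
        exact Nat.coprime_one_right h
    have c2 : Nat.Coprime (2 * h) (2 * h + 1) := by
      rw [Nat.coprime_self_add_right]
      exact Nat.coprime_one_right _
    have c3 : Nat.Coprime (h + 1) (2 * h + 1) := by
      have : 2 * h + 1 = (h + 1) + h := by ring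
      rw [this, Nat.coprime_self_add_right, Nat.coprime_comm, Nat.coprime_self_add_right]
      exact Nat.coprime_one_right h
    simp only [Finset.mem_insert, Finset.mem_singleton] at hmem
    rcases hmem with h5 | h5 | h5 | h5 | h5
    · exact absurd (by rw [hd, h5, Nat.cast_one]) hd1
    · refine ⟨2 * h + 1, 2 * h * (h + 1), by rw [hcard]; ring, ?_, by omega, by rw [hdd, h5]⟩
      exact Nat.Coprime.mul_right c2.symm c3.symm
    · refine ⟨h + 1, 2 * h * (2 * h + 1), by rw [hcard]; ring, ?_, by omega, by rw [hdd, h5]⟩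
      exact Nat.Coprime.mul_right c1.symm c3
    · refine ⟨h + 1, 2 * h * (2 * h + 1), by rw [hcard]; ring, ?_, by omega, by rw [hdd, h5]; exact ⟨2, by ring⟩⟩
      exact Nat.Coprime.mul_right c1.symm c3
    · refine ⟨2 * h, (h + 1) * (2 * h + 1), by rw [hcard]; ring, ?_, by omega, by rw [hdd, h5]⟩
      exact Nat.Coprime.mul_right c1 c2

/-- **Common zeros**: a nonprincipal irreducible character of `PSL_2(q²)` vanishes on all elements of a certain order. -/
theorem psl2_zero {E : Type v} [Field E] [Fintype E] {q : ℕ} (hE : Fintype.card E = q ^ 2) (hq : 2 ≤ q)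
    {K : Type u} [Group K] [Finite K] (e : K ≃* Matrix.ProjectiveSpecialLinearGroup (Fin 2) E)
    (φ : K → ℂ) (hφ : IsIrrCharacter K φ) (h1 : ∃ k, φ k ≠ 1) :
    ∃ k : K, ∀ k' : K, orderOf k' = orderOf k → φ k' = 0 := by
  have hfin : Finite (Matrix.ProjectiveSpecialLinearGroup (Fin 2) E) := Finite.of_equiv K e.toEquiv
  have hφ' : IsIrrCharacter _ (φ ∘ e.symm) := Core.isIrr_comp e.symm.toMonoidHom e.symm.surjective hφ
  obtain ⟨A, B, hK, hcop, hA, hd⟩ := psl2_hall hE hq hφ' (by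
    obtain ⟨k, hk⟩ := h1
    exact ⟨e k, by rwa [Function.comp_apply, e.symm_apply_apply]⟩)
  obtain ⟨k, hk⟩ := zero_of_hall hK hcop hA hφ' hd
  refine ⟨e.symm k, fun k' hk' => ?_⟩
  have h2 := hk (e k') (by
    have h3 : orderOf (e k') = orderOf k' := orderOf_injective e.toMonoidHom e.injective k'
    have h4 : orderOf (e.symm k) = orderOf k := orderOf_injective e.symm.toMonoidHom e.symm.injective k
    rw [h3, hk', h4])
  rwa [Function.comp_apply, e.symm_apply_apply] at h2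

end Cfsg.Agent.H279.OZ
end

-- part: H530/OZ/FourM
section
/-!
# S4842: the four-dimensional space of minus type (helper530)

* `exists_four` : a form `Q'` with `Sg Q' 2 (-1)` and the subgroup `N ≅ PSL₂(q²)` of its isometry group.
-/

set_option autoImplicit false

namespace Cfsg.Agent.H530.OZ

open Module QuadraticMap Cfsg Subgroup
open Cfsg.Agent.LieClassical.OrthCore Cfsg.Agent.LieClassical.OrthTrans Cfsg.Agent.H890.SpParity
open Cfsg.Agent.LieClassical.OrthForms Cfsg.Agent.H182.Sign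
open scoped commutatorElement

/-- The minus-type space of dimension four. -/
structure FourM {F P : Type} [Field F] [AddCommGroup P] [Module F P] (Q' : QuadraticForm F P)
    (N : Subgroup (P ≃ₗ[F] P)) : Prop where
  le : N ≤ O Q'
  comm : ∀ g ∈ O Q', ∀ h ∈ O Q', ⁅g, h⁆ ∈ N
  perf : ⁅N, N⁆ = N
  sq : ∀ g ∈ O Q', g * g ∈ N
  even : (2 : F) = 0 → ∃ τ ∈ O Q', Odd (finrank F (fix τ)) ∧ ∀ g ∈ O Q', g ∈ N ∨ ∃ n ∈ N, g = n * τ
  iso : ∃ (E : Type) (_ : Field E) (_ : Fintype E), Fintype.card E = Nat.card F ^ 2 ∧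
    Nonempty (N ≃* Matrix.ProjectiveSpecialLinearGroup (Fin 2) E)

section model

open Cfsg.Agent.LieClassical.OrthFourMinus Cfsg.Agent.LieClassical.OrthFourCommon
open scoped MatrixGroups

variable {F : Type} [Field F] {c d : F}

theorem phi_center [hab : Fact (∀ r : F, r ^ 2 ≠ c + d * r)] (s : SL(2, LieClassical.OrthFourMinus.E F c d)) :
    phi s = 1 ↔ s ∈ Subgroup.center SL(2, LieClassical.OrthFourMinus.E F c d) := by
  constructor
  · exact mem_center_of_phi_eq_one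
  · intro h
    obtain ⟨r, hr, h1⟩ := Matrix.SpecialLinearGroup.mem_center_iff.1 h
    rw [Fintype.card_fin] at hr
    have hr' : r = 1 ∨ r = -1 := sq_eq_one_iff.1 hr
    have hn : QuadraticAlgebra.norm r = 1 := by
      rcases hr' with rfl | rfl
      · exact map_one _
      · rw [QuadraticAlgebra.norm_neg, map_one]
    have h2 : inc s = LieClassical.OrthFourMinus.scal r hn := by
      apply Subtype.ext
      apply Units.ext
      show s.1 = r • (1 : ME F c d)
      rw [← h1, Matrix.scalar_apply, Matrix.smul_one_eq_diagonal]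
    show psi (inc s) = 1
    rw [h2, psi_scal]

theorem tau_sq : (tau (F := F) (c := c) (d := d)) * tau = 1 := by
  refine Subtype.ext (LinearEquiv.ext fun v => ?_)
  show ((tau (c := c) (d := d)).1 ((tau (c := c) (d := d)).1 v)) = v
  rw [tau_apply, tau_apply, star_star]

theorem psi_mem (p : Gam F c d) (u : LieClassical.OrthFourMinus.E F c d) (hu : QuadraticAlgebra.norm u = 1)
    (h : u ^ 2 * (p.1 : ME F c d).det = 1) : psi p ∈ (phi (F := F) (c := c) (d := d)).range := by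
  rw [phi_range]
  refine ⟨LieClassical.OrthFourMinus.scal u hu * p, ?_, ?_⟩
  · change (LieClassical.OrthFourMinus.scal u hu * p).1.det = 1
    ext1
    rw [Matrix.GeneralLinearGroup.val_det_apply]
    change ((u • (1 : ME F c d)) * (p.1 : ME F c d)).det = 1
    rw [Matrix.det_mul, Matrix.det_smul, Matrix.det_one, mul_one, Fintype.card_fin, h]
  · rw [map_mul, psi_scal, one_mul]

/-- squares -/
theorem sq_range (hs : ∀ r : F, ∃ z : LieClassical.OrthFourMinus.E F c d, QuadraticAlgebra.norm z = r)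
    [Fact (∀ r : F, r ^ 2 ≠ c + d * r)] (g : isom (LieClassical.OrthFourMinus.Q c d)) :
    g * g ∈ (phi (F := F) (c := c) (d := d)).range := by
  obtain ⟨p, hp | hp⟩ := exists_eq hs g
  · rw [hp, ← map_mul]
    have hn : QuadraticAlgebra.norm (p.1 : ME F c d).det = 1 := p.2
    refine psi_mem _ (star (p.1 : ME F c d).det) ?_ ?_
    · rw [QuadraticAlgebra.norm_star, hn]
    · change _ * ((p.1 : ME F c d) * (p.1 : ME F c d)).det = 1
      rw [Matrix.det_mul]
      have h1 : (p.1 : ME F c d).det * star (p.1 : ME F c d).det = 1 := by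
        rw [← QuadraticAlgebra.algebraMap_norm_eq_mul_star, hn, map_one]
      linear_combination ((p.1 : ME F c d).det * star (p.1 : ME F c d).det + 1) * h1
  · have h1 : g * g = psi (p * sw p) := by
      rw [map_mul, ← tau_conj, hp]
      have h2 : (tau (F := F) (c := c) (d := d))⁻¹ = tau := inv_eq_of_mul_eq_one_left tau_sq
      rw [h2]
      group
    rw [h1]
    refine psi_mem _ 1 (map_one _) ?_
    rw [one_pow, one_mul]
    change ((p.1 : ME F c d) * (p.1 : ME F c d).map star).det = 1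
    have hn : QuadraticAlgebra.norm (p.1 : ME F c d).det = 1 := p.2
    rw [Matrix.det_mul]
    change (p.1 : ME F c d).det * ((starRingEnd (LieClassical.OrthFourMinus.E F c d)).mapMatrix (p.1 : ME F c d)).det = 1
    rw [← RingHom.map_det]
    change (p.1 : ME F c d).det * star (p.1 : ME F c d).det = 1
    rw [← QuadraticAlgebra.algebraMap_norm_eq_mul_star, hn, map_one]

theorem even_range [Finite F] (h2 : (2 : F) = 0)
    (hs : ∀ r : F, ∃ z : LieClassical.OrthFourMinus.E F c d, QuadraticAlgebra.norm z = r)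
    [Fact (∀ r : F, r ^ 2 ≠ c + d * r)] (g : isom (LieClassical.OrthFourMinus.Q c d)) :
    g ∈ (phi (F := F) (c := c) (d := d)).range ∨ ∃ n ∈ (phi (F := F) (c := c) (d := d)).range, g = n * tau := by
  have hfE : Finite (LieClassical.OrthFourMinus.E F c d) := Finite.of_equiv _ (QuadraticAlgebra.equivProd c d).symm
  have h2E : (2 : LieClassical.OrthFourMinus.E F c d) = 0 := by
    have h3 := congrArg (algebraMap F (LieClassical.OrthFourMinus.E F c d)) h2
    rwa [map_ofNat, map_zero] at h3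
  have hchE : CharP (LieClassical.OrthFourMinus.E F c d) 2 := CharTwo.of_one_ne_zero_of_two_eq_zero one_ne_zero h2E
  have hch : CharP F 2 := CharTwo.of_one_ne_zero_of_two_eq_zero one_ne_zero h2
  have key : ∀ p : Gam F c d, psi p ∈ (phi (F := F) (c := c) (d := d)).range := by
    intro p
    have hn : QuadraticAlgebra.norm (p.1 : ME F c d).det = 1 := p.2
    have h0 : (p.1 : ME F c d).det ≠ 0 := by
      intro h
      rw [h, QuadraticAlgebra.norm_zero] at hn
      exact zero_ne_one hn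
    obtain ⟨u, hu⟩ : ∃ u : LieClassical.OrthFourMinus.E F c d, u ^ 2 = (p.1 : ME F c d).det⁻¹ := by
      have hinj : Function.Injective (frobenius (LieClassical.OrthFourMinus.E F c d) 2) := RingHom.injective _
      obtain ⟨u, hu⟩ := Finite.surjective_of_injective hinj (p.1 : ME F c d).det⁻¹
      exact ⟨u, hu⟩
    refine psi_mem p u ?_ (by rw [hu, inv_mul_cancel₀ h0])
    have h3 : QuadraticAlgebra.norm u ^ 2 = 1 := by
      have h5 := congrArg QuadraticAlgebra.norm (show u ^ 2 * (p.1 : ME F c d).det = 1 by rw [hu, inv_mul_cancel₀ h0])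
      rwa [map_mul, map_pow, hn, mul_one, map_one] at h5
    have h4 : (QuadraticAlgebra.norm u - 1) ^ 2 = 0 := by
      rw [sub_pow_char, h3, one_pow, sub_self]
    exact sub_eq_zero.1 (pow_eq_zero_iff two_ne_zero |>.1 h4)
  obtain ⟨p, hp | hp⟩ := exists_eq hs g
  · left; rw [hp]; exact key p
  · right; exact ⟨_, key p, hp⟩

theorem odd_tau (hd : d ≠ 0) : Odd (finrank F (fix (tau (F := F) (c := c) (d := d)).1)) := by
  have h1 : ∀ v : LieClassical.OrthFourMinus.V F c d, v ∈ fix (tau (F := F) (c := c) (d := d)).1 ↔ v.2.2.im = 0 := by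
    intro v
    rw [mem_fix, tau_apply]
    constructor
    · intro h
      have h3 := congrArg (fun v : LieClassical.OrthFourMinus.V F c d => v.2.2.re) h
      have h4 : v.2.2.re + d * v.2.2.im = v.2.2.re := h3
      have h5 : d * v.2.2.im = 0 := by linear_combination h4
      exact (mul_eq_zero.1 h5).resolve_left hd
    · intro h
      refine Prod.ext rfl (Prod.ext rfl ?_)
      refine QuadraticAlgebra.ext ?_ ?_
      · show v.2.2.re + d * v.2.2.im = v.2.2.re
        rw [h, mul_zero, add_zero]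
      · show - v.2.2.im = v.2.2.im
        rw [h, neg_zero]
  let e : fix (tau (F := F) (c := c) (d := d)).1 ≃ₗ[F] F × F × F :=
    { toFun := fun v => (v.1.1, v.1.2.1, v.1.2.2.re)
      invFun := fun w => ⟨(w.1, w.2.1, ⟨w.2.2, 0⟩), (h1 _).2 rfl⟩
      map_add' := fun _ _ => rfl
      map_smul' := fun _ _ => rfl
      left_inv := fun v => Subtype.ext (Prod.ext rfl (Prod.ext rfl (QuadraticAlgebra.ext rfl ((h1 v.1).1 v.2).symm)))
      right_inv := fun _ => rfl }
  rw [e.finrank_eq, finrank_prod, finrank_prod, finrank_self]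
  decide

/-- **The four-dimensional space of minus type.** -/
theorem exists_four (F : Type) [Field F] [Finite F] : ∃ (P : Type) (_ : AddCommGroup P) (_ : Module F P) (_ : Finite P)
    (Q' : QuadraticForm F P) (N : Subgroup (P ≃ₗ[F] P)), Sg Q' 2 (-1) ∧ FourM Q' N := by
  obtain ⟨ζ, hζ⟩ := exists_aniso F
  have hab : Fact (∀ r : F, r ^ 2 ≠ -ζ + 1 * r) := ⟨fun r hr => by
    have := (hζ (-r) 1 (by linear_combination hr)).2
    exact one_ne_zero this⟩
  have hfE : Finite (LieClassical.OrthFourMinus.E F (-ζ) 1) :=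
    Finite.of_equiv _ (QuadraticAlgebra.equivProd (-ζ) 1).symm
  have hs : ∀ r : F, ∃ z : LieClassical.OrthFourMinus.E F (-ζ) 1, QuadraticAlgebra.norm z = r := norm_surjective
  let Q' : QuadraticForm F (LieClassical.OrthFourMinus.V F (-ζ) 1) :=
    (minusForm 1 F 1 ζ).comp (_root_.Cfsg.Agent.LieClassical.OrthFourMinus.coord F (-ζ) 1).symm.toLinearMap
  have hQ' : ∀ v, Q' v = LieClassical.OrthFourMinus.Q (-ζ) 1 v := by
    intro v
    show minusForm 1 F 1 ζ ((_root_.Cfsg.Agent.LieClassical.OrthFourMinus.coord F (-ζ) 1).symm v) = _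
    rw [coe_minusForm, ← Q_coord, LinearEquiv.apply_symm_apply]
  have hO : ∀ {g : LieClassical.OrthFourMinus.V F (-ζ) 1 ≃ₗ[F] LieClassical.OrthFourMinus.V F (-ζ) 1},
      g ∈ O Q' ↔ g ∈ isom (LieClassical.OrthFourMinus.Q (-ζ) 1) := by
    intro g
    rw [mem_isom]
    constructor
    · intro h v
      rw [← hQ', ← hQ', h]
    · intro h v
      rw [hQ', hQ', h]
  have hSg : Sg Q' 2 (-1) := by
    refine (sg_minusForm 1 hζ).congr (_root_.Cfsg.Agent.LieClassical.OrthFourMinus.coord F (-ζ) 1) fun v => ?_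
    rw [hQ', Q_coord, coe_minusForm]
  set R := (phi (F := F) (c := -ζ) (d := 1)).range with hR
  have hcomm : _root_.commutator (isom (LieClassical.OrthFourMinus.Q (-ζ) (1 : F))) = R :=
    le_antisymm (commutator_le' (exists_eq hs)) le_commutator
  refine ⟨_, inferInstance, inferInstance, inferInstance, Q', R.map (isom _).subtype, hSg, ?_, ?_, ?_, ?_, ?_, ?_⟩
  · rintro _ ⟨x, -, rfl⟩
    exact hO.2 x.2
  · intro g hg h hh
    refine ⟨⁅(⟨g, hO.1 hg⟩ : isom (LieClassical.OrthFourMinus.Q (-ζ) (1 : F))), ⟨h, hO.1 hh⟩⁆, ?_, rfl⟩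
    rw [SetLike.mem_coe, ← hcomm]
    exact Subgroup.commutator_mem_commutator (Subgroup.mem_top _) (Subgroup.mem_top _)
  · rw [← Subgroup.map_commutator, hR, MonoidHom.range_eq_map, ← Subgroup.map_commutator]
    congr 2
    exact commutator_SL
  · intro g hg
    exact ⟨⟨g, hO.1 hg⟩ * ⟨g, hO.1 hg⟩, sq_range hs _, rfl⟩
  · intro h2
    refine ⟨tau.1, hO.2 tau.2, odd_tau one_ne_zero, ?_⟩
    intro g hg
    rcases even_range h2 hs ⟨g, hO.1 hg⟩ with h | ⟨n, hn, h⟩
    · left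
      exact ⟨⟨g, hO.1 hg⟩, h, rfl⟩
    · right
      exact ⟨n.1, ⟨n, hn, rfl⟩, congrArg Subtype.val h⟩
  · have hft := Fintype.ofFinite (LieClassical.OrthFourMinus.E F (-ζ) 1)
    refine ⟨LieClassical.OrthFourMinus.E F (-ζ) 1, inferInstance, hft, ?_, ?_⟩
    · rw [← Nat.card_eq_fintype_card, Nat.card_congr (QuadraticAlgebra.equivProd (-ζ) 1), Nat.card_prod, pow_two]
    · have e1 : R ≃* R.map (isom (LieClassical.OrthFourMinus.Q (-ζ) (1 : F))).subtype :=
        Subgroup.equivMapOfInjective _ _ Subtype.val_injective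
      have hker : (phi (F := F) (c := -ζ) (d := 1)).ker = Subgroup.center _ := by
        ext s
        rw [MonoidHom.mem_ker, phi_center]
      have e2 := QuotientGroup.quotientKerEquivRange (phi (F := F) (c := -ζ) (d := 1))
      exact ⟨e1.symm.trans (e2.symm.trans (QuotientGroup.quotientMulEquivOfEq hker))⟩

end model

end Cfsg.Agent.H530.OZ
end

-- part: H530/OZ/KCGeo
section
/-!
# S4842: the congruence for `POmega⁺_{2n}`, `n` even, from a prime of order `2(n-2)` (helper530)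

* `kc_orth` : the congruence in the space `U × P`, `P` of dimension four and minus type.
-/

set_option autoImplicit false

namespace Cfsg.Agent.H530.OZ

open Module QuadraticMap Cfsg Subgroup
open Cfsg.Agent.LieClassical.OrthCore Cfsg.Agent.LieClassical.OrthTrans Cfsg.Agent.H890.SpParity
open Cfsg.Agent.H182.Sign
open scoped commutatorElement

universe u

section lin

variable {F : Type*} [Field F] {U P : Type*} [AddCommGroup U] [Module F U] [AddCommGroup P] [Module F P]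

/-- The block decomposition of the elements taking `z × 1` to `z' × 1`. -/
theorem block' [FiniteDimensional F U] [FiniteDimensional F P] {z z' : U ≃ₗ[F] U} (hz : ∀ v, z v = v → v = 0)
    (hz' : ∀ v, z' v = v → v = 0) {g : (U × P) ≃ₗ[F] (U × P)} (hc : g * zz P z = zz P z' * g) :
    ∃ (t : U ≃ₗ[F] U) (s : P ≃ₗ[F] P), g = t.prodCongr s := by
  have hcc : ∀ (u : U) (p : P), g (z u, p) = (z' (g (u, p)).1, (g (u, p)).2) := fun u p =>
    LinearEquiv.congr_fun hc (u, p)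
  have h1 : ∀ p : P, (g (0, p)).1 = 0 := by
    intro p
    have := congrArg Prod.fst (hcc 0 p)
    rw [map_zero] at this
    exact hz' _ this.symm
  have h2 : ∀ u : U, (g (u, 0)).2 = 0 := by
    intro u
    obtain ⟨v, hv⟩ : ∃ v, z v - v = u := by
      have hinj : Function.Injective ((z.toLinearMap - LinearMap.id : U →ₗ[F] U)) := by
        rw [injective_iff_map_eq_zero]
        intro v hv
        exact hz v (sub_eq_zero.1 hv)
      exact (LinearMap.injective_iff_surjective.1 hinj) u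
    have h3 : ((u, 0) : U × P) = (z v, 0) - (v, 0) := by
      rw [Prod.mk_sub_mk, hv, sub_zero]
    rw [h3, map_sub, hcc]
    exact sub_self _
  have hg : ∀ (u : U) (p : P), g (u, p) = ((g (u, 0)).1, (g (0, p)).2) := by
    intro u p
    have h3 : ((u, p) : U × P) = (u, 0) + (0, p) := by simp
    rw [h3, map_add]
    refine Prod.ext ?_ ?_
    · show (g (u, 0)).1 + (g (0, p)).1 = (g (u, 0)).1
      rw [h1, add_zero]
    · show (g (u, 0)).2 + (g (0, p)).2 = (g (0, p)).2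
      rw [h2, zero_add]
  let t : U →ₗ[F] U := (LinearMap.fst F U P).comp (g.toLinearMap.comp (LinearMap.inl F U P))
  let s : P →ₗ[F] P := (LinearMap.snd F U P).comp (g.toLinearMap.comp (LinearMap.inr F U P))
  have ht : Function.Injective t := by
    rw [injective_iff_map_eq_zero]
    intro u hu
    have h3 : g (u, 0) = 0 := Prod.ext hu (h2 u)
    rw [LinearEquiv.map_eq_zero_iff] at h3
    exact congrArg Prod.fst h3
  have hs : Function.Injective s := by
    rw [injective_iff_map_eq_zero]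
    intro p hp
    have h3 : g (0, p) = 0 := Prod.ext (h1 p) hp
    rw [LinearEquiv.map_eq_zero_iff] at h3
    exact congrArg Prod.snd h3
  refine ⟨LinearEquiv.ofInjectiveEndo t ht, LinearEquiv.ofInjectiveEndo s hs, ?_⟩
  ext p
  · exact congrArg Prod.fst (hg p.1 p.2)
  · exact congrArg Prod.snd (hg p.1 p.2)

/-- An element of `r`-power order of a space of dimension at most four. -/
theorem eq_one_of_order4 [Finite F] [Finite P] {r : ℕ} (hr : r.Prime) {d : ℕ} (hP : finrank F P = d)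
    (hq : ¬ r ∣ Nat.card F) (hq1 : ∀ i : ℕ, 0 < i → i ≤ d → ¬ r ∣ Nat.card F ^ i - 1)
    {s : P ≃ₗ[F] P} (hs : ∃ j : ℕ, s ^ (r ^ j) = 1) : s = 1 := by
  have := Fact.mk hr
  have hfd : FiniteDimensional F P := Module.Finite.of_finite
  obtain ⟨j, hj⟩ := hs
  have hrP : IsPGroup r (Subgroup.zpowers s) := by
    intro x
    obtain ⟨k, hk⟩ := Subgroup.mem_zpowers_iff.1 x.2
    refine ⟨j, Subtype.ext ?_⟩
    show (x : P ≃ₗ[F] P) ^ r ^ j = 1
    rw [← hk, ← zpow_natCast, ← zpow_mul, mul_comm, zpow_mul, zpow_natCast, hj, one_zpow]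
  have h1 := hrP.card_modEq_card_fixedPoints P
  have h2 : Nat.card (MulAction.fixedPoints (Subgroup.zpowers s) P) = Nat.card (fix s) := by
    refine Nat.card_congr (Equiv.subtypeEquivRight fun v => ?_)
    rw [MulAction.mem_fixedPoints]
    show _ ↔ v ∈ fix s
    rw [mem_fix]
    constructor
    · intro h
      exact h ⟨s, Subgroup.mem_zpowers s⟩
    · intro h x
      obtain ⟨k, hk⟩ := Subgroup.mem_zpowers_iff.1 x.2
      show (x : P ≃ₗ[F] P) v = v
      rw [← hk]
      have h3 : s ∈ MulAction.stabilizer (P ≃ₗ[F] P) v := h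
      exact (MulAction.stabilizer (P ≃ₗ[F] P) v).zpow_mem h3 k
  rw [h2, Module.natCard_eq_pow_finrank (K := F) (V := P), Module.natCard_eq_pow_finrank (K := F) (V := fix s)] at h1
  have hle := Submodule.finrank_le (fix s)
  have hF : 0 < Nat.card F := Nat.card_pos
  have h3 : finrank F (fix s) = finrank F P := by
    by_contra hne
    have hlt : finrank F (fix s) < finrank F P := lt_of_le_of_ne hle hne
    obtain ⟨i, hi⟩ : ∃ i, finrank F P = finrank F (fix s) + i := ⟨finrank F P - finrank F (fix s), by omega⟩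
    have h4 : r ∣ Nat.card F ^ finrank F P - Nat.card F ^ finrank F (fix s) :=
      (Nat.modEq_iff_dvd' (Nat.pow_le_pow_right hF hle)).1 h1.symm
    rw [hi, pow_add, ← Nat.mul_sub_one] at h4
    rcases (Nat.Prime.dvd_mul hr).1 h4 with h5 | h5
    · exact hq (hr.dvd_of_dvd_pow h5)
    · exact hq1 i (by omega) (by omega) h5
  have h4 : fix s = ⊤ := Submodule.eq_top_of_finrank_eq h3
  ext v
  have : v ∈ fix s := by rw [h4]; exact Submodule.mem_top
  exact mem_fix.1 this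

/-- The extension by the identity on `U`. -/
def ii (U : Type*) [AddCommGroup U] [Module F U] : (P ≃ₗ[F] P) →* ((U × P) ≃ₗ[F] (U × P)) where
  toFun s := (LinearEquiv.refl F U).prodCongr s
  map_one' := rfl
  map_mul' _ _ := rfl

theorem ii_apply (s : P ≃ₗ[F] P) (v : U × P) : ii U s v = (v.1, s v.2) := rfl

theorem ii_injective : Function.Injective (ii (F := F) (P := P) U) := by
  intro s s' h
  ext v
  exact congrArg Prod.snd (LinearEquiv.congr_fun h (0, v))

theorem ii_mem_O [Finite F] [Finite U] [Finite P] {Q : QuadraticForm F U} {Q' : QuadraticForm F P} {s : P ≃ₗ[F] P}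
    (hs : s ∈ O Q') : ii U s ∈ O (prodForm Q Q') := by
  intro v
  rw [prodForm_apply, prodForm_apply]
  show Q v.1 + Q' (s v.2) = _
  rw [hs]

/-- A perfect simple group has trivial center. -/
theorem center_bot_of_simple {G : Type*} [Group G] (hs : IsSimpleGroup G) (hp : commutator G = ⊤) : center G = ⊥ := by
  rcases hs.eq_bot_or_eq_top_of_normal (center G) inferInstance with h | h
  · exact h
  · exfalso
    have h1 : commutator G = ⊥ := by
      rw [commutator_def, Subgroup.commutator_eq_bot_iff_le_centralizer]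
      intro a _
      rw [Subgroup.mem_centralizer_iff]
      intro b _
      have h2 : a ∈ center G := h ▸ Subgroup.mem_top a
      exact Subgroup.mem_center_iff.1 h2 b
    rw [hp] at h1
    obtain ⟨a, ha⟩ := exists_ne (1 : G)
    have h2 : a ∈ (⊥ : Subgroup G) := h1 ▸ Subgroup.mem_top a
    exact ha (Subgroup.mem_bot.1 h2)

end lin

section main

variable {F : Type} [Field F] [Finite F] {U P L : Type} [AddCommGroup U] [Module F U] [Finite U] [AddCommGroup P]
  [Module F P] [Finite P] [Field L] [Algebra F L] {Q : QuadraticForm F U} {Q' : QuadraticForm F P}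
  {r : ℕ} {z : U ≃ₗ[F] U} {j : L →ₗ[F] U} {lam : L}

/-- **The congruence.** -/
theorem kc_orth {p : ℕ} [Fact p.Prime] [CharP F p] (hr : r.Prime) (hrp : r ≠ p) (hr2 : r ≠ 2)
    (hT : TorU Q r z j lam) (hnd : Nondeg (prodForm Q Q')) (hG : Good (prodForm Q Q')) (hUe : Even (finrank F U))
    (hPe : Even (finrank F P)) (hss : ∀ s : P ≃ₗ[F] P, (∃ i : ℕ, s ^ (r ^ i) = 1) → s = 1)
    (hzE : zz P z ∈ E (prodForm Q Q')) {S : Type u} [Group S] [Finite S] (π : E (prodForm Q Q') →* S)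
    (hπ : Function.Surjective π)
    (hker : ∀ k : E (prodForm Q Q'), k ∈ π.ker ↔ ∃ a : F, ∀ v, (k : (U × P) ≃ₗ[F] (U × P)) v = a • v)
    {N : Subgroup (P ≃ₗ[F] P)} (hN : FourM Q' N)
    (hnot : ¬ ((∀ x : E (prodForm Q Q'), Commute (⟨zz P z, hzE⟩ : E (prodForm Q Q')) x →
      (∀ s ∈ N, Commute (x : (U × P) ≃ₗ[F] (U × P)) (ii U s)) → (π x) ^ r = 1) ∧
      r ≤ finrank F (U × P) + 1)) {k : ℕ} (hk : Nat.card {v : N // ∃ i : ℕ, orderOf v = p ^ i} = p ^ k) :
    H730.OZ.Cong p r k S := by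
  classical
  have hfr : Fact r.Prime := ⟨hr⟩
  have hfdU : FiniteDimensional F U := Module.Finite.of_finite
  have hfdP : FiniteDimensional F P := Module.Finite.of_finite
  have hfinGL : Finite ((U × P) ≃ₗ[F] (U × P)) :=
    Finite.of_injective (fun g : (U × P) ≃ₗ[F] (U × P) => (g : U × P → U × P)) DFunLike.coe_injective
  have hfin : Finite (E (prodForm Q Q')) := inferInstance
  have hfinP : Finite (P ≃ₗ[F] P) :=
    Finite.of_injective (fun g : P ≃ₗ[F] P => (g : P → P)) DFunLike.coe_injective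
  have hfinN : Finite N := inferInstance
  have hchL : CharP L p := charP_of_injective_algebraMap (algebraMap F L).injective p
  set z' : E (prodForm Q Q') := ⟨zz P z, hzE⟩ with hz'
  have hfix := hT.fix_eq hr.one_lt
  -- the order of `z'`
  have hU1 : ∃ v : U, v ≠ 0 := ⟨j 1, fun h => one_ne_zero (hT.inj (h.trans (map_zero j).symm))⟩
  have hz'r : z' ^ r = 1 := by
    apply Subtype.ext
    show zz P z ^ r = 1
    rw [zz_pow, hT.pow_eq]
    rfl
  have hz'1 : z' ≠ 1 := by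
    intro h
    obtain ⟨v, hv⟩ := hU1
    apply hv
    apply hfix
    have h1 : zz P z = 1 := congrArg Subtype.val h
    exact congrArg Prod.fst (LinearEquiv.congr_fun h1 (v, 0))
  have hz'o : orderOf z' = r := orderOf_eq_prime hz'r hz'1
  have hmem : ∀ {x : E (prodForm Q Q')}, x ∈ Subgroup.centralizer ({z'} : Set (E (prodForm Q Q'))) ↔ Commute z' x := by
    intro x
    rw [Subgroup.mem_centralizer_singleton_iff]
    exact ⟨fun h => h.symm, fun h => h.symm⟩
  -- isometries of the blocks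
  have hOb : ∀ {t : U ≃ₗ[F] U} {s : P ≃ₗ[F] P}, t.prodCongr s ∈ O (prodForm Q Q') → t ∈ O Q ∧ s ∈ O Q' := by
    intro t s h
    constructor
    · intro v
      have h2 := h (v, 0)
      rw [prodForm_apply, prodForm_apply] at h2
      change Q (t v) + Q' (s 0) = Q v + Q' 0 at h2
      rw [map_zero, QuadraticMap.map_zero, add_zero, add_zero] at h2
      exact h2
    · intro v
      have h2 := h (0, v)
      rw [prodForm_apply, prodForm_apply] at h2
      change Q (t 0) + Q' (s v) = Q 0 + Q' v at h2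
      rw [map_zero, QuadraticMap.map_zero, zero_add, zero_add] at h2
      exact h2
  -- the blocks
  have hblock : ∀ x : E (prodForm Q Q'), Commute z' x → ∃ (t : U ≃ₗ[F] U) (s : P ≃ₗ[F] P),
      (x : (U × P) ≃ₗ[F] (U × P)) = t.prodCongr s ∧ t ∈ O Q ∧ s ∈ O Q' ∧ Commute t z := by
    intro x hx
    have h1 : Commute (x : (U × P) ≃ₗ[F] (U × P)) (z.prodCongr (LinearEquiv.refl F P)) :=
      (congrArg Subtype.val hx.eq).symm
    obtain ⟨t, s, hts⟩ := block hfix h1
    have h3 := hOb (hts ▸ E_le_O x.2)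
    refine ⟨t, s, hts, h3.1, h3.2, ?_⟩
    ext v
    have h2 := LinearEquiv.congr_fun h1.eq (v, 0)
    rw [hts] at h2
    exact congrArg Prod.fst h2
  choose! tt ss hts htO hsO htz using hblock
  -- powers
  have hpw : ∀ (x : E (prodForm Q Q')), Commute z' x → ∀ k : ℕ, x ^ k = 1 → tt x ^ k = 1 ∧ ss x ^ k = 1 := by
    intro x hx k hk
    have h1 : (x : (U × P) ≃ₗ[F] (U × P)) ^ k = 1 := congrArg Subtype.val hk
    have h2 : ∀ k : ℕ, (x : (U × P) ≃ₗ[F] (U × P)) ^ k = (tt x ^ k).prodCongr (ss x ^ k) := by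
      intro k
      induction k with
      | zero => rfl
      | succ k ih =>
        rw [pow_succ, ih, hts x hx]
        rfl
    rw [h2] at h1
    constructor
    · ext v
      exact congrArg Prod.fst (LinearEquiv.congr_fun h1 (v, 0))
    · ext v
      exact congrArg Prod.snd (LinearEquiv.congr_fun h1 (0, v))
  have hex : ∀ x : E (prodForm Q Q'), Commute z' x → ∃ a : L, (∀ l, tt x (j l) = j (a * l)) ∧ (a = 1 → tt x = 1) ∧
      (a ≠ 1 → ∀ v, tt x v = v → v = 0) := fun x hx => hT.cen _ (htO x hx) (htz x hx)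
  choose! aa haa haa1 haa2 using hex
  have haa0 : ∀ x : E (prodForm Q Q'), Commute z' x → aa x ≠ 0 := by
    intro x hx h0
    have h4 := haa x hx 1
    rw [h0, zero_mul, map_zero, LinearEquiv.map_eq_zero_iff] at h4
    exact one_ne_zero (hT.inj (h4.trans (map_zero j).symm))
  have hmul : ∀ x y : E (prodForm Q Q'), Commute z' x → Commute z' y → tt (x * y) = tt x * tt y := by
    intro x y hx hy
    ext v
    have h1 := hts (x * y) (hx.mul_right hy)
    have h2 : ((x * y : E (prodForm Q Q')) : (U × P) ≃ₗ[F] (U × P)) = (x : (U × P) ≃ₗ[F] (U × P)) * y := rfl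
    rw [h2, hts x hx, hts y hy] at h1
    exact (congrArg Prod.fst (LinearEquiv.congr_fun h1 (v, 0))).symm
  have hamul : ∀ x y : E (prodForm Q Q'), Commute z' x → Commute z' y → aa (x * y) = aa x * aa y := by
    intro x y hx hy
    have h1 := haa (x * y) (hx.mul_right hy) 1
    rw [hmul x y hx hy, LinearEquiv.mul_apply, haa y hy, haa x hx] at h1
    have h2 := hT.inj h1
    rw [mul_one, mul_one] at h2
    exact h2.symm
  let τ : Subgroup.centralizer ({z'} : Set (E (prodForm Q Q'))) →* Lˣ :=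
    MonoidHom.mk' (fun x => Units.mk0 (aa x) (haa0 x (hmem.1 x.2))) (fun x y => Units.ext (by
      show aa (x * y : E (prodForm Q Q')) = aa x * aa y
      exact hamul _ _ (hmem.1 x.2) (hmem.1 y.2)))
  have hss' : ∀ x : E (prodForm Q Q'), Commute z' x → (∃ i : ℕ, x ^ (r ^ i) = 1) → ss x = 1 := by
    rintro x hx ⟨i, hi⟩
    exact hss _ ⟨i, (hpw x hx _ hi).2⟩
  have hone : ∀ x : E (prodForm Q Q'), Commute z' x → tt x = 1 → ss x = 1 → x = 1 := by
    intro x hx h1 h2
    apply Subtype.ext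
    rw [hts x hx, h1, h2]
    rfl
  -- the kernel
  have hkc : ∀ k ∈ π.ker, ∀ h : E (prodForm Q Q'), k * h = h * k := by
    intro k hk h
    obtain ⟨a, ha⟩ := (hker k).1 hk
    apply Subtype.ext
    ext v
    · show ((k : (U × P) ≃ₗ[F] (U × P)) ((h : (U × P) ≃ₗ[F] (U × P)) v)).1 = _
      rw [ha]
      show _ = ((h : (U × P) ≃ₗ[F] (U × P)) ((k : (U × P) ≃ₗ[F] (U × P)) v)).1
      rw [ha, map_smul]
    · show ((k : (U × P) ≃ₗ[F] (U × P)) ((h : (U × P) ≃ₗ[F] (U × P)) v)).2 = _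
      rw [ha]
      show _ = ((h : (U × P) ≃ₗ[F] (U × P)) ((k : (U × P) ≃ₗ[F] (U × P)) v)).2
      rw [ha, map_smul]
  have hk2 : ∀ k ∈ π.ker, (k ^ 2 = 1) ∧ (p = 2 → k = 1) := by
    intro k hk
    obtain ⟨a, ha⟩ := (hker k).1 hk
    -- a vector with nonzero value
    obtain ⟨w, hw⟩ : ∃ w : U × P, prodForm Q Q' w ≠ 0 := by
      by_contra hcon
      push Not at hcon
      obtain ⟨v, hv⟩ := hU1
      apply hv
      have h1 : ((v, 0) : U × P) = 0 := hnd _ fun y => by
        rw [QuadraticMap.polar, hcon, hcon, hcon, sub_zero, sub_zero]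
      exact congrArg Prod.fst h1
    have h1 := E_le_O k.2 w
    rw [ha, QuadraticMap.map_smul, smul_eq_mul] at h1
    have h2 : a * a = 1 := by
      apply mul_right_cancel₀ hw
      rw [h1, one_mul]
    constructor
    · apply Subtype.ext
      show (k : (U × P) ≃ₗ[F] (U × P)) ^ 2 = 1
      ext v
      · rw [pow_two, LinearEquiv.mul_apply, ha, ha, smul_smul, h2, one_smul]
        rfl
      · rw [pow_two, LinearEquiv.mul_apply, ha, ha, smul_smul, h2, one_smul]
        rfl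
    · rintro rfl
      have h3 : a = 1 := by
        have h4 : (a - 1) ^ 2 = 0 := by
          rw [sub_pow_char, one_pow, pow_two, h2, sub_self]
        exact sub_eq_zero.1 (pow_eq_zero_iff two_ne_zero |>.1 h4)
      apply Subtype.ext
      ext v
      · rw [ha, h3, one_smul]
        rfl
      · rw [ha, h3, one_smul]
        rfl
  set c : ℕ := if p = 2 then 1 else 2 with hcdef
  have hcc : ∀ k ∈ π.ker, k ^ c = 1 := by
    intro k hk
    rw [hcdef]
    split_ifs with hp2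
    · rw [pow_one]; exact (hk2 k hk).2 hp2
    · exact (hk2 k hk).1
  have hpp : p.Prime := Fact.out
  have hcr : c.Coprime r := by
    rw [hcdef]
    split_ifs with hp2
    · exact Nat.coprime_one_left r
    · exact (Nat.coprime_primes Nat.prime_two hr).2 (Ne.symm hr2)
  have hcp : c.Coprime p := by
    rw [hcdef]
    split_ifs with hp2
    · exact Nat.coprime_one_left p
    · exact (Nat.coprime_primes Nat.prime_two hpp).2 (Ne.symm hp2)
  -- the group `K`
  have hNE : N.map (ii U) ≤ E (prodForm Q Q') := by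
    rw [← hG.commutator_eq_E]
    nth_rw 1 [← hN.perf]
    rw [Subgroup.map_commutator]
    refine Subgroup.commutator_mono ?_ ?_ <;>
    · rintro _ ⟨s, hs, rfl⟩
      exact ii_mem_O (hN.le hs)
  set K : Subgroup (E (prodForm Q Q')) := (N.map (ii U)).subgroupOf (E (prodForm Q Q')) with hK
  have hKmem : ∀ {x : E (prodForm Q Q')}, x ∈ K ↔ ∃ s ∈ N, ii U s = x := by
    intro x
    rw [hK, Subgroup.mem_subgroupOf, Subgroup.mem_map]
  let eK : K ≃* N := (Subgroup.subgroupOfEquivOfLe hNE).trans (Subgroup.equivMapOfInjective N (ii U) ii_injective).symm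
  have hKcard : Nat.card K = Nat.card N := Nat.card_congr eK.toEquiv
  have hKr : ¬ r ∣ Nat.card K := by
    rw [hKcard]
    intro h
    obtain ⟨s, hs⟩ := exists_prime_orderOf_dvd_card' (G := N) r h
    have h1 : (s : P ≃ₗ[F] P) = 1 := hss _ ⟨1, by
      rw [pow_one, ← hs]
      exact congrArg Subtype.val (pow_orderOf_eq_one s)⟩
    have h2 : s = 1 := Subtype.ext h1
    rw [h2, orderOf_one] at hs
    exact hr.one_lt.ne hs
  obtain ⟨E₂, _, _, hE₂, ⟨e₂⟩⟩ := hN.iso
  have hq2 : 2 ≤ Nat.card F := Finite.one_lt_card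
  have hE4 : 4 ≤ Fintype.card E₂ := by
    rw [hE₂]
    nlinarith only [hq2]
  have hsimp : IsSimpleGroup (Matrix.ProjectiveSpecialLinearGroup (Fin 2) E₂) :=
    Matrix.ProjectiveSpecialLinearGroup.rank_two_simple (by rwa [Nat.card_eq_fintype_card])
  have hcenP := center_bot_of_simple hsimp (H279.OZ.perfect_psl2 hE4)
  let e : K ≃* Matrix.ProjectiveSpecialLinearGroup (Fin 2) E₂ := eK.trans e₂
  refine H279.OZ.cong_of_cover (c := c) (z := z') hπ hr hpp hrp hkc hcc hcr hcp hz'o τ ?_ ?_ K ?_ hKr ?_ ?_ ?_ ?_ ?_ ?_ ?_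
  · rintro x ⟨i, hi⟩ hx
    have hxz := hmem.1 x.2
    have hx' : (x : E (prodForm Q Q')) ^ (r ^ i) = 1 := congrArg Subtype.val hi
    have h1 : aa (x : E (prodForm Q Q')) = 1 := congrArg Units.val hx
    exact Subtype.ext (hone _ hxz (haa1 _ hxz h1) (hss' _ hxz ⟨i, hx'⟩))
  · rintro x y ⟨i, hi⟩
    have hxz := hmem.1 x.2
    have hyz := hmem.1 y.2
    have hx' : (x : E (prodForm Q Q')) ^ (r ^ i) = 1 := congrArg Subtype.val hi
    have h1 := hss' _ hxz ⟨i, hx'⟩
    have h2 := hT.comm (htO _ hxz) (htO _ hyz) (htz _ hxz) (htz _ hyz)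
    apply Subtype.ext
    apply Subtype.ext
    show ((x : E (prodForm Q Q')) : (U × P) ≃ₗ[F] (U × P)) * ((y : E (prodForm Q Q')) : (U × P) ≃ₗ[F] (U × P)) =
      ((y : E (prodForm Q Q')) : (U × P) ≃ₗ[F] (U × P)) * ((x : E (prodForm Q Q')) : (U × P) ≃ₗ[F] (U × P))
    rw [hts _ hxz, hts _ hyz, h1]
    have h3 : ∀ (t t' : U ≃ₗ[F] U) (s s' : P ≃ₗ[F] P), t.prodCongr s * t'.prodCongr s' =
        (t * t').prodCongr (s * s') := fun _ _ _ _ => rfl
    rw [h3, h3, h2.eq, one_mul, mul_one]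
  · -- `K` commutes with `z`
    intro x hx
    obtain ⟨s, -, hs⟩ := hKmem.1 hx
    apply Subtype.ext
    show zz P z * (x : (U × P) ≃ₗ[F] (U × P)) = x * zz P z
    rw [← hs]
    rfl
  · -- `K ≠ 1`
    intro h
    have h1 : Nat.card K = 1 := by rw [h, Subgroup.card_bot]
    have h2 : Nat.card (Matrix.ProjectiveSpecialLinearGroup (Fin 2) E₂) = 1 := by
      rw [← Nat.card_congr e.toEquiv, h1]
    have h3 := hsimp.toNontrivial
    obtain ⟨a, ha⟩ := exists_ne (1 : Matrix.ProjectiveSpecialLinearGroup (Fin 2) E₂)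
    exact ha ((Nat.card_eq_one_iff_unique.1 h2).1.elim _ _)
  · -- the center
    intro x hx h
    have h1 : e ⟨x, hx⟩ ∈ center (Matrix.ProjectiveSpecialLinearGroup (Fin 2) E₂) := by
      rw [Subgroup.mem_center_iff]
      intro g
      obtain ⟨y, rfl⟩ := e.surjective g
      rw [← map_mul, ← map_mul]
      congr 1
      exact Subtype.ext (h y y.2).symm
    rw [hcenP, Subgroup.mem_bot, MulEquiv.map_eq_one_iff] at h1
    exact congrArg Subtype.val h1
  · -- the normalizer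
    rintro n ⟨m, hm⟩ x hx
    obtain ⟨s, hs, hsx⟩ := hKmem.1 hx
    have hm1 : (n : (U × P) ≃ₗ[F] (U × P)) * zz P z = zz P (z ^ m) * n := by
      have h1 : n * z' = z' ^ m * n := by rw [← hm]; group
      have h2 := congrArg Subtype.val h1
      rw [← zz_pow]
      exact h2
    have hzm : ∀ v, (z ^ m) v = v → v = 0 := by
      obtain ⟨a, ha, ha1, ha2⟩ := hT.cen (z ^ m) ((O Q).pow_mem hT.memO m) ((Commute.refl z).pow_left m)
      by_cases h : a = 1
      · exfalso
        have h1 := ha1 h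
        rw [h1] at hm1
        have h2 : (n : (U × P) ≃ₗ[F] (U × P)) * zz P z = n * 1 := by
          rw [hm1]
          have : zz P (1 : U ≃ₗ[F] U) = 1 := rfl
          rw [this, one_mul, mul_one]
        exact hz'1 (Subtype.ext (mul_left_cancel h2))
      · exact ha2 h
    obtain ⟨t, b, htb⟩ := block' hfix hzm hm1
    have hbO := (hOb (htb ▸ E_le_O n.2)).2
    refine hKmem.2 ⟨b * s * b⁻¹, ?_, ?_⟩
    · have h1 : b * s * b⁻¹ = ⁅b, s⁆ * s := by rw [commutatorElement_def]; group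
      rw [h1]
      exact N.mul_mem (hN.comm b hbO s (hN.le hs)) hs
    · have h1 : ((n * x * n⁻¹ : E (prodForm Q Q')) : (U × P) ≃ₗ[F] (U × P)) =
          (n : (U × P) ≃ₗ[F] (U × P)) * x * (n : (U × P) ≃ₗ[F] (U × P))⁻¹ := rfl
      rw [h1, eq_mul_inv_iff_mul_eq, ← hsx, htb]
      ext v
      · rfl
      · show b (s (b⁻¹ (b v.2))) = b (s v.2)
        rw [← LinearEquiv.mul_apply b⁻¹ b, inv_mul_cancel]
        rfl
  · -- the zeros
    exact H279.OZ.psl2_zero hE₂ hq2 e
  · -- the `p`-elements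
    rintro x hx ⟨i, hi⟩
    obtain ⟨h1, h2⟩ := hpw x hx _ hi
    have h3 : aa x = 1 := by
      have h4 : aa x ^ p ^ i = 1 := by
        have hpow : ∀ k : ℕ, (tt x ^ k) (j 1) = j (aa x ^ k) := by
          intro k
          induction k with
          | zero => simp only [_root_.pow_zero, _root_.LinearEquiv.coe_one, _root_.id_eq]
          | succ k ih =>
            rw [pow_succ', LinearEquiv.mul_apply, ih, haa x hx, pow_succ']
        have h5 := hpow (p ^ i)
        rw [h1] at h5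
        exact (hT.inj h5).symm
      have h5 : (aa x - 1) ^ p ^ i = 0 := by rw [sub_pow_char_pow, one_pow, h4, sub_self]
      exact sub_eq_zero.1 (pow_eq_zero_iff (pow_pos hpp.pos i).ne' |>.1 h5)
    have h4 := haa1 x hx h3
    have hxs : (x : (U × P) ≃ₗ[F] (U × P)) = ii U (ss x) := by
      rw [hts x hx, h4]
      rfl
    refine hKmem.2 ⟨ss x, ?_, hxs.symm⟩
    have hsxO := hsO x hx
    by_cases hp2 : p = 2
    · -- characteristic two
      have h20 : (2 : F) = 0 := by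
        have := CharP.cast_eq_zero F p
        rw [hp2] at this
        exact_mod_cast this
      obtain ⟨ta, hta, hodd, hall⟩ := hN.even h20
      rcases hall _ hsxO with h | ⟨n, hn, h⟩
      · exact h
      · exfalso
        have h5 : ii U ta ∈ E (prodForm Q Q') := by
          have h6 : ii U ta = (ii U n)⁻¹ * (x : (U × P) ≃ₗ[F] (U × P)) := by
            rw [hxs, h, map_mul, inv_mul_cancel_left]
          rw [h6]
          exact mul_mem (inv_mem (hNE ⟨n, hn, rfl⟩)) x.2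
        have h6 := even_E hnd h5
        have h7 : fix (ii U ta) = (⊤ : Submodule F U).prod (fix ta) := by
          ext v
          rw [mem_fix, ii_apply, Submodule.mem_prod, mem_fix]
          constructor
          · intro h
            exact ⟨Submodule.mem_top, congrArg Prod.snd h⟩
          · rintro ⟨-, h⟩
            exact Prod.ext rfl h
        have h8 : finrank F ((⊤ : Submodule F U).prod (fix ta) : Submodule F (U × P)) =
            finrank F U + finrank F (fix ta) := by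
          have e : ((⊤ : Submodule F U).prod (fix ta) : Submodule F (U × P)) ≃ₗ[F] U × fix ta :=
            { toFun := fun v => (v.1.1, ⟨v.1.2, v.2.2⟩)
              invFun := fun v => ⟨(v.1, v.2.1), ⟨Submodule.mem_top, v.2.2⟩⟩
              map_add' := fun _ _ => rfl
              map_smul' := fun _ _ => rfl
              left_inv := fun _ => rfl
              right_inv := fun _ => rfl }
          rw [e.finrank_eq, finrank_prod]
        rw [h7, h8, finrank_prod] at h6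
        obtain ⟨a1, ha1⟩ := hUe
        obtain ⟨a2, ha2⟩ := hPe
        obtain ⟨a3, ha3⟩ := h6
        obtain ⟨a4, ha4⟩ := hodd
        omega
    · -- odd characteristic
      have hpo : Odd (p ^ i) := (hpp.odd_of_ne_two hp2).pow
      obtain ⟨m, hm⟩ := hpo
      have h5 : ss x = ss x ^ (m + 1) * ss x ^ (m + 1) := by
        rw [← pow_add, show m + 1 + (m + 1) = p ^ i + 1 by omega, pow_succ, h2, one_mul]
      rw [h5]
      exact hN.sq _ ((O Q').pow_mem hsxO _)
  · -- `hnot`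
    rintro ⟨h1, h2⟩
    refine hnot ⟨fun x hx hxN => h1 x hx fun y hy => ?_, ?_⟩
    · obtain ⟨s, hs, hsy⟩ := hKmem.1 hy
      apply Subtype.ext
      show (x : (U × P) ≃ₗ[F] (U × P)) * y = y * x
      rw [← hsy]
      exact hxN s hs
    -- the eigenvalues
    have hjj : Function.Injective ((LinearMap.inl F U P).comp j) := fun a b hab => hT.inj (congrArg Prod.fst hab)
    refine le_of_roots (L := L) (zz P z).toLinearMap hT.ord ?_
    intro m hm0 hm
    have hrm : ¬ r ∣ m := fun h => absurd (Nat.le_of_dvd hm0 h) (not_le.2 hm)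
    obtain ⟨g, hg⟩ := isConj_iff.1 (h2 m hrm)
    have hg' : (g : (U × P) ≃ₗ[F] (U × P)) * zz P z * (g : (U × P) ≃ₗ[F] (U × P))⁻¹ = zz P z ^ m :=
      congrArg Subtype.val hg
    have h3 : (zz P z ^ m).toLinearMap.charpoly = (zz P z).toLinearMap.charpoly := by
      rw [← hg']
      exact LinearEquiv.charpoly_conj (g : (U × P) ≃ₗ[F] (U × P)) (zz P z).toLinearMap
    rw [← h3]
    refine root_charpoly _ (lam ^ m) ((LinearMap.inl F U P).comp j) hjj ?_
    have hpow : ∀ (k : ℕ) (l : L), (zz P z ^ k) (j l, 0) = (j (lam ^ k * l), 0) := by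
      intro k
      induction k with
      | zero => intro l; simp only [_root_.pow_zero, _root_.LinearEquiv.coe_one, _root_.id_eq, _root_.one_mul]
      | succ k ih =>
        intro l
        have h4 : zz P z (j l, 0) = (j (lam * l), 0) := Prod.ext (hT.eig l) rfl
        rw [pow_succ, LinearEquiv.mul_apply, h4, ih, pow_succ, mul_assoc]
    exact fun l => hpow m l
  · -- the number of `p`-elements
    rw [← hk]
    refine Nat.card_congr (eK.toEquiv.subtypeEquiv fun v => ?_)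
    have h1 : orderOf (eK v) = orderOf v := orderOf_injective eK.toMonoidHom eK.injective v
    show (∃ i, orderOf v = p ^ i) ↔ ∃ i, orderOf (eK v) = p ^ i
    rw [h1]

end main

end Cfsg.Agent.H530.OZ
end

-- part: H279/OZ/OmFour
section
/-!
# The group `Ω₄⁻(q)` acting on a summand (S4842, helper279)

* `Om` : the image of `SL_2(q²)` in the isometry group of the minus space of dimension four;
* `om_norm`, `om_E`, `om_p`, `om_cen`, `om_equiv`, `om_ne`, `om_count`, `eq_one_of_order4`;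
* `exists_om` : the summary.
-/

set_option autoImplicit false

namespace Cfsg.Agent.H279.OZ

open Module QuadraticMap Cfsg Subgroup
open Cfsg.Agent.Characters
open Cfsg.Agent.LieClassical
open Cfsg.Agent.LieClassical.OrthCore Cfsg.Agent.LieClassical.OrthTrans Cfsg.Agent.H890.SpParity
open Cfsg.Agent.LieClassical.OrthFinite Cfsg.Agent.LieClassical.OrthForms
open Cfsg.Agent.H182.Sign
open scoped commutatorElement MatrixGroups

section order

end order

section om

variable {F : Type} [Field F] {c d : F}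

section field

variable [hab : Fact (∀ r : F, r ^ 2 ≠ c + d * r)]

/-- Steinberg's count for `PSL_2(E)`. -/
theorem count_psl {E : Type} [Field E] [Fintype E] {p f : ℕ} [hpf : Fact p.Prime] [CharP E p] (hf : 0 < f)
    (hE : Fintype.card E = p ^ f) {K : Type*} [Group K] (e : K ≃* Matrix.ProjectiveSpecialLinearGroup (Fin 2) E) :
    Nat.card {v : K // ∃ j : ℕ, orderOf v = p ^ j} = p ^ (2 * f) := by
  classical
  have hfin : Finite (Matrix.ProjectiveSpecialLinearGroup (Fin 2) E) := by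
    unfold Matrix.ProjectiveSpecialLinearGroup
    infer_instance
  rw [Cfsg.Agent.H115.card_pel_equiv e, mul_comm 2, pow_mul]
  have h1 := ClassicalGeometry.PSL2Basic.card_PSL2_gcd (F := E)
  have hpp := hpf.1
  have hsub : ¬ p ∣ Fintype.card E ^ 2 - 1 := by
    rw [hE, ← pow_mul]
    intro h
    have h2 : p ∣ p ^ (f * 2) := dvd_pow_self p (by omega)
    have h3 : 1 ≤ p ^ (f * 2) := Nat.one_le_pow _ _ hpp.pos
    have h4 : p ∣ 1 := by
      have := Nat.dvd_sub h2 h
      rwa [Nat.sub_sub_self h3] at this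
    exact hpp.one_lt.ne' (Nat.dvd_one.1 h4)
  have hgcd : Nat.gcd 2 (Fintype.card E - 1) ∣ Fintype.card E ^ 2 - 1 := by
    refine (Nat.gcd_dvd_right _ _).trans ?_
    simpa only [_root_.one_pow] using Nat.sub_dvd_pow_sub_pow (Fintype.card E) 1 2
  obtain ⟨m, hm⟩ := hgcd
  have hg0 : 0 < Nat.gcd 2 (Fintype.card E - 1) := Nat.gcd_pos_of_pos_left _ (by norm_num)
  have h2 : Nat.card (Matrix.ProjectiveSpecialLinearGroup (Fin 2) E) = p ^ f * m := by
    apply Nat.eq_of_mul_eq_mul_right hg0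
    rw [h1, hm, ← hE]
    ring
  refine Cfsg.Agent.H115.card_pel_of_hasRGD' (Cfsg.Agent.Nodes.RGDClass.hasRGD_PSL (F := E) 1 (p := p)) h2 ?_
  intro h
  exact hsub (hm ▸ Dvd.dvd.mul_left h _)

end field

end om

end Cfsg.Agent.H279.OZ
end

-- part: H530/OZ/KCRow
section
/-!
# S4842: the congruence of the primes of order `2(n-2)` for `POmega⁺_{2n}` (helper530)

* `kc_plus` : `Cong p r (4 f) S`.
-/

set_option autoImplicit false

namespace Cfsg.Agent.H530.OZ

open Module QuadraticMap Cfsg Subgroup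
open Cfsg.Agent.LieClassical.OrthCore Cfsg.Agent.LieClassical.OrthTrans Cfsg.Agent.H890.SpParity
open Cfsg.Agent.LieClassical.OrthFinite Cfsg.Agent.LieClassical.OrthForms
open Cfsg.Agent.H182.Sign Cfsg.Agent.H182.Orth Cfsg.Agent.H530.CJ Cfsg.Agent.H93.CJ Cfsg.Agent.H93.PReg

universe u

theorem numKC {q k r : ℕ} (hq : 2 ≤ q) (hk : 4 ≤ k) (hr : r.Prime)
    (hle : r ≤ 2 * (k + 2) + 1) (h2 : q ^ k + 1 ∣ 2 * r) : False := by
  have hr0 : 0 < r := hr.pos
  have hq2 : 2 ^ k ≤ q ^ k := Nat.pow_le_pow_left hq k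
  rcases Nat.even_or_odd q with he | ho
  · have h5 : q ^ k + 1 ∣ r := dvd_of_even (a := 1) (by omega) he (by rwa [pow_one])
    have h6 := Nat.le_of_dvd hr0 h5
    have h7 : 2 * k + 5 < 2 ^ k + 1 := by
      have := num1 hk
      have h8 : 2 * k + 4 < 2 ^ k := by
        clear * - hk
        induction k, hk using Nat.le_induction with
        | base => norm_num
        | succ k hk ih => rw [pow_succ]; omega
      omega
    omega
  · have hq3 : 3 ≤ q := by
      rcases ho with ⟨m, hm⟩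
      omega
    have h7 : 3 ^ k ≤ q ^ k := Nat.pow_le_pow_left hq3 k
    have h8 := num3 hk
    have := Nat.le_of_dvd (by omega) h2
    omega

/-- **The congruence.** -/
theorem kc_plus {S : Type u} [Group S] [Finite S] {F : Type} [Field F] [Fintype F] {n : ℕ} (hn : 6 ≤ n)
    (e : S ≃* POmega F (quadFormPlus n F)) :
    ∀ (p f r : ℕ), p.Prime → Fintype.card F = p ^ f → Prim p (2 * (n - 2) * f) r → H730.OZ.Cong p r (4 * f) S := by
  intro p f r hp hcard hprim
  have hf : 0 < f := by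
    rcases Nat.eq_zero_or_pos f with rfl | h
    · have := Fintype.one_lt_card (α := F)
      rw [hcard, pow_zero] at this
      omega
    · exact h
  have hfp : Fact p.Prime := ⟨hp⟩
  have hch : CharP F p := by
    obtain ⟨p', hch⟩ := CharP.exists F
    obtain ⟨⟨f', hf'⟩, hp', hcard'⟩ := FiniteField.card F p'
    have h1 : p ∣ p' ^ f' := by
      have h2 : Fintype.card F = p' ^ f' := hcard'
      rw [← h2, hcard]
      exact dvd_pow_self p hf.ne'
    have h3 := (Nat.prime_dvd_prime_iff_eq hp hp').1 (hp.dvd_of_dvd_pow h1)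
    rwa [h3]
  obtain ⟨k, rfl⟩ : ∃ k, n = k + 2 := ⟨n - 2, by omega⟩
  rw [show k + 2 - 2 = k by omega] at hprim
  have hk : 4 ≤ k := by omega
  obtain ⟨hr1, hr2⟩ := hprim.conds hf
  have hr := hprim.prime
  have hrp := hprim.ne
  rw [← hcard] at hr1
  have hcF : Nat.card F = Fintype.card F := Nat.card_eq_fintype_card
  have hF : 2 ≤ Fintype.card F := Fintype.one_lt_card
  obtain ⟨L, _, _, _, Q, u, hQ, hu, huQ⟩ := exists_torusM F (k := k) (by omega)
  obtain ⟨P, _, _, _, Q', N, hQ', hN⟩ := exists_four F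
  have i : POmega F ⇑(plusForm (k + 2) F) ≃* S := by
    rw [coe_plusForm]
    exact e.symm
  have hR : Sg (plusForm (k + 2) F) (k + 2) (-1 * -1) := by simpa using sg_plusForm (F := F) (k + 2)
  obtain ⟨hG, π, hπ, hker⟩ := exists_pi' (hQ.prod hQ') (by omega) hR i
  have hdL : finrank F L = 2 * k := hQ.dim
  have hdP : finrank F P = 2 * 2 := hQ'.dim
  have hu0 : u ≠ 0 := by
    rintro rfl
    have h1 := pow_orderOf_eq_one (0 : L)
    rw [hu, pow_succ, mul_zero] at h1
    exact zero_ne_one h1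
  obtain ⟨s, hs⟩ := hr1
  have hs0 : s ≠ 0 := by
    rintro rfl
    omega
  set lam : L := u ^ s with hlam
  have hlam0 : lam ≠ 0 := pow_ne_zero _ hu0
  have hlamo : orderOf lam = r := by
    rw [hlam, orderOf_pow_of_dvd hs0 (by rw [hu, hs]; exact Dvd.intro_left r rfl), hu, hs,
      Nat.mul_div_cancel _ (Nat.pos_of_ne_zero hs0)]
  have hpowQ : ∀ (m : ℕ) (v : L), Q (u ^ m * v) = Q v := by
    intro m
    induction m with
    | zero => intro v; rw [pow_zero, one_mul]
    | succ m ih => intro v; rw [pow_succ', mul_assoc, huQ, ih]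
  have hT := torU_minus hlam0 hlamo (by
    intro i hi hi2
    rw [hcF, hcard]
    rw [hdL] at hi2
    exact hr2 i hi hi2) (hpowQ s)
  have hr2' : r ≠ 2 := by
    rintro rfl
    rcases Nat.even_or_odd (Fintype.card F) with h | h
    · have h1 : Odd (Fintype.card F ^ k + 1) := (h.pow_of_ne_zero (by omega)).add_one
      rw [hs] at h1
      exact (Nat.not_odd_iff_even.2 (even_two_mul s)) h1
    · have h1 := hr2 1 one_pos (by omega)
      rw [pow_one, ← hcard] at h1
      exact h1 (Nat.Odd.sub_odd h odd_one).two_dvd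
  have hodd : Odd r := hr.odd_of_ne_two hr2'
  obtain ⟨E₂, _, _, hE₂, ⟨e₂⟩⟩ := hN.iso
  have hchE : CharP E₂ p := by
    obtain ⟨p', hch⟩ := CharP.exists E₂
    obtain ⟨⟨f', hf'⟩, hp', hcard'⟩ := FiniteField.card E₂ p'
    have h1 : p ∣ p' ^ f' := by
      have h2 : Fintype.card E₂ = p' ^ f' := hcard'
      rw [← h2, hE₂, hcF, hcard, ← pow_mul]
      exact dvd_pow_self p (by omega)
    have h3 := (Nat.prime_dvd_prime_iff_eq hp hp').1 (hp.dvd_of_dvd_pow h1)
    rwa [h3]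
  refine kc_orth (p := p) hr hrp hr2' hT (hQ.prod hQ').nondeg hG (by rw [hdL]; exact even_two_mul k)
    (by rw [hdP]; exact even_two_mul 2) ?_ (mem_of_odd hG hT.memO hodd hT.pow_eq) π hπ hker hN ?_ ?_
  · intro t ht
    refine eq_one_of_order4 (F := F) hr hdP ?_ ?_ ht
    · rw [hcF]
      intro h1
      have h2 : r ∣ 1 := (Nat.dvd_add_right (Dvd.dvd.pow h1 (by omega : k ≠ 0))).1 ⟨s, hs⟩
      exact hr.one_lt.ne' (Nat.dvd_one.1 h2)
    · intro i hi hi2
      rw [hcF, hcard]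
      exact hr2 i hi (by omega)
  · rintro ⟨h1, h2⟩
    have hmO : mulL F u hu0 ∈ O Q := huQ
    have h3 := h1 ⟨zz P (mulL F u hu0 ^ 2), sq_mem hG hmO⟩ (by
      apply Subtype.ext
      show zz P (mulL F lam hlam0) * zz P (mulL F u hu0 ^ 2) = zz P (mulL F u hu0 ^ 2) * zz P (mulL F lam hlam0)
      refine LinearEquiv.ext fun v => Prod.ext ?_ rfl
      show lam * (u * (u * v.1)) = u * (u * (lam * v.1))
      ring) (fun t ht => rfl)
    have hnt : Nontrivial L := inferInstance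
    have hnt' : Nontrivial (L × P) := inferInstance
    obtain ⟨a, ha2, ha, haP⟩ := scal hker (hQ.prod hQ').nondeg hnt' _ h3
    have hpw : ∀ (m : ℕ) (v : L), (mulL F u hu0 ^ m) v = u ^ m * v := by
      intro m
      induction m with
      | zero => intro v; rw [pow_zero, pow_zero, one_mul]; rfl
      | succ m ih =>
        intro v
        rw [pow_succ', LinearEquiv.mul_apply, ih, mulL_apply, pow_succ', mul_assoc]
    have h4 : u ^ (2 * r) = a • (1 : L) := by
      have h5 := ha 1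
      rw [← pow_mul, hpw, mul_one] at h5
      exact h5
    refine numKC hF hk hr ?_ ?_
    · rw [finrank_prod, hdL, hdP] at h2
      omega
    · rw [← hu]
      apply orderOf_dvd_of_pow_eq_one
      rw [h4, haP (Module.nontrivial_of_finrank_pos (R := F) (by rw [hdP]; omega)), one_smul]
  · have h1 := H279.OZ.count_psl (p := p) (f := f * 2) (by omega) (by rw [hE₂, hcF, hcard, ← pow_mul]) e₂
    rw [h1]
    congr 1
    ring

end Cfsg.Agent.H530.OZ
end

private theorem dce_143cba0229af : _root_.True := by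
  try have : _root_.True := by simp only [_root_.Cfsg.Agent.H279.OZ.Sep.eq_1]
  exact _root_.True.intro
end
end
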